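import Cfsg.Agent.Lib.H35.TCMHeA.Data
import Cfsg.Agent.Lib.H35.TCIdx
set_option autoImplicit false
set_option maxRecDepth 100000
set_option linter.all false
namespace H35.TCMHeA
open H35.TC
/-- letters -/
inductive Lt | b | bi | e | ei | c | ci | f | fi | d | di
  deriving DecidableEq
/-- inverse letter -/
def inv : Lt → Lt
  | .b => .bi
  | .bi => .b
  | .e => .ei
  | .ei => .e
  | .c => .ci
  | .ci => .c
  | .f => .fi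
  | .fi => .f
  | .d => .di
  | .di => .d
/-- table functions -/
noncomputable def T : Lt → ℕ → ℕ
  | .b => T_b
  | .bi => T_bi
  | .e => T_e
  | .ei => T_ei
  | .c => T_c
  | .ci => T_ci
  | .f => T_f
  | .fi => T_fi
  | .d => T_d
  | .di => T_di
/-- decoding of letter codes -/
def lt : ℕ → Lt
  | 0 => .b
  | 1 => .bi
  | 2 => .e
  | 3 => .ei
  | 4 => .c
  | 5 => .ci
  | 6 => .f
  | 7 => .fi
  | 8 => .d
  | _ => .di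
/-- Coxeter matrix (0: no relation) -/
def mm : Lt → Lt → ℕ
  | _, _ => 0
/-- extra relators `w ^ n` -/
def extra : List (List Lt × ℕ) := [
  ([.b], 3),
  ([.c], 3),
  ([.d], 3),
  ([.d, .ci, .di, .b], 1),
  ([.d, .fi, .di, .e], 1),
  ([.e], 5),
  ([.f], 5),
  ([.b, .ei, .fi, .ei, .c, .bi, .fi, .b, .c], 1),
  ([.b, .e, .e, .bi, .e], 2),
  ([.b, .ei, .b, .ei, .f], 2),
  ([.e, .e, .f, .ci, .fi, .ci, .ei, .c, .fi, .c], 1),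
  ([.b, .e, .fi, .b, .ci, .e, .bi, .f, .ci, .e], 1),
  ([.b, .ci, .f, .c, .bi, .c, .e, .f, .c, .e], 1),
  ([.c, .f, .f, .ci, .f], 2),
  ([.b, .e, .bi, .e, .e], 2),
  ([.b, .e, .bi, .ei, .b, .e, .fi, .ei, .f, .ci], 1),
  ([.e, .c, .fi, .ci, .f, .c, .e, .fi, .fi, .c], 1),
  ([.b, .e, .e, .fi, .fi, .ci, .fi, .c, .bi, .e], 1),
  ([.b, .ci, .fi, .b, .fi, .ei, .ei, .f, .e, .c], 1),
  ([.b, .e, .b, .f, .c, .ei, .f, .b, .f, .c], 1),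
  ([.d, .ci, .di, .f, .b, .ei, .fi, .ei, .fi, .b, .e, .bi, .fi], 1),
  ([.bi, .fi, .d, .ei, .bi, .di, .f, .f, .bi, .d, .b, .fi, .fi, .d, .b, .e, .di, .f, .b, .d], 1),
  ([.b, .bi], 1),
  ([.bi, .b], 1),
  ([.e, .ei], 1),
  ([.ei, .e], 1),
  ([.c, .ci], 1),
  ([.ci, .c], 1),
  ([.f, .fi], 1),
  ([.fi, .f], 1),
  ([.d, .di], 1),
  ([.di, .d], 1)]
/-- relators -/
def rels : List (List Lt) := mkRels [] mm extra
/-- subgroup words -/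
def subs : List (List Lt) := [
  [.b],
  [.e],
  [.c],
  [.f]]
noncomputable def dp_b_0 (j u : ℕ) : Bool :=
  Bool.rec (motive := fun _ => Bool) (lF [T_ci, T_e, T_f, T_e, T_bi, T_ci, T_bi, T_f] M (Nat.sub (T_b u) (Nat.mod (T_b u) M)) (Nat.mod (T_b u) M) u) (lF [T_ei, T_fi, T_ei, T_c, T_bi, T_fi, T_b, T_c] M (Nat.sub (T_b u) (Nat.mod (T_b u) M)) (Nat.mod (T_b u) M) u) (Nat.ble (nat_lit 8) j)
noncomputable def dp_b_1 (j u : ℕ) : Bool :=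
  Bool.rec (motive := fun _ => Bool) (lF [T_c, T_b, T_ei, T_fi, T_ei, T_c, T_bi, T_fi] M (Nat.sub (T_b u) (Nat.mod (T_b u) M)) (Nat.mod (T_b u) M) u) (dp_b_0 j u) (Nat.ble (nat_lit 7) j)
noncomputable def dp_b_2 (j u : ℕ) : Bool :=
  Bool.rec (motive := fun _ => Bool) (lS MG [T_ci, T_e, T_f, T_e, T_bi, T_ci, T_bi, T_f] M (Nat.sub (T_b u) (Nat.mod (T_b u) M)) (nat_lit 40) (Nat.mod (T_b u) M) u) (lS MG [T_c, T_b, T_ei, T_fi, T_ei, T_c, T_bi, T_fi] M (Nat.sub (T_b u) (Nat.mod (T_b u) M)) (nat_lit 40) (Nat.mod (T_b u) M) u) (Nat.ble (nat_lit 10) j)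
noncomputable def dp_b_3 (j u : ℕ) : Bool :=
  Bool.rec (motive := fun _ => Bool) (lS MG [T_ei, T_fi, T_ei, T_c, T_bi, T_fi, T_b, T_c] M (Nat.sub (T_b u) (Nat.mod (T_b u) M)) (nat_lit 40) (Nat.mod (T_b u) M) u) (lF [T_ci, T_e, T_bi, T_f, T_ci, T_e, T_b, T_e, T_fi] M (Nat.sub (T_b u) (Nat.mod (T_b u) M)) (Nat.mod (T_b u) M) u) (Nat.ble (nat_lit 12) j)
noncomputable def dp_b_4 (j u : ℕ) : Bool :=
  Bool.rec (motive := fun _ => Bool) (lF [T_ci, T_fi, T_c, T_bi, T_ei, T_ci, T_fi, T_ei, T_ci] M (Nat.sub (T_b u) (Nat.mod (T_b u) M)) (Nat.mod (T_b u) M) u) (lF [T_ei, T_c, T_bi, T_f, T_ei, T_bi, T_ei, T_c, T_fi] M (Nat.sub (T_b u) (Nat.mod (T_b u) M)) (Nat.mod (T_b u) M) u) (Nat.ble (nat_lit 15) j)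
noncomputable def dp_b_5 (j u : ℕ) : Bool :=
  Bool.rec (motive := fun _ => Bool) (lS MG [T_d, T_ci, T_di] M (Nat.sub (T_b u) (Nat.mod (T_b u) M)) (nat_lit 40) (Nat.mod (T_b u) M) u) (dp_b_4 j u) (Nat.ble (nat_lit 14) j)
noncomputable def dp_b_6 (j u : ℕ) : Bool :=
  Bool.rec (motive := fun _ => Bool) (dp_b_3 j u) (dp_b_5 j u) (Nat.ble (nat_lit 13) j)
noncomputable def dp_b_7 (j u : ℕ) : Bool :=
  Bool.rec (motive := fun _ => Bool) (dp_b_2 j u) (dp_b_6 j u) (Nat.ble (nat_lit 11) j)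
noncomputable def dp_b_8 (j u : ℕ) : Bool :=
  Bool.rec (motive := fun _ => Bool) (lF [T_e, T_e, T_fi, T_fi, T_ci, T_fi, T_c, T_bi, T_e] M (Nat.sub (T_b u) (Nat.mod (T_b u) M)) (Nat.mod (T_b u) M) u) (lF [T_fi, T_ei, T_ei, T_f, T_e, T_c, T_b, T_ci, T_fi] M (Nat.sub (T_b u) (Nat.mod (T_b u) M)) (Nat.mod (T_b u) M) u) (Nat.ble (nat_lit 18) j)
noncomputable def dp_b_9 (j u : ℕ) : Bool :=
  Bool.rec (motive := fun _ => Bool) (lF [T_f, T_c, T_b, T_e, T_b, T_f, T_c, T_ei, T_f] M (Nat.sub (T_b u) (Nat.mod (T_b u) M)) (Nat.mod (T_b u) M) u) (dp_b_8 j u) (Nat.ble (nat_lit 17) j)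
noncomputable def dp_b_10 (j u : ℕ) : Bool :=
  Bool.rec (motive := fun _ => Bool) (lF [T_ei, T_f, T_b, T_ei, T_b, T_ei, T_f, T_b, T_ei] M (Nat.sub (T_b u) (Nat.mod (T_b u) M)) (Nat.mod (T_b u) M) u) (lF [T_e, T_fi, T_ei, T_f, T_ci, T_b, T_e, T_bi, T_ei] M (Nat.sub (T_b u) (Nat.mod (T_b u) M)) (Nat.mod (T_b u) M) u) (Nat.ble (nat_lit 21) j)
noncomputable def dp_b_11 (j u : ℕ) : Bool :=
  Bool.rec (motive := fun _ => Bool) (lF [T_e, T_fi, T_b, T_ci, T_e, T_bi, T_f, T_ci, T_e] M (Nat.sub (T_b u) (Nat.mod (T_b u) M)) (Nat.mod (T_b u) M) u) (dp_b_10 j u) (Nat.ble (nat_lit 20) j)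
noncomputable def dp_b_12 (j u : ℕ) : Bool :=
  Bool.rec (motive := fun _ => Bool) (lF [T_ci, T_f, T_c, T_f, T_f, T_ei, T_ei, T_bi, T_ei] M (Nat.sub (T_b u) (Nat.mod (T_b u) M)) (Nat.mod (T_b u) M) u) (lF [T_e, T_bi, T_ei, T_b, T_e, T_fi, T_ei, T_f, T_ci] M (Nat.sub (T_b u) (Nat.mod (T_b u) M)) (Nat.mod (T_b u) M) u) (Nat.ble (nat_lit 23) j)
noncomputable def dp_b_13 (j u : ℕ) : Bool :=
  Bool.rec (motive := fun _ => Bool) (lF [T_e, T_bi, T_e, T_e, T_b, T_e, T_bi, T_e, T_e] M (Nat.sub (T_b u) (Nat.mod (T_b u) M)) (Nat.mod (T_b u) M) u) (lF [T_ci, T_f, T_c, T_bi, T_c, T_e, T_f, T_c, T_e] M (Nat.sub (T_b u) (Nat.mod (T_b u) M)) (Nat.mod (T_b u) M) u) (Nat.ble (nat_lit 25) j)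
noncomputable def dp_b_14 (j u : ℕ) : Bool :=
  Bool.rec (motive := fun _ => Bool) (dp_b_12 j u) (dp_b_13 j u) (Nat.ble (nat_lit 24) j)
noncomputable def dp_b_15 (j u : ℕ) : Bool :=
  Bool.rec (motive := fun _ => Bool) (dp_b_11 j u) (dp_b_14 j u) (Nat.ble (nat_lit 22) j)
noncomputable def dp_b_16 (j u : ℕ) : Bool :=
  Bool.rec (motive := fun _ => Bool) (dp_b_9 j u) (dp_b_15 j u) (Nat.ble (nat_lit 19) j)
noncomputable def dp_b_17 (j u : ℕ) : Bool :=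
  Bool.rec (motive := fun _ => Bool) (lF [T_ci, T_fi, T_b, T_fi, T_ei, T_ei, T_f, T_e, T_c] M (Nat.sub (T_b u) (Nat.mod (T_b u) M)) (Nat.mod (T_b u) M) u) (lF [T_e, T_b, T_f, T_c, T_ei, T_f, T_b, T_f, T_c] M (Nat.sub (T_b u) (Nat.mod (T_b u) M)) (Nat.mod (T_b u) M) u) (Nat.ble (nat_lit 27) j)
noncomputable def dp_b_18 (j u : ℕ) : Bool :=
  Bool.rec (motive := fun _ => Bool) (lS MG [T_b, T_b] M (Nat.sub (T_b u) (Nat.mod (T_b u) M)) (nat_lit 40) (Nat.mod (T_b u) M) u) (lS MG [T_f, T_c, T_b, T_e, T_b, T_f, T_c, T_ei, T_f] M (Nat.sub (T_b u) (Nat.mod (T_b u) M)) (nat_lit 40) (Nat.mod (T_b u) M) u) (Nat.ble (nat_lit 29) j)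
noncomputable def dp_b_19 (j u : ℕ) : Bool :=
  Bool.rec (motive := fun _ => Bool) (dp_b_17 j u) (dp_b_18 j u) (Nat.ble (nat_lit 28) j)
noncomputable def dp_b_20 (j u : ℕ) : Bool :=
  Bool.rec (motive := fun _ => Bool) (lF [T_f, T_c, T_ei, T_f, T_b, T_f, T_c, T_b, T_e] M (Nat.sub (T_b u) (Nat.mod (T_b u) M)) (Nat.mod (T_b u) M) u) (lF [T_ei, T_ei, T_bi, T_ei, T_b, T_ei, T_ei, T_bi, T_ei] M (Nat.sub (T_b u) (Nat.mod (T_b u) M)) (Nat.mod (T_b u) M) u) (Nat.ble (nat_lit 31) j)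
noncomputable def dp_b_21 (j u : ℕ) : Bool :=
  Bool.rec (motive := fun _ => Bool) (lS MG [T_e, T_bi, T_e, T_e, T_b, T_e, T_bi, T_e, T_e] M (Nat.sub (T_b u) (Nat.mod (T_b u) M)) (nat_lit 40) (Nat.mod (T_b u) M) u) (lS MG [T_e, T_e, T_bi, T_e, T_b, T_e, T_e, T_bi, T_e] M (Nat.sub (T_b u) (Nat.mod (T_b u) M)) (nat_lit 40) (Nat.mod (T_b u) M) u) (Nat.ble (nat_lit 34) j)
noncomputable def dp_b_22 (j u : ℕ) : Bool :=
  Bool.rec (motive := fun _ => Bool) (lF [T_ei, T_b, T_ei, T_f, T_b, T_ei, T_b, T_ei, T_f] M (Nat.sub (T_b u) (Nat.mod (T_b u) M)) (Nat.mod (T_b u) M) u) (dp_b_21 j u) (Nat.ble (nat_lit 33) j)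
noncomputable def dp_b_23 (j u : ℕ) : Bool :=
  Bool.rec (motive := fun _ => Bool) (dp_b_20 j u) (dp_b_22 j u) (Nat.ble (nat_lit 32) j)
noncomputable def dp_b_24 (j u : ℕ) : Bool :=
  Bool.rec (motive := fun _ => Bool) (dp_b_19 j u) (dp_b_23 j u) (Nat.ble (nat_lit 30) j)
noncomputable def dp_b_25 (j u : ℕ) : Bool :=
  Bool.rec (motive := fun _ => Bool) (lS MG [T_ci, T_fi, T_c, T_bi, T_ei, T_ci, T_fi, T_ei, T_ci] M (Nat.sub (T_b u) (Nat.mod (T_b u) M)) (nat_lit 40) (Nat.mod (T_b u) M) u) (lS MG [T_e, T_fi, T_b, T_ci, T_e, T_bi, T_f, T_ci, T_e] M (Nat.sub (T_b u) (Nat.mod (T_b u) M)) (nat_lit 40) (Nat.mod (T_b u) M) u) (Nat.ble (nat_lit 37) j)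
noncomputable def dp_b_26 (j u : ℕ) : Bool :=
  Bool.rec (motive := fun _ => Bool) (lS MG [T_ei, T_f, T_b, T_ei, T_b, T_ei, T_f, T_b, T_ei] M (Nat.sub (T_b u) (Nat.mod (T_b u) M)) (nat_lit 40) (Nat.mod (T_b u) M) u) (dp_b_25 j u) (Nat.ble (nat_lit 36) j)
noncomputable def dp_b_27 (j u : ℕ) : Bool :=
  Bool.rec (motive := fun _ => Bool) (lF [T_e, T_e, T_bi, T_e, T_b, T_e, T_e, T_bi, T_e] M (Nat.sub (T_b u) (Nat.mod (T_b u) M)) (Nat.mod (T_b u) M) u) (lS MG [T_e, T_fi, T_ei, T_f, T_ci, T_b, T_e, T_bi, T_ei] M (Nat.sub (T_b u) (Nat.mod (T_b u) M)) (nat_lit 40) (Nat.mod (T_b u) M) u) (Nat.ble (nat_lit 39) j)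
noncomputable def dp_b_28 (j u : ℕ) : Bool :=
  Bool.rec (motive := fun _ => Bool) (lS MG [T_ci, T_e, T_bi, T_f, T_ci, T_e, T_b, T_e, T_fi] M (Nat.sub (T_b u) (Nat.mod (T_b u) M)) (nat_lit 40) (Nat.mod (T_b u) M) u) (lS MG [T_ei, T_c, T_bi, T_f, T_ei, T_bi, T_ei, T_c, T_fi] M (Nat.sub (T_b u) (Nat.mod (T_b u) M)) (nat_lit 40) (Nat.mod (T_b u) M) u) (Nat.ble (nat_lit 41) j)
noncomputable def dp_b_29 (j u : ℕ) : Bool :=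
  Bool.rec (motive := fun _ => Bool) (dp_b_27 j u) (dp_b_28 j u) (Nat.ble (nat_lit 40) j)
noncomputable def dp_b_30 (j u : ℕ) : Bool :=
  Bool.rec (motive := fun _ => Bool) (dp_b_26 j u) (dp_b_29 j u) (Nat.ble (nat_lit 38) j)
noncomputable def dp_b_31 (j u : ℕ) : Bool :=
  Bool.rec (motive := fun _ => Bool) (lS MG [T_fi, T_ei, T_ei, T_f, T_e, T_c, T_b, T_ci, T_fi] M (Nat.sub (T_b u) (Nat.mod (T_b u) M)) (nat_lit 40) (Nat.mod (T_b u) M) u) (lS MG [T_ci, T_fi, T_b, T_fi, T_ei, T_ei, T_f, T_e, T_c] M (Nat.sub (T_b u) (Nat.mod (T_b u) M)) (nat_lit 40) (Nat.mod (T_b u) M) u) (Nat.ble (nat_lit 43) j)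
noncomputable def dp_b_32 (j u : ℕ) : Bool :=
  Bool.rec (motive := fun _ => Bool) (lS MG [T_ei, T_bi, T_ei, T_ei, T_b, T_ei, T_bi, T_ei, T_ei] M (Nat.sub (T_b u) (Nat.mod (T_b u) M)) (nat_lit 40) (Nat.mod (T_b u) M) u) (lS MG [T_ei, T_b, T_ei, T_f, T_b, T_ei, T_b, T_ei, T_f] M (Nat.sub (T_b u) (Nat.mod (T_b u) M)) (nat_lit 40) (Nat.mod (T_b u) M) u) (Nat.ble (nat_lit 46) j)
noncomputable def dp_b_33 (j u : ℕ) : Bool :=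
  Bool.rec (motive := fun _ => Bool) (lH [] [] M (Nat.sub (T_b u) (Nat.mod (T_b u) M)) (Nat.mod (T_b u) M) u) (dp_b_32 j u) (Nat.ble (nat_lit 45) j)
noncomputable def dp_b_34 (j u : ℕ) : Bool :=
  Bool.rec (motive := fun _ => Bool) (dp_b_31 j u) (dp_b_33 j u) (Nat.ble (nat_lit 44) j)
noncomputable def dp_b_35 (j u : ℕ) : Bool :=
  Bool.rec (motive := fun _ => Bool) (lS MG [T_e, T_b, T_f, T_c, T_ei, T_f, T_b, T_f, T_c] M (Nat.sub (T_b u) (Nat.mod (T_b u) M)) (nat_lit 40) (Nat.mod (T_b u) M) u) (lF [T_ei, T_bi, T_ei, T_ei, T_b, T_ei, T_bi, T_ei, T_ei] M (Nat.sub (T_b u) (Nat.mod (T_b u) M)) (Nat.mod (T_b u) M) u) (Nat.ble (nat_lit 48) j)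
noncomputable def dp_b_36 (j u : ℕ) : Bool :=
  Bool.rec (motive := fun _ => Bool) (lF [T_e, T_bi, T_fi, T_d, T_ci, T_di, T_f, T_b, T_ei, T_fi, T_ei, T_fi] M (Nat.sub (T_b u) (Nat.mod (T_b u) M)) (Nat.mod (T_b u) M) u) (lS MG [T_ci, T_f, T_c, T_bi, T_c, T_e, T_f, T_c, T_e] M (Nat.sub (T_b u) (Nat.mod (T_b u) M)) (nat_lit 40) (Nat.mod (T_b u) M) u) (Nat.ble (nat_lit 50) j)
noncomputable def dp_b_37 (j u : ℕ) : Bool :=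
  Bool.rec (motive := fun _ => Bool) (dp_b_35 j u) (dp_b_36 j u) (Nat.ble (nat_lit 49) j)
noncomputable def dp_b_38 (j u : ℕ) : Bool :=
  Bool.rec (motive := fun _ => Bool) (lS MG [T_ei, T_bi, T_c, T_fi, T_e, T_f, T_ei, T_bi, T_e] M (Nat.sub (T_b u) (Nat.mod (T_b u) M)) (nat_lit 40) (Nat.mod (T_b u) M) u) (lS MG [T_ei, T_fi, T_ei, T_fi, T_b, T_e, T_bi, T_fi, T_d, T_ci, T_di, T_f] M (Nat.sub (T_b u) (Nat.mod (T_b u) M)) (nat_lit 40) (Nat.mod (T_b u) M) u) (Nat.ble (nat_lit 52) j)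
noncomputable def dp_b_39 (j u : ℕ) : Bool :=
  Bool.rec (motive := fun _ => Bool) (lS MG [T_e, T_e, T_fi, T_fi, T_ci, T_fi, T_c, T_bi, T_e] M (Nat.sub (T_b u) (Nat.mod (T_b u) M)) (nat_lit 40) (Nat.mod (T_b u) M) u) (lF [T_ei, T_bi, T_c, T_fi, T_e, T_f, T_ei, T_bi, T_e] M (Nat.sub (T_b u) (Nat.mod (T_b u) M)) (Nat.mod (T_b u) M) u) (Nat.ble (nat_lit 54) j)
noncomputable def dp_b_40 (j u : ℕ) : Bool :=
  Bool.rec (motive := fun _ => Bool) (dp_b_38 j u) (dp_b_39 j u) (Nat.ble (nat_lit 53) j)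
noncomputable def dp_b_41 (j u : ℕ) : Bool :=
  Bool.rec (motive := fun _ => Bool) (dp_b_37 j u) (dp_b_40 j u) (Nat.ble (nat_lit 51) j)
noncomputable def dp_b_42 (j u : ℕ) : Bool :=
  Bool.rec (motive := fun _ => Bool) (dp_b_34 j u) (dp_b_41 j u) (Nat.ble (nat_lit 47) j)
noncomputable def dp_b_43 (j u : ℕ) : Bool :=
  Bool.rec (motive := fun _ => Bool) (dp_b_30 j u) (dp_b_42 j u) (Nat.ble (nat_lit 42) j)
noncomputable def dp_b_44 (j u : ℕ) : Bool :=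
  Bool.rec (motive := fun _ => Bool) (dp_b_24 j u) (dp_b_43 j u) (Nat.ble (nat_lit 35) j)
noncomputable def dp_b_45 (j u : ℕ) : Bool :=
  Bool.rec (motive := fun _ => Bool) (dp_b_16 j u) (dp_b_44 j u) (Nat.ble (nat_lit 26) j)
noncomputable def dp_b_46 (j u : ℕ) : Bool :=
  Bool.rec (motive := fun _ => Bool) (dp_b_7 j u) (dp_b_45 j u) (Nat.ble (nat_lit 16) j)
noncomputable def dp_b_47 (j u : ℕ) : Bool :=
  Bool.rec (motive := fun _ => Bool) (dp_b_1 j u) (dp_b_46 j u) (Nat.ble (nat_lit 9) j)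
noncomputable def dp_b_48 (j u : ℕ) : Bool :=
  Bool.rec (motive := fun _ => Bool) (Bool.rec (motive := fun _ => Bool) (lDef P (nat_lit 0) (Nat.mod (T_b u) M) u) (lS MG [T_bi] M (Nat.sub (T_b u) (Nat.mod (T_b u) M)) (nat_lit 40) (Nat.mod (T_b u) M) u) (Nat.ble (nat_lit 5) j)) (dp_b_47 j u) (Nat.ble (nat_lit 6) j)
noncomputable def dp_b_49 (j u : ℕ) : Bool :=
  Bool.rec (motive := fun _ => Bool) (Bool.rec (motive := fun _ => Bool) (lF3 T_d T_ci T_di M (Nat.sub (T_b u) (Nat.mod (T_b u) M)) (Nat.mod (T_b u) M) u) (lDef P (nat_lit 1) u (Nat.mod (T_b u) M)) (Nat.ble (nat_lit 3) j)) (dp_b_48 j u) (Nat.ble (nat_lit 4) j)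
noncomputable def disp_b (j u : ℕ) : Bool :=
  Bool.rec (motive := fun _ => Bool) (Bool.rec (motive := fun _ => Bool) (lF1 T_bi M (Nat.sub (T_b u) (Nat.mod (T_b u) M)) (Nat.mod (T_b u) M) u) (lF [T_b, T_b] M (Nat.sub (T_b u) (Nat.mod (T_b u) M)) (Nat.mod (T_b u) M) u) (Nat.ble (nat_lit 1) j)) (dp_b_49 j u) (Nat.ble (nat_lit 2) j)
noncomputable def chk_b (j u : ℕ) : Bool :=
  Bool.rec (motive := fun _ => Bool) (disp_b j u) (Nat.ble (Nat.succ (MG u)) A) (Nat.ble A (T_b u))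
noncomputable def dp_bi_0 (j u : ℕ) : Bool :=
  Bool.rec (motive := fun _ => Bool) (lF [T_fi, T_b, T_c, T_b, T_ei, T_fi, T_ei, T_c] M (Nat.sub (T_bi u) (Nat.mod (T_bi u) M)) (Nat.mod (T_bi u) M) u) (lF [T_ci, T_bi, T_f, T_b, T_ci, T_e, T_f, T_e] M (Nat.sub (T_bi u) (Nat.mod (T_bi u) M)) (Nat.mod (T_bi u) M) u) (Nat.ble (nat_lit 8) j)
noncomputable def dp_bi_1 (j u : ℕ) : Bool :=
  Bool.rec (motive := fun _ => Bool) (lF [T_f, T_b, T_ci, T_e, T_f, T_e, T_bi, T_ci] M (Nat.sub (T_bi u) (Nat.mod (T_bi u) M)) (Nat.mod (T_bi u) M) u) (dp_bi_0 j u) (Nat.ble (nat_lit 7) j)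
noncomputable def dp_bi_2 (j u : ℕ) : Bool :=
  Bool.rec (motive := fun _ => Bool) (lS MG [T_d, T_c, T_di] M (Nat.sub (T_bi u) (Nat.mod (T_bi u) M)) (nat_lit 40) (Nat.mod (T_bi u) M) u) (lS MG [T_f, T_b, T_ci, T_e, T_f, T_e, T_bi, T_ci] M (Nat.sub (T_bi u) (Nat.mod (T_bi u) M)) (nat_lit 40) (Nat.mod (T_bi u) M) u) (Nat.ble (nat_lit 11) j)
noncomputable def dp_bi_3 (j u : ℕ) : Bool :=
  Bool.rec (motive := fun _ => Bool) (lS MG [T_ci, T_bi, T_f, T_b, T_ci, T_e, T_f, T_e] M (Nat.sub (T_bi u) (Nat.mod (T_bi u) M)) (nat_lit 40) (Nat.mod (T_bi u) M) u) (dp_bi_2 j u) (Nat.ble (nat_lit 10) j)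
noncomputable def dp_bi_4 (j u : ℕ) : Bool :=
  Bool.rec (motive := fun _ => Bool) (lS MG [T_fi, T_b, T_c, T_b, T_ei, T_fi, T_ei, T_c] M (Nat.sub (T_bi u) (Nat.mod (T_bi u) M)) (nat_lit 40) (Nat.mod (T_bi u) M) u) (lF [T_ci, T_ei, T_fi, T_e, T_e, T_f, T_bi, T_f, T_c] M (Nat.sub (T_bi u) (Nat.mod (T_bi u) M)) (Nat.mod (T_bi u) M) u) (Nat.ble (nat_lit 13) j)
noncomputable def dp_bi_5 (j u : ℕ) : Bool :=
  Bool.rec (motive := fun _ => Bool) (lF [T_f, T_ei, T_bi, T_ei, T_c, T_fi, T_b, T_ei, T_c] M (Nat.sub (T_bi u) (Nat.mod (T_bi u) M)) (Nat.mod (T_bi u) M) u) (lF [T_f, T_ci, T_e, T_b, T_e, T_fi, T_b, T_ci, T_e] M (Nat.sub (T_bi u) (Nat.mod (T_bi u) M)) (Nat.mod (T_bi u) M) u) (Nat.ble (nat_lit 15) j)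
noncomputable def dp_bi_6 (j u : ℕ) : Bool :=
  Bool.rec (motive := fun _ => Bool) (dp_bi_4 j u) (dp_bi_5 j u) (Nat.ble (nat_lit 14) j)
noncomputable def dp_bi_7 (j u : ℕ) : Bool :=
  Bool.rec (motive := fun _ => Bool) (dp_bi_3 j u) (dp_bi_6 j u) (Nat.ble (nat_lit 12) j)
noncomputable def dp_bi_8 (j u : ℕ) : Bool :=
  Bool.rec (motive := fun _ => Bool) (lF [T_ci, T_fi, T_bi, T_fi, T_e, T_ci, T_fi, T_bi, T_ei] M (Nat.sub (T_bi u) (Nat.mod (T_bi u) M)) (Nat.mod (T_bi u) M) u) (lF [T_fi, T_e, T_ci, T_fi, T_bi, T_ei, T_bi, T_ci, T_fi] M (Nat.sub (T_bi u) (Nat.mod (T_bi u) M)) (Nat.mod (T_bi u) M) u) (Nat.ble (nat_lit 17) j)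
noncomputable def dp_bi_9 (j u : ℕ) : Bool :=
  Bool.rec (motive := fun _ => Bool) (lF [T_ei, T_bi, T_ci, T_fi, T_bi, T_fi, T_e, T_ci, T_fi] M (Nat.sub (T_bi u) (Nat.mod (T_bi u) M)) (Nat.mod (T_bi u) M) u) (lS MG [T_f, T_ci, T_e, T_b, T_e, T_fi, T_b, T_ci, T_e] M (Nat.sub (T_bi u) (Nat.mod (T_bi u) M)) (nat_lit 40) (Nat.mod (T_bi u) M) u) (Nat.ble (nat_lit 20) j)
noncomputable def dp_bi_10 (j u : ℕ) : Bool :=
  Bool.rec (motive := fun _ => Bool) (lF [T_e, T_bi, T_fi, T_e, T_bi, T_e, T_bi, T_fi, T_e] M (Nat.sub (T_bi u) (Nat.mod (T_bi u) M)) (Nat.mod (T_bi u) M) u) (dp_bi_9 j u) (Nat.ble (nat_lit 19) j)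
noncomputable def dp_bi_11 (j u : ℕ) : Bool :=
  Bool.rec (motive := fun _ => Bool) (dp_bi_8 j u) (dp_bi_10 j u) (Nat.ble (nat_lit 18) j)
noncomputable def dp_bi_12 (j u : ℕ) : Bool :=
  Bool.rec (motive := fun _ => Bool) (lF [T_c, T_fi, T_e, T_f, T_ei, T_bi, T_e, T_b, T_ei] M (Nat.sub (T_bi u) (Nat.mod (T_bi u) M)) (Nat.mod (T_bi u) M) u) (lS MG [T_ci, T_fi, T_bi, T_fi, T_e, T_ci, T_fi, T_bi, T_ei] M (Nat.sub (T_bi u) (Nat.mod (T_bi u) M)) (nat_lit 40) (Nat.mod (T_bi u) M) u) (Nat.ble (nat_lit 23) j)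
noncomputable def dp_bi_13 (j u : ℕ) : Bool :=
  Bool.rec (motive := fun _ => Bool) (lF [T_ei, T_b, T_ci, T_f, T_c, T_f, T_f, T_ei, T_ei] M (Nat.sub (T_bi u) (Nat.mod (T_bi u) M)) (Nat.mod (T_bi u) M) u) (dp_bi_12 j u) (Nat.ble (nat_lit 22) j)
noncomputable def dp_bi_14 (j u : ℕ) : Bool :=
  Bool.rec (motive := fun _ => Bool) (lF [T_ei, T_c, T_fi, T_b, T_ei, T_c, T_bi, T_f, T_ei] M (Nat.sub (T_bi u) (Nat.mod (T_bi u) M)) (Nat.mod (T_bi u) M) u) (lS MG [T_bi, T_bi] M (Nat.sub (T_bi u) (Nat.mod (T_bi u) M)) (nat_lit 40) (Nat.mod (T_bi u) M) u) (Nat.ble (nat_lit 26) j)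
noncomputable def dp_bi_15 (j u : ℕ) : Bool :=
  Bool.rec (motive := fun _ => Bool) (lF [T_f, T_c, T_bi, T_ci, T_ei, T_fi, T_e, T_e, T_f] M (Nat.sub (T_bi u) (Nat.mod (T_bi u) M)) (Nat.mod (T_bi u) M) u) (dp_bi_14 j u) (Nat.ble (nat_lit 25) j)
noncomputable def dp_bi_16 (j u : ℕ) : Bool :=
  Bool.rec (motive := fun _ => Bool) (dp_bi_13 j u) (dp_bi_15 j u) (Nat.ble (nat_lit 24) j)
noncomputable def dp_bi_17 (j u : ℕ) : Bool :=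
  Bool.rec (motive := fun _ => Bool) (dp_bi_11 j u) (dp_bi_16 j u) (Nat.ble (nat_lit 21) j)
noncomputable def dp_bi_18 (j u : ℕ) : Bool :=
  Bool.rec (motive := fun _ => Bool) (lS MG [T_f, T_c, T_bi, T_ci, T_ei, T_fi, T_e, T_e, T_f] M (Nat.sub (T_bi u) (Nat.mod (T_bi u) M)) (nat_lit 40) (Nat.mod (T_bi u) M) u) (lF [T_c, T_e, T_f, T_c, T_e, T_b, T_ci, T_f, T_c] M (Nat.sub (T_bi u) (Nat.mod (T_bi u) M)) (Nat.mod (T_bi u) M) u) (Nat.ble (nat_lit 28) j)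
noncomputable def dp_bi_19 (j u : ℕ) : Bool :=
  Bool.rec (motive := fun _ => Bool) (lF [T_ei, T_ei, T_b, T_ei, T_bi, T_ei, T_ei, T_b, T_ei] M (Nat.sub (T_bi u) (Nat.mod (T_bi u) M)) (Nat.mod (T_bi u) M) u) (lS MG [T_ci, T_ei, T_fi, T_e, T_e, T_f, T_bi, T_f, T_c] M (Nat.sub (T_bi u) (Nat.mod (T_bi u) M)) (nat_lit 40) (Nat.mod (T_bi u) M) u) (Nat.ble (nat_lit 30) j)
noncomputable def dp_bi_20 (j u : ℕ) : Bool :=
  Bool.rec (motive := fun _ => Bool) (dp_bi_18 j u) (dp_bi_19 j u) (Nat.ble (nat_lit 29) j)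
noncomputable def dp_bi_21 (j u : ℕ) : Bool :=
  Bool.rec (motive := fun _ => Bool) (lF [T_ei, T_b, T_ei, T_ei, T_bi, T_ei, T_b, T_ei, T_ei] M (Nat.sub (T_bi u) (Nat.mod (T_bi u) M)) (Nat.mod (T_bi u) M) u) (lF [T_e, T_b, T_e, T_e, T_fi, T_fi, T_ci, T_fi, T_c] M (Nat.sub (T_bi u) (Nat.mod (T_bi u) M)) (Nat.mod (T_bi u) M) u) (Nat.ble (nat_lit 32) j)
noncomputable def dp_bi_22 (j u : ℕ) : Bool :=
  Bool.rec (motive := fun _ => Bool) (lF [T_fi, T_e, T_bi, T_e, T_bi, T_fi, T_e, T_bi, T_e] M (Nat.sub (T_bi u) (Nat.mod (T_bi u) M)) (Nat.mod (T_bi u) M) u) (lS MG [T_fi, T_e, T_ci, T_fi, T_bi, T_ei, T_bi, T_ci, T_fi] M (Nat.sub (T_bi u) (Nat.mod (T_bi u) M)) (nat_lit 40) (Nat.mod (T_bi u) M) u) (Nat.ble (nat_lit 34) j)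
noncomputable def dp_bi_23 (j u : ℕ) : Bool :=
  Bool.rec (motive := fun _ => Bool) (dp_bi_21 j u) (dp_bi_22 j u) (Nat.ble (nat_lit 33) j)
noncomputable def dp_bi_24 (j u : ℕ) : Bool :=
  Bool.rec (motive := fun _ => Bool) (dp_bi_20 j u) (dp_bi_23 j u) (Nat.ble (nat_lit 31) j)
noncomputable def dp_bi_25 (j u : ℕ) : Bool :=
  Bool.rec (motive := fun _ => Bool) (lS MG [T_ei, T_c, T_fi, T_b, T_ei, T_c, T_bi, T_f, T_ei] M (Nat.sub (T_bi u) (Nat.mod (T_bi u) M)) (nat_lit 40) (Nat.mod (T_bi u) M) u) (lS MG [T_f, T_ei, T_bi, T_ei, T_c, T_fi, T_b, T_ei, T_c] M (Nat.sub (T_bi u) (Nat.mod (T_bi u) M)) (nat_lit 40) (Nat.mod (T_bi u) M) u) (Nat.ble (nat_lit 37) j)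
noncomputable def dp_bi_26 (j u : ℕ) : Bool :=
  Bool.rec (motive := fun _ => Bool) (lS MG [T_c, T_e, T_f, T_c, T_e, T_b, T_ci, T_f, T_c] M (Nat.sub (T_bi u) (Nat.mod (T_bi u) M)) (nat_lit 40) (Nat.mod (T_bi u) M) u) (dp_bi_25 j u) (Nat.ble (nat_lit 36) j)
noncomputable def dp_bi_27 (j u : ℕ) : Bool :=
  Bool.rec (motive := fun _ => Bool) (lF [T_e, T_e, T_b, T_e, T_bi, T_e, T_e, T_b, T_e] M (Nat.sub (T_bi u) (Nat.mod (T_bi u) M)) (Nat.mod (T_bi u) M) u) (lS MG [T_e, T_b, T_e, T_e, T_bi, T_e, T_b, T_e, T_e] M (Nat.sub (T_bi u) (Nat.mod (T_bi u) M)) (nat_lit 40) (Nat.mod (T_bi u) M) u) (Nat.ble (nat_lit 39) j)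
noncomputable def dp_bi_28 (j u : ℕ) : Bool :=
  Bool.rec (motive := fun _ => Bool) (lS MG [T_ei, T_b, T_ci, T_f, T_c, T_f, T_f, T_ei, T_ei] M (Nat.sub (T_bi u) (Nat.mod (T_bi u) M)) (nat_lit 40) (Nat.mod (T_bi u) M) u) (lS MG [T_ei, T_b, T_ei, T_ei, T_bi, T_ei, T_b, T_ei, T_ei] M (Nat.sub (T_bi u) (Nat.mod (T_bi u) M)) (nat_lit 40) (Nat.mod (T_bi u) M) u) (Nat.ble (nat_lit 42) j)
noncomputable def dp_bi_29 (j u : ℕ) : Bool :=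
  Bool.rec (motive := fun _ => Bool) (lS MG [T_e, T_b, T_e, T_e, T_fi, T_fi, T_ci, T_fi, T_c] M (Nat.sub (T_bi u) (Nat.mod (T_bi u) M)) (nat_lit 40) (Nat.mod (T_bi u) M) u) (dp_bi_28 j u) (Nat.ble (nat_lit 41) j)
noncomputable def dp_bi_30 (j u : ℕ) : Bool :=
  Bool.rec (motive := fun _ => Bool) (dp_bi_27 j u) (dp_bi_29 j u) (Nat.ble (nat_lit 40) j)
noncomputable def dp_bi_31 (j u : ℕ) : Bool :=
  Bool.rec (motive := fun _ => Bool) (dp_bi_26 j u) (dp_bi_30 j u) (Nat.ble (nat_lit 38) j)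
noncomputable def dp_bi_32 (j u : ℕ) : Bool :=
  Bool.rec (motive := fun _ => Bool) (lS MG [T_ei, T_bi, T_ci, T_fi, T_bi, T_fi, T_e, T_ci, T_fi] M (Nat.sub (T_bi u) (Nat.mod (T_bi u) M)) (nat_lit 40) (Nat.mod (T_bi u) M) u) (lF [T_ei, T_ci, T_fi, T_ei, T_ci, T_b, T_ci, T_fi, T_c] M (Nat.sub (T_bi u) (Nat.mod (T_bi u) M)) (Nat.mod (T_bi u) M) u) (Nat.ble (nat_lit 44) j)
noncomputable def dp_bi_33 (j u : ℕ) : Bool :=
  Bool.rec (motive := fun _ => Bool) (lF [T_ei, T_b, T_e, T_fi, T_ei, T_f, T_ci, T_b, T_e] M (Nat.sub (T_bi u) (Nat.mod (T_bi u) M)) (Nat.mod (T_bi u) M) u) (lS MG [T_e, T_e, T_b, T_e, T_bi, T_e, T_e, T_b, T_e] M (Nat.sub (T_bi u) (Nat.mod (T_bi u) M)) (nat_lit 40) (Nat.mod (T_bi u) M) u) (Nat.ble (nat_lit 47) j)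
noncomputable def dp_bi_34 (j u : ℕ) : Bool :=
  Bool.rec (motive := fun _ => Bool) (lF [T_e, T_b, T_ei, T_bi, T_c, T_fi, T_e, T_f, T_ei] M (Nat.sub (T_bi u) (Nat.mod (T_bi u) M)) (Nat.mod (T_bi u) M) u) (dp_bi_33 j u) (Nat.ble (nat_lit 46) j)
noncomputable def dp_bi_35 (j u : ℕ) : Bool :=
  Bool.rec (motive := fun _ => Bool) (dp_bi_32 j u) (dp_bi_34 j u) (Nat.ble (nat_lit 45) j)
noncomputable def dp_bi_36 (j u : ℕ) : Bool :=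
  Bool.rec (motive := fun _ => Bool) (lS MG [T_fi, T_e, T_bi, T_e, T_bi, T_fi, T_e, T_bi, T_e] M (Nat.sub (T_bi u) (Nat.mod (T_bi u) M)) (nat_lit 40) (Nat.mod (T_bi u) M) u) (lS MG [T_ei, T_b, T_e, T_fi, T_ei, T_f, T_ci, T_b, T_e] M (Nat.sub (T_bi u) (Nat.mod (T_bi u) M)) (nat_lit 40) (Nat.mod (T_bi u) M) u) (Nat.ble (nat_lit 49) j)
noncomputable def dp_bi_37 (j u : ℕ) : Bool :=
  Bool.rec (motive := fun _ => Bool) (lS MG [T_c, T_fi, T_e, T_f, T_ei, T_bi, T_e, T_b, T_ei] M (Nat.sub (T_bi u) (Nat.mod (T_bi u) M)) (nat_lit 40) (Nat.mod (T_bi u) M) u) (lS MG [T_e, T_b, T_ei, T_bi, T_c, T_fi, T_e, T_f, T_ei] M (Nat.sub (T_bi u) (Nat.mod (T_bi u) M)) (nat_lit 40) (Nat.mod (T_bi u) M) u) (Nat.ble (nat_lit 51) j)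
noncomputable def dp_bi_38 (j u : ℕ) : Bool :=
  Bool.rec (motive := fun _ => Bool) (dp_bi_36 j u) (dp_bi_37 j u) (Nat.ble (nat_lit 50) j)
noncomputable def dp_bi_39 (j u : ℕ) : Bool :=
  Bool.rec (motive := fun _ => Bool) (lS MG [T_ei, T_ei, T_b, T_ei, T_bi, T_ei, T_ei, T_b, T_ei] M (Nat.sub (T_bi u) (Nat.mod (T_bi u) M)) (nat_lit 40) (Nat.mod (T_bi u) M) u) (lS MG [T_ei, T_ci, T_fi, T_ei, T_ci, T_b, T_ci, T_fi, T_c] M (Nat.sub (T_bi u) (Nat.mod (T_bi u) M)) (nat_lit 40) (Nat.mod (T_bi u) M) u) (Nat.ble (nat_lit 53) j)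
noncomputable def dp_bi_40 (j u : ℕ) : Bool :=
  Bool.rec (motive := fun _ => Bool) (lS MG [T_di, T_f, T_f, T_bi, T_d, T_b, T_fi, T_fi, T_d, T_b, T_e, T_di, T_f, T_b, T_d, T_bi, T_fi, T_d, T_ei] M (Nat.sub (T_bi u) (Nat.mod (T_bi u) M)) (nat_lit 40) (Nat.mod (T_bi u) M) u) (lF [T_fi, T_d, T_c, T_di, T_f, T_b, T_ei, T_bi, T_f, T_e, T_f, T_e] M (Nat.sub (T_bi u) (Nat.mod (T_bi u) M)) (Nat.mod (T_bi u) M) u) (Nat.ble (nat_lit 56) j)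
noncomputable def dp_bi_41 (j u : ℕ) : Bool :=
  Bool.rec (motive := fun _ => Bool) (lS MG [T_e, T_bi, T_fi, T_e, T_bi, T_e, T_bi, T_fi, T_e] M (Nat.sub (T_bi u) (Nat.mod (T_bi u) M)) (nat_lit 40) (Nat.mod (T_bi u) M) u) (dp_bi_40 j u) (Nat.ble (nat_lit 55) j)
noncomputable def dp_bi_42 (j u : ℕ) : Bool :=
  Bool.rec (motive := fun _ => Bool) (dp_bi_39 j u) (dp_bi_41 j u) (Nat.ble (nat_lit 54) j)
noncomputable def dp_bi_43 (j u : ℕ) : Bool :=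
  Bool.rec (motive := fun _ => Bool) (dp_bi_38 j u) (dp_bi_42 j u) (Nat.ble (nat_lit 52) j)
noncomputable def dp_bi_44 (j u : ℕ) : Bool :=
  Bool.rec (motive := fun _ => Bool) (dp_bi_35 j u) (dp_bi_43 j u) (Nat.ble (nat_lit 48) j)
noncomputable def dp_bi_45 (j u : ℕ) : Bool :=
  Bool.rec (motive := fun _ => Bool) (dp_bi_31 j u) (dp_bi_44 j u) (Nat.ble (nat_lit 43) j)
noncomputable def dp_bi_46 (j u : ℕ) : Bool :=
  Bool.rec (motive := fun _ => Bool) (dp_bi_24 j u) (dp_bi_45 j u) (Nat.ble (nat_lit 35) j)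
noncomputable def dp_bi_47 (j u : ℕ) : Bool :=
  Bool.rec (motive := fun _ => Bool) (dp_bi_17 j u) (dp_bi_46 j u) (Nat.ble (nat_lit 27) j)
noncomputable def dp_bi_48 (j u : ℕ) : Bool :=
  Bool.rec (motive := fun _ => Bool) (dp_bi_7 j u) (dp_bi_47 j u) (Nat.ble (nat_lit 16) j)
noncomputable def dp_bi_49 (j u : ℕ) : Bool :=
  Bool.rec (motive := fun _ => Bool) (dp_bi_1 j u) (dp_bi_48 j u) (Nat.ble (nat_lit 9) j)
noncomputable def dp_bi_50 (j u : ℕ) : Bool :=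
  Bool.rec (motive := fun _ => Bool) (Bool.rec (motive := fun _ => Bool) (lF [T_bi, T_bi] M (Nat.sub (T_bi u) (Nat.mod (T_bi u) M)) (Nat.mod (T_bi u) M) u) (lS MG [T_b] M (Nat.sub (T_bi u) (Nat.mod (T_bi u) M)) (nat_lit 40) (Nat.mod (T_bi u) M) u) (Nat.ble (nat_lit 5) j)) (dp_bi_49 j u) (Nat.ble (nat_lit 6) j)
noncomputable def dp_bi_51 (j u : ℕ) : Bool :=
  Bool.rec (motive := fun _ => Bool) (Bool.rec (motive := fun _ => Bool) (lDef P (nat_lit 1) (Nat.mod (T_bi u) M) u) (lDef P (nat_lit 0) u (Nat.mod (T_bi u) M)) (Nat.ble (nat_lit 3) j)) (dp_bi_50 j u) (Nat.ble (nat_lit 4) j)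
noncomputable def disp_bi (j u : ℕ) : Bool :=
  Bool.rec (motive := fun _ => Bool) (Bool.rec (motive := fun _ => Bool) (lF1 T_b M (Nat.sub (T_bi u) (Nat.mod (T_bi u) M)) (Nat.mod (T_bi u) M) u) (lF3 T_d T_c T_di M (Nat.sub (T_bi u) (Nat.mod (T_bi u) M)) (Nat.mod (T_bi u) M) u) (Nat.ble (nat_lit 1) j)) (dp_bi_51 j u) (Nat.ble (nat_lit 2) j)
noncomputable def chk_bi (j u : ℕ) : Bool :=
  Bool.rec (motive := fun _ => Bool) (disp_bi j u) (Nat.ble (Nat.succ (MG u)) A) (Nat.ble A (T_bi u))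
noncomputable def dp_e_0 (j u : ℕ) : Bool :=
  Bool.rec (motive := fun _ => Bool) (lF [T_f, T_e, T_bi, T_ci, T_bi, T_f, T_b, T_ci] M (Nat.sub (T_e u) (Nat.mod (T_e u) M)) (Nat.mod (T_e u) M) u) (lS MG [T_ei] M (Nat.sub (T_e u) (Nat.mod (T_e u) M)) (nat_lit 40) (Nat.mod (T_e u) M) u) (Nat.ble (nat_lit 6) j)
noncomputable def dp_e_1 (j u : ℕ) : Bool :=
  Bool.rec (motive := fun _ => Bool) (lF [T_e, T_e, T_e, T_e] M (Nat.sub (T_e u) (Nat.mod (T_e u) M)) (Nat.mod (T_e u) M) u) (dp_e_0 j u) (Nat.ble (nat_lit 5) j)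
noncomputable def dp_e_2 (j u : ℕ) : Bool :=
  Bool.rec (motive := fun _ => Bool) (lF [T_f, T_ei, T_bi, T_e, T_b, T_ei, T_bi, T_c, T_fi] M (Nat.sub (T_e u) (Nat.mod (T_e u) M)) (Nat.mod (T_e u) M) u) (lS MG [T_f, T_e, T_bi, T_ci, T_bi, T_f, T_b, T_ci] M (Nat.sub (T_e u) (Nat.mod (T_e u) M)) (nat_lit 40) (Nat.mod (T_e u) M) u) (Nat.ble (nat_lit 9) j)
noncomputable def dp_e_3 (j u : ℕ) : Bool :=
  Bool.rec (motive := fun _ => Bool) (lS MG [T_d, T_fi, T_di] M (Nat.sub (T_e u) (Nat.mod (T_e u) M)) (nat_lit 40) (Nat.mod (T_e u) M) u) (lF [T_c, T_f, T_c, T_fi, T_ei, T_ei, T_ci, T_f, T_ci] M (Nat.sub (T_e u) (Nat.mod (T_e u) M)) (Nat.mod (T_e u) M) u) (Nat.ble (nat_lit 12) j)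
noncomputable def dp_e_4 (j u : ℕ) : Bool :=
  Bool.rec (motive := fun _ => Bool) (lS MG [T_bi, T_ci, T_bi, T_f, T_b, T_ci, T_e, T_f] M (Nat.sub (T_e u) (Nat.mod (T_e u) M)) (nat_lit 40) (Nat.mod (T_e u) M) u) (dp_e_3 j u) (Nat.ble (nat_lit 11) j)
noncomputable def dp_e_5 (j u : ℕ) : Bool :=
  Bool.rec (motive := fun _ => Bool) (dp_e_2 j u) (dp_e_4 j u) (Nat.ble (nat_lit 10) j)
noncomputable def dp_e_6 (j u : ℕ) : Bool :=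
  Bool.rec (motive := fun _ => Bool) (lF [T_bi, T_ci, T_bi, T_f, T_b, T_ci, T_e, T_f] M (Nat.sub (T_e u) (Nat.mod (T_e u) M)) (Nat.mod (T_e u) M) u) (dp_e_5 j u) (Nat.ble (nat_lit 8) j)
noncomputable def dp_e_7 (j u : ℕ) : Bool :=
  Bool.rec (motive := fun _ => Bool) (lS MG [T_e, T_e, T_e, T_e] M (Nat.sub (T_e u) (Nat.mod (T_e u) M)) (nat_lit 40) (Nat.mod (T_e u) M) u) (lF [T_f, T_c, T_e, T_b, T_ci, T_f, T_c, T_bi, T_c] M (Nat.sub (T_e u) (Nat.mod (T_e u) M)) (Nat.mod (T_e u) M) u) (Nat.ble (nat_lit 14) j)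
noncomputable def dp_e_8 (j u : ℕ) : Bool :=
  Bool.rec (motive := fun _ => Bool) (lF [T_c, T_fi, T_ci, T_f, T_c, T_e, T_fi, T_fi, T_c] M (Nat.sub (T_e u) (Nat.mod (T_e u) M)) (Nat.mod (T_e u) M) u) (lF [T_fi, T_fi, T_c, T_e, T_c, T_fi, T_ci, T_f, T_c] M (Nat.sub (T_e u) (Nat.mod (T_e u) M)) (Nat.mod (T_e u) M) u) (Nat.ble (nat_lit 17) j)
noncomputable def dp_e_9 (j u : ℕ) : Bool :=
  Bool.rec (motive := fun _ => Bool) (lF [T_ci, T_fi, T_bi, T_ei, T_bi, T_ci, T_fi, T_bi, T_fi] M (Nat.sub (T_e u) (Nat.mod (T_e u) M)) (Nat.mod (T_e u) M) u) (dp_e_8 j u) (Nat.ble (nat_lit 16) j)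
noncomputable def dp_e_10 (j u : ℕ) : Bool :=
  Bool.rec (motive := fun _ => Bool) (dp_e_7 j u) (dp_e_9 j u) (Nat.ble (nat_lit 15) j)
noncomputable def dp_e_11 (j u : ℕ) : Bool :=
  Bool.rec (motive := fun _ => Bool) (lF [T_f, T_ci, T_fi, T_ci, T_ei, T_c, T_fi, T_c, T_e] M (Nat.sub (T_e u) (Nat.mod (T_e u) M)) (Nat.mod (T_e u) M) u) (lF [T_bi, T_f, T_ci, T_e, T_b, T_e, T_fi, T_b, T_ci] M (Nat.sub (T_e u) (Nat.mod (T_e u) M)) (Nat.mod (T_e u) M) u) (Nat.ble (nat_lit 20) j)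
noncomputable def dp_e_12 (j u : ℕ) : Bool :=
  Bool.rec (motive := fun _ => Bool) (lS MG [T_e, T_f, T_ci, T_fi, T_ci, T_ei, T_c, T_fi, T_c] M (Nat.sub (T_e u) (Nat.mod (T_e u) M)) (nat_lit 40) (Nat.mod (T_e u) M) u) (dp_e_11 j u) (Nat.ble (nat_lit 19) j)
noncomputable def dp_e_13 (j u : ℕ) : Bool :=
  Bool.rec (motive := fun _ => Bool) (lF [T_b, T_f, T_c, T_ei, T_f, T_b, T_f, T_c, T_b] M (Nat.sub (T_e u) (Nat.mod (T_e u) M)) (Nat.mod (T_e u) M) u) (lS MG [T_bi, T_e, T_bi, T_fi, T_e, T_bi, T_e, T_bi, T_fi] M (Nat.sub (T_e u) (Nat.mod (T_e u) M)) (nat_lit 40) (Nat.mod (T_e u) M) u) (Nat.ble (nat_lit 22) j)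
noncomputable def dp_e_14 (j u : ℕ) : Bool :=
  Bool.rec (motive := fun _ => Bool) (lS MG [T_fi, T_fi, T_c, T_e, T_c, T_fi, T_ci, T_f, T_c] M (Nat.sub (T_e u) (Nat.mod (T_e u) M)) (nat_lit 40) (Nat.mod (T_e u) M) u) (lF [T_b, T_e, T_e, T_fi, T_fi, T_ci, T_fi, T_c, T_bi] M (Nat.sub (T_e u) (Nat.mod (T_e u) M)) (Nat.mod (T_e u) M) u) (Nat.ble (nat_lit 25) j)
noncomputable def dp_e_15 (j u : ℕ) : Bool :=
  Bool.rec (motive := fun _ => Bool) (lS MG [T_f, T_ei, T_bi, T_e, T_b, T_ei, T_bi, T_c, T_fi] M (Nat.sub (T_e u) (Nat.mod (T_e u) M)) (nat_lit 40) (Nat.mod (T_e u) M) u) (dp_e_14 j u) (Nat.ble (nat_lit 24) j)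
noncomputable def dp_e_16 (j u : ℕ) : Bool :=
  Bool.rec (motive := fun _ => Bool) (dp_e_13 j u) (dp_e_15 j u) (Nat.ble (nat_lit 23) j)
noncomputable def dp_e_17 (j u : ℕ) : Bool :=
  Bool.rec (motive := fun _ => Bool) (dp_e_12 j u) (dp_e_16 j u) (Nat.ble (nat_lit 21) j)
noncomputable def dp_e_18 (j u : ℕ) : Bool :=
  Bool.rec (motive := fun _ => Bool) (dp_e_10 j u) (dp_e_17 j u) (Nat.ble (nat_lit 18) j)
noncomputable def dp_e_19 (j u : ℕ) : Bool :=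
  Bool.rec (motive := fun _ => Bool) (lF [T_c, T_b, T_ci, T_fi, T_b, T_fi, T_ei, T_ei, T_f] M (Nat.sub (T_e u) (Nat.mod (T_e u) M)) (Nat.mod (T_e u) M) u) (lF [T_b, T_ci, T_f, T_c, T_bi, T_c, T_e, T_f, T_c] M (Nat.sub (T_e u) (Nat.mod (T_e u) M)) (Nat.mod (T_e u) M) u) (Nat.ble (nat_lit 27) j)
noncomputable def dp_e_20 (j u : ℕ) : Bool :=
  Bool.rec (motive := fun _ => Bool) (lF [T_f, T_bi, T_f, T_c, T_bi, T_ci, T_ei, T_fi, T_e] M (Nat.sub (T_e u) (Nat.mod (T_e u) M)) (Nat.mod (T_e u) M) u) (lF [T_e, T_f, T_ci, T_fi, T_ci, T_ei, T_c, T_fi, T_c] M (Nat.sub (T_e u) (Nat.mod (T_e u) M)) (Nat.mod (T_e u) M) u) (Nat.ble (nat_lit 30) j)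
noncomputable def dp_e_21 (j u : ℕ) : Bool :=
  Bool.rec (motive := fun _ => Bool) (lF [T_bi, T_fi, T_e, T_bi, T_e, T_bi, T_fi, T_e, T_bi] M (Nat.sub (T_e u) (Nat.mod (T_e u) M)) (Nat.mod (T_e u) M) u) (dp_e_20 j u) (Nat.ble (nat_lit 29) j)
noncomputable def dp_e_22 (j u : ℕ) : Bool :=
  Bool.rec (motive := fun _ => Bool) (dp_e_19 j u) (dp_e_21 j u) (Nat.ble (nat_lit 28) j)
noncomputable def dp_e_23 (j u : ℕ) : Bool :=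
  Bool.rec (motive := fun _ => Bool) (lF [T_bi, T_e, T_bi, T_fi, T_e, T_bi, T_e, T_bi, T_fi] M (Nat.sub (T_e u) (Nat.mod (T_e u) M)) (Nat.mod (T_e u) M) u) (lF [T_e, T_fi, T_fi, T_ci, T_fi, T_c, T_bi, T_e, T_b] M (Nat.sub (T_e u) (Nat.mod (T_e u) M)) (Nat.mod (T_e u) M) u) (Nat.ble (nat_lit 32) j)
noncomputable def dp_e_24 (j u : ℕ) : Bool :=
  Bool.rec (motive := fun _ => Bool) (lS MG [T_c, T_b, T_ci, T_fi, T_b, T_fi, T_ei, T_ei, T_f] M (Nat.sub (T_e u) (Nat.mod (T_e u) M)) (nat_lit 40) (Nat.mod (T_e u) M) u) (lS MG [T_ci, T_fi, T_bi, T_ei, T_bi, T_ci, T_fi, T_bi, T_fi] M (Nat.sub (T_e u) (Nat.mod (T_e u) M)) (nat_lit 40) (Nat.mod (T_e u) M) u) (Nat.ble (nat_lit 34) j)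
noncomputable def dp_e_25 (j u : ℕ) : Bool :=
  Bool.rec (motive := fun _ => Bool) (dp_e_23 j u) (dp_e_24 j u) (Nat.ble (nat_lit 33) j)
noncomputable def dp_e_26 (j u : ℕ) : Bool :=
  Bool.rec (motive := fun _ => Bool) (lF [T_b, T_e, T_e, T_bi, T_e, T_b, T_e, T_e, T_bi] M (Nat.sub (T_e u) (Nat.mod (T_e u) M)) (Nat.mod (T_e u) M) u) (lS MG [T_bi, T_f, T_ci, T_e, T_b, T_e, T_fi, T_b, T_ci] M (Nat.sub (T_e u) (Nat.mod (T_e u) M)) (nat_lit 40) (Nat.mod (T_e u) M) u) (Nat.ble (nat_lit 36) j)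
noncomputable def dp_e_27 (j u : ℕ) : Bool :=
  Bool.rec (motive := fun _ => Bool) (lS MG [T_bi, T_fi, T_e, T_bi, T_e, T_bi, T_fi, T_e, T_bi] M (Nat.sub (T_e u) (Nat.mod (T_e u) M)) (nat_lit 40) (Nat.mod (T_e u) M) u) (lS MG [T_f, T_ci, T_fi, T_ci, T_ei, T_c, T_fi, T_c, T_e] M (Nat.sub (T_e u) (Nat.mod (T_e u) M)) (nat_lit 40) (Nat.mod (T_e u) M) u) (Nat.ble (nat_lit 38) j)
noncomputable def dp_e_28 (j u : ℕ) : Bool :=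
  Bool.rec (motive := fun _ => Bool) (dp_e_26 j u) (dp_e_27 j u) (Nat.ble (nat_lit 37) j)
noncomputable def dp_e_29 (j u : ℕ) : Bool :=
  Bool.rec (motive := fun _ => Bool) (dp_e_25 j u) (dp_e_28 j u) (Nat.ble (nat_lit 35) j)
noncomputable def dp_e_30 (j u : ℕ) : Bool :=
  Bool.rec (motive := fun _ => Bool) (dp_e_22 j u) (dp_e_29 j u) (Nat.ble (nat_lit 31) j)
noncomputable def dp_e_31 (j u : ℕ) : Bool :=
  Bool.rec (motive := fun _ => Bool) (lF [T_fi, T_fi, T_ci, T_fi, T_c, T_bi, T_e, T_b, T_e] M (Nat.sub (T_e u) (Nat.mod (T_e u) M)) (Nat.mod (T_e u) M) u) (lF [T_e, T_f, T_bi, T_f, T_c, T_bi, T_ci, T_ei, T_fi] M (Nat.sub (T_e u) (Nat.mod (T_e u) M)) (Nat.mod (T_e u) M) u) (Nat.ble (nat_lit 40) j)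
noncomputable def dp_e_32 (j u : ℕ) : Bool :=
  Bool.rec (motive := fun _ => Bool) (lF [T_fi, T_b, T_ci, T_e, T_bi, T_f, T_ci, T_e, T_b] M (Nat.sub (T_e u) (Nat.mod (T_e u) M)) (Nat.mod (T_e u) M) u) (lF [T_fi, T_ei, T_f, T_ci, T_b, T_e, T_bi, T_ei, T_b] M (Nat.sub (T_e u) (Nat.mod (T_e u) M)) (Nat.mod (T_e u) M) u) (Nat.ble (nat_lit 42) j)
noncomputable def dp_e_33 (j u : ℕ) : Bool :=
  Bool.rec (motive := fun _ => Bool) (dp_e_31 j u) (dp_e_32 j u) (Nat.ble (nat_lit 41) j)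
noncomputable def dp_e_34 (j u : ℕ) : Bool :=
  Bool.rec (motive := fun _ => Bool) (lS MG [T_b, T_e, T_e, T_fi, T_fi, T_ci, T_fi, T_c, T_bi] M (Nat.sub (T_e u) (Nat.mod (T_e u) M)) (nat_lit 40) (Nat.mod (T_e u) M) u) (lS MG [T_c, T_fi, T_ci, T_f, T_c, T_e, T_fi, T_fi, T_c] M (Nat.sub (T_e u) (Nat.mod (T_e u) M)) (nat_lit 40) (Nat.mod (T_e u) M) u) (Nat.ble (nat_lit 44) j)
noncomputable def dp_e_35 (j u : ℕ) : Bool :=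
  Bool.rec (motive := fun _ => Bool) (lF [T_b, T_ei, T_bi, T_c, T_fi, T_e, T_f, T_ei, T_bi] M (Nat.sub (T_e u) (Nat.mod (T_e u) M)) (Nat.mod (T_e u) M) u) (lF [T_bi, T_e, T_b, T_e, T_e, T_bi, T_e, T_b, T_e] M (Nat.sub (T_e u) (Nat.mod (T_e u) M)) (Nat.mod (T_e u) M) u) (Nat.ble (nat_lit 47) j)
noncomputable def dp_e_36 (j u : ℕ) : Bool :=
  Bool.rec (motive := fun _ => Bool) (lS MG [T_b, T_ei, T_bi, T_c, T_fi, T_e, T_f, T_ei, T_bi] M (Nat.sub (T_e u) (Nat.mod (T_e u) M)) (nat_lit 40) (Nat.mod (T_e u) M) u) (dp_e_35 j u) (Nat.ble (nat_lit 46) j)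
noncomputable def dp_e_37 (j u : ℕ) : Bool :=
  Bool.rec (motive := fun _ => Bool) (dp_e_34 j u) (dp_e_36 j u) (Nat.ble (nat_lit 45) j)
noncomputable def dp_e_38 (j u : ℕ) : Bool :=
  Bool.rec (motive := fun _ => Bool) (dp_e_33 j u) (dp_e_37 j u) (Nat.ble (nat_lit 43) j)
noncomputable def dp_e_39 (j u : ℕ) : Bool :=
  Bool.rec (motive := fun _ => Bool) (lF [T_b, T_e, T_fi, T_b, T_ci, T_e, T_bi, T_f, T_ci] M (Nat.sub (T_e u) (Nat.mod (T_e u) M)) (Nat.mod (T_e u) M) u) (lS MG [T_bi, T_e, T_e, T_b, T_e, T_bi, T_e, T_e, T_b] M (Nat.sub (T_e u) (Nat.mod (T_e u) M)) (nat_lit 40) (Nat.mod (T_e u) M) u) (Nat.ble (nat_lit 50) j)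
noncomputable def dp_e_40 (j u : ℕ) : Bool :=
  Bool.rec (motive := fun _ => Bool) (lF [T_bi, T_e, T_e, T_b, T_e, T_bi, T_e, T_e, T_b] M (Nat.sub (T_e u) (Nat.mod (T_e u) M)) (Nat.mod (T_e u) M) u) (dp_e_39 j u) (Nat.ble (nat_lit 49) j)
noncomputable def dp_e_41 (j u : ℕ) : Bool :=
  Bool.rec (motive := fun _ => Bool) (lS MG [T_b, T_e, T_e, T_bi, T_e, T_b, T_e, T_e, T_bi] M (Nat.sub (T_e u) (Nat.mod (T_e u) M)) (nat_lit 40) (Nat.mod (T_e u) M) u) (lS MG [T_e, T_bi, T_e, T_b, T_e, T_e, T_bi, T_e, T_b] M (Nat.sub (T_e u) (Nat.mod (T_e u) M)) (nat_lit 40) (Nat.mod (T_e u) M) u) (Nat.ble (nat_lit 52) j)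
noncomputable def dp_e_42 (j u : ℕ) : Bool :=
  Bool.rec (motive := fun _ => Bool) (lS MG [T_bi, T_ei, T_b, T_e, T_fi, T_ei, T_f, T_ci, T_b] M (Nat.sub (T_e u) (Nat.mod (T_e u) M)) (nat_lit 40) (Nat.mod (T_e u) M) u) (lS MG [T_b, T_f, T_c, T_ei, T_f, T_b, T_f, T_c, T_b] M (Nat.sub (T_e u) (Nat.mod (T_e u) M)) (nat_lit 40) (Nat.mod (T_e u) M) u) (Nat.ble (nat_lit 54) j)
noncomputable def dp_e_43 (j u : ℕ) : Bool :=
  Bool.rec (motive := fun _ => Bool) (dp_e_41 j u) (dp_e_42 j u) (Nat.ble (nat_lit 53) j)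
noncomputable def dp_e_44 (j u : ℕ) : Bool :=
  Bool.rec (motive := fun _ => Bool) (dp_e_40 j u) (dp_e_43 j u) (Nat.ble (nat_lit 51) j)
noncomputable def dp_e_45 (j u : ℕ) : Bool :=
  Bool.rec (motive := fun _ => Bool) (lS MG [T_fi, T_b, T_ci, T_e, T_bi, T_f, T_ci, T_e, T_b] M (Nat.sub (T_e u) (Nat.mod (T_e u) M)) (nat_lit 40) (Nat.mod (T_e u) M) u) (lS MG [T_b, T_ci, T_f, T_c, T_bi, T_c, T_e, T_f, T_c] M (Nat.sub (T_e u) (Nat.mod (T_e u) M)) (nat_lit 40) (Nat.mod (T_e u) M) u) (Nat.ble (nat_lit 56) j)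
noncomputable def dp_e_46 (j u : ℕ) : Bool :=
  Bool.rec (motive := fun _ => Bool) (lS MG [T_f, T_c, T_e, T_b, T_ci, T_f, T_c, T_bi, T_c] M (Nat.sub (T_e u) (Nat.mod (T_e u) M)) (nat_lit 40) (Nat.mod (T_e u) M) u) (lF [T_b, T_e, T_bi, T_e, T_e, T_b, T_e, T_bi, T_e] M (Nat.sub (T_e u) (Nat.mod (T_e u) M)) (Nat.mod (T_e u) M) u) (Nat.ble (nat_lit 58) j)
noncomputable def dp_e_47 (j u : ℕ) : Bool :=
  Bool.rec (motive := fun _ => Bool) (dp_e_45 j u) (dp_e_46 j u) (Nat.ble (nat_lit 57) j)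
noncomputable def dp_e_48 (j u : ℕ) : Bool :=
  Bool.rec (motive := fun _ => Bool) (lH [] [] M (Nat.sub (T_e u) (Nat.mod (T_e u) M)) (Nat.mod (T_e u) M) u) (lS MG [T_c, T_f, T_c, T_fi, T_ei, T_ei, T_ci, T_f, T_ci] M (Nat.sub (T_e u) (Nat.mod (T_e u) M)) (nat_lit 40) (Nat.mod (T_e u) M) u) (Nat.ble (nat_lit 60) j)
noncomputable def dp_e_49 (j u : ℕ) : Bool :=
  Bool.rec (motive := fun _ => Bool) (lS MG [T_fi, T_fi, T_ci, T_fi, T_c, T_bi, T_e, T_b, T_e] M (Nat.sub (T_e u) (Nat.mod (T_e u) M)) (nat_lit 40) (Nat.mod (T_e u) M) u) (lS MG [T_fi, T_ei, T_f, T_ci, T_b, T_e, T_bi, T_ei, T_b] M (Nat.sub (T_e u) (Nat.mod (T_e u) M)) (nat_lit 40) (Nat.mod (T_e u) M) u) (Nat.ble (nat_lit 62) j)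
noncomputable def dp_e_50 (j u : ℕ) : Bool :=
  Bool.rec (motive := fun _ => Bool) (dp_e_48 j u) (dp_e_49 j u) (Nat.ble (nat_lit 61) j)
noncomputable def dp_e_51 (j u : ℕ) : Bool :=
  Bool.rec (motive := fun _ => Bool) (lS MG [T_b, T_e, T_fi, T_b, T_ci, T_e, T_bi, T_f, T_ci] M (Nat.sub (T_e u) (Nat.mod (T_e u) M)) (nat_lit 40) (Nat.mod (T_e u) M) u) (lS MG [T_e, T_b, T_e, T_bi, T_e, T_e, T_b, T_e, T_bi] M (Nat.sub (T_e u) (Nat.mod (T_e u) M)) (nat_lit 40) (Nat.mod (T_e u) M) u) (Nat.ble (nat_lit 64) j)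
noncomputable def dp_e_52 (j u : ℕ) : Bool :=
  Bool.rec (motive := fun _ => Bool) (lS MG [T_b, T_e, T_bi, T_e, T_e, T_b, T_e, T_bi, T_e] M (Nat.sub (T_e u) (Nat.mod (T_e u) M)) (nat_lit 40) (Nat.mod (T_e u) M) u) (lF [T_e, T_b, T_e, T_bi, T_e, T_e, T_b, T_e, T_bi] M (Nat.sub (T_e u) (Nat.mod (T_e u) M)) (Nat.mod (T_e u) M) u) (Nat.ble (nat_lit 66) j)
noncomputable def dp_e_53 (j u : ℕ) : Bool :=
  Bool.rec (motive := fun _ => Bool) (dp_e_51 j u) (dp_e_52 j u) (Nat.ble (nat_lit 65) j)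
noncomputable def dp_e_54 (j u : ℕ) : Bool :=
  Bool.rec (motive := fun _ => Bool) (dp_e_50 j u) (dp_e_53 j u) (Nat.ble (nat_lit 63) j)
noncomputable def dp_e_55 (j u : ℕ) : Bool :=
  Bool.rec (motive := fun _ => Bool) (dp_e_47 j u) (dp_e_54 j u) (Nat.ble (nat_lit 59) j)
noncomputable def dp_e_56 (j u : ℕ) : Bool :=
  Bool.rec (motive := fun _ => Bool) (dp_e_44 j u) (dp_e_55 j u) (Nat.ble (nat_lit 55) j)
noncomputable def dp_e_57 (j u : ℕ) : Bool :=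
  Bool.rec (motive := fun _ => Bool) (dp_e_38 j u) (dp_e_56 j u) (Nat.ble (nat_lit 48) j)
noncomputable def dp_e_58 (j u : ℕ) : Bool :=
  Bool.rec (motive := fun _ => Bool) (dp_e_30 j u) (dp_e_57 j u) (Nat.ble (nat_lit 39) j)
noncomputable def dp_e_59 (j u : ℕ) : Bool :=
  Bool.rec (motive := fun _ => Bool) (dp_e_18 j u) (dp_e_58 j u) (Nat.ble (nat_lit 26) j)
noncomputable def dp_e_60 (j u : ℕ) : Bool :=
  Bool.rec (motive := fun _ => Bool) (dp_e_6 j u) (dp_e_59 j u) (Nat.ble (nat_lit 13) j)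
noncomputable def dp_e_61 (j u : ℕ) : Bool :=
  Bool.rec (motive := fun _ => Bool) (dp_e_1 j u) (dp_e_60 j u) (Nat.ble (nat_lit 7) j)
noncomputable def dp_e_62 (j u : ℕ) : Bool :=
  Bool.rec (motive := fun _ => Bool) (Bool.rec (motive := fun _ => Bool) (lDef P (nat_lit 2) (Nat.mod (T_e u) M) u) (lDef P (nat_lit 3) u (Nat.mod (T_e u) M)) (Nat.ble (nat_lit 3) j)) (dp_e_61 j u) (Nat.ble (nat_lit 4) j)
noncomputable def disp_e (j u : ℕ) : Bool :=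
  Bool.rec (motive := fun _ => Bool) (Bool.rec (motive := fun _ => Bool) (lF1 T_ei M (Nat.sub (T_e u) (Nat.mod (T_e u) M)) (Nat.mod (T_e u) M) u) (lF3 T_d T_fi T_di M (Nat.sub (T_e u) (Nat.mod (T_e u) M)) (Nat.mod (T_e u) M) u) (Nat.ble (nat_lit 1) j)) (dp_e_62 j u) (Nat.ble (nat_lit 2) j)
noncomputable def chk_e (j u : ℕ) : Bool :=
  Bool.rec (motive := fun _ => Bool) (disp_e j u) (Nat.ble (Nat.succ (MG u)) A) (Nat.ble A (T_e u))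
noncomputable def dp_ei_0 (j u : ℕ) : Bool :=
  Bool.rec (motive := fun _ => Bool) (lF [T_fi, T_ei, T_c, T_bi, T_fi, T_b, T_c, T_b] M (Nat.sub (T_ei u) (Nat.mod (T_ei u) M)) (Nat.mod (T_ei u) M) u) (lS MG [T_e] M (Nat.sub (T_ei u) (Nat.mod (T_ei u) M)) (nat_lit 40) (Nat.mod (T_ei u) M) u) (Nat.ble (nat_lit 6) j)
noncomputable def dp_ei_1 (j u : ℕ) : Bool :=
  Bool.rec (motive := fun _ => Bool) (lF [T_ei, T_ei, T_ei, T_ei] M (Nat.sub (T_ei u) (Nat.mod (T_ei u) M)) (Nat.mod (T_ei u) M) u) (dp_ei_0 j u) (Nat.ble (nat_lit 5) j)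
noncomputable def dp_ei_2 (j u : ℕ) : Bool :=
  Bool.rec (motive := fun _ => Bool) (lS MG [T_c, T_bi, T_fi, T_b, T_c, T_b, T_ei, T_fi] M (Nat.sub (T_ei u) (Nat.mod (T_ei u) M)) (nat_lit 40) (Nat.mod (T_ei u) M) u) (lS MG [T_fi, T_ei, T_c, T_bi, T_fi, T_b, T_c, T_b] M (Nat.sub (T_ei u) (Nat.mod (T_ei u) M)) (nat_lit 40) (Nat.mod (T_ei u) M) u) (Nat.ble (nat_lit 9) j)
noncomputable def dp_ei_3 (j u : ℕ) : Bool :=
  Bool.rec (motive := fun _ => Bool) (lF [T_f, T_ci, T_b, T_e, T_bi, T_ei, T_b, T_e, T_fi] M (Nat.sub (T_ei u) (Nat.mod (T_ei u) M)) (Nat.mod (T_ei u) M) u) (lF [T_ci, T_fi, T_c, T_f, T_ci, T_ei, T_ci, T_f, T_f] M (Nat.sub (T_ei u) (Nat.mod (T_ei u) M)) (Nat.mod (T_ei u) M) u) (Nat.ble (nat_lit 12) j)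
noncomputable def dp_ei_4 (j u : ℕ) : Bool :=
  Bool.rec (motive := fun _ => Bool) (lS MG [T_d, T_f, T_di] M (Nat.sub (T_ei u) (Nat.mod (T_ei u) M)) (nat_lit 40) (Nat.mod (T_ei u) M) u) (dp_ei_3 j u) (Nat.ble (nat_lit 11) j)
noncomputable def dp_ei_5 (j u : ℕ) : Bool :=
  Bool.rec (motive := fun _ => Bool) (dp_ei_2 j u) (dp_ei_4 j u) (Nat.ble (nat_lit 10) j)
noncomputable def dp_ei_6 (j u : ℕ) : Bool :=
  Bool.rec (motive := fun _ => Bool) (lF [T_c, T_bi, T_fi, T_b, T_c, T_b, T_ei, T_fi] M (Nat.sub (T_ei u) (Nat.mod (T_ei u) M)) (Nat.mod (T_ei u) M) u) (dp_ei_5 j u) (Nat.ble (nat_lit 8) j)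
noncomputable def dp_ei_7 (j u : ℕ) : Bool :=
  Bool.rec (motive := fun _ => Bool) (lF [T_ei, T_ci, T_f, T_ci, T_e, T_c, T_f, T_c, T_fi] M (Nat.sub (T_ei u) (Nat.mod (T_ei u) M)) (Nat.mod (T_ei u) M) u) (lF [T_ci, T_f, T_f, T_ei, T_ci, T_fi, T_c, T_f, T_ci] M (Nat.sub (T_ei u) (Nat.mod (T_ei u) M)) (Nat.mod (T_ei u) M) u) (Nat.ble (nat_lit 14) j)
noncomputable def dp_ei_8 (j u : ℕ) : Bool :=
  Bool.rec (motive := fun _ => Bool) (lS MG [T_ei, T_ei, T_ei, T_ei] M (Nat.sub (T_ei u) (Nat.mod (T_ei u) M)) (nat_lit 40) (Nat.mod (T_ei u) M) u) (lF [T_ci, T_b, T_ci, T_fi, T_c, T_bi, T_ei, T_ci, T_fi] M (Nat.sub (T_ei u) (Nat.mod (T_ei u) M)) (Nat.mod (T_ei u) M) u) (Nat.ble (nat_lit 16) j)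
noncomputable def dp_ei_9 (j u : ℕ) : Bool :=
  Bool.rec (motive := fun _ => Bool) (dp_ei_7 j u) (dp_ei_8 j u) (Nat.ble (nat_lit 15) j)
noncomputable def dp_ei_10 (j u : ℕ) : Bool :=
  Bool.rec (motive := fun _ => Bool) (lF [T_b, T_ci, T_f, T_c, T_f, T_f, T_ei, T_ei, T_bi] M (Nat.sub (T_ei u) (Nat.mod (T_ei u) M)) (Nat.mod (T_ei u) M) u) (lF [T_c, T_fi, T_c, T_e, T_e, T_f, T_ci, T_fi, T_ci] M (Nat.sub (T_ei u) (Nat.mod (T_ei u) M)) (Nat.mod (T_ei u) M) u) (Nat.ble (nat_lit 19) j)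
noncomputable def dp_ei_11 (j u : ℕ) : Bool :=
  Bool.rec (motive := fun _ => Bool) (lF [T_bi, T_ci, T_fi, T_bi, T_fi, T_e, T_ci, T_fi, T_bi] M (Nat.sub (T_ei u) (Nat.mod (T_ei u) M)) (Nat.mod (T_ei u) M) u) (dp_ei_10 j u) (Nat.ble (nat_lit 18) j)
noncomputable def dp_ei_12 (j u : ℕ) : Bool :=
  Bool.rec (motive := fun _ => Bool) (lS MG [T_f, T_ci, T_b, T_e, T_bi, T_ei, T_b, T_e, T_fi] M (Nat.sub (T_ei u) (Nat.mod (T_ei u) M)) (nat_lit 40) (Nat.mod (T_ei u) M) u) (lF [T_bi, T_ei, T_c, T_fi, T_b, T_ei, T_c, T_bi, T_f] M (Nat.sub (T_ei u) (Nat.mod (T_ei u) M)) (Nat.mod (T_ei u) M) u) (Nat.ble (nat_lit 21) j)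
noncomputable def dp_ei_13 (j u : ℕ) : Bool :=
  Bool.rec (motive := fun _ => Bool) (lF [T_f, T_b, T_ei, T_b, T_ei, T_f, T_b, T_ei, T_b] M (Nat.sub (T_ei u) (Nat.mod (T_ei u) M)) (Nat.mod (T_ei u) M) u) (lF [T_c, T_bi, T_f, T_ei, T_bi, T_ei, T_c, T_fi, T_b] M (Nat.sub (T_ei u) (Nat.mod (T_ei u) M)) (Nat.mod (T_ei u) M) u) (Nat.ble (nat_lit 23) j)
noncomputable def dp_ei_14 (j u : ℕ) : Bool :=
  Bool.rec (motive := fun _ => Bool) (dp_ei_12 j u) (dp_ei_13 j u) (Nat.ble (nat_lit 22) j)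
noncomputable def dp_ei_15 (j u : ℕ) : Bool :=
  Bool.rec (motive := fun _ => Bool) (dp_ei_11 j u) (dp_ei_14 j u) (Nat.ble (nat_lit 20) j)
noncomputable def dp_ei_16 (j u : ℕ) : Bool :=
  Bool.rec (motive := fun _ => Bool) (dp_ei_9 j u) (dp_ei_15 j u) (Nat.ble (nat_lit 17) j)
noncomputable def dp_ei_17 (j u : ℕ) : Bool :=
  Bool.rec (motive := fun _ => Bool) (lF [T_b, T_ei, T_f, T_b, T_ei, T_b, T_ei, T_f, T_b] M (Nat.sub (T_ei u) (Nat.mod (T_ei u) M)) (Nat.mod (T_ei u) M) u) (lF [T_fi, T_e, T_e, T_f, T_bi, T_f, T_c, T_bi, T_ci] M (Nat.sub (T_ei u) (Nat.mod (T_ei u) M)) (Nat.mod (T_ei u) M) u) (Nat.ble (nat_lit 25) j)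
noncomputable def dp_ei_18 (j u : ℕ) : Bool :=
  Bool.rec (motive := fun _ => Bool) (lF [T_ci, T_f, T_ci, T_e, T_c, T_f, T_c, T_fi, T_ei] M (Nat.sub (T_ei u) (Nat.mod (T_ei u) M)) (Nat.mod (T_ei u) M) u) (lS MG [T_ci, T_f, T_ci, T_e, T_c, T_f, T_c, T_fi, T_ei] M (Nat.sub (T_ei u) (Nat.mod (T_ei u) M)) (nat_lit 40) (Nat.mod (T_ei u) M) u) (Nat.ble (nat_lit 28) j)
noncomputable def dp_ei_19 (j u : ℕ) : Bool :=
  Bool.rec (motive := fun _ => Bool) (lF [T_f, T_b, T_f, T_c, T_b, T_e, T_b, T_f, T_c] M (Nat.sub (T_ei u) (Nat.mod (T_ei u) M)) (Nat.mod (T_ei u) M) u) (dp_ei_18 j u) (Nat.ble (nat_lit 27) j)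
noncomputable def dp_ei_20 (j u : ℕ) : Bool :=
  Bool.rec (motive := fun _ => Bool) (dp_ei_17 j u) (dp_ei_19 j u) (Nat.ble (nat_lit 26) j)
noncomputable def dp_ei_21 (j u : ℕ) : Bool :=
  Bool.rec (motive := fun _ => Bool) (lF [T_bi, T_e, T_b, T_ei, T_bi, T_c, T_fi, T_e, T_f] M (Nat.sub (T_ei u) (Nat.mod (T_ei u) M)) (Nat.mod (T_ei u) M) u) (lS MG [T_ci, T_f, T_f, T_ei, T_ci, T_fi, T_c, T_f, T_ci] M (Nat.sub (T_ei u) (Nat.mod (T_ei u) M)) (nat_lit 40) (Nat.mod (T_ei u) M) u) (Nat.ble (nat_lit 31) j)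
noncomputable def dp_ei_22 (j u : ℕ) : Bool :=
  Bool.rec (motive := fun _ => Bool) (lS MG [T_ci, T_b, T_ci, T_fi, T_c, T_bi, T_ei, T_ci, T_fi] M (Nat.sub (T_ei u) (Nat.mod (T_ei u) M)) (nat_lit 40) (Nat.mod (T_ei u) M) u) (dp_ei_21 j u) (Nat.ble (nat_lit 30) j)
noncomputable def dp_ei_23 (j u : ℕ) : Bool :=
  Bool.rec (motive := fun _ => Bool) (lF [T_ci, T_fi, T_ei, T_ci, T_b, T_ci, T_fi, T_c, T_bi] M (Nat.sub (T_ei u) (Nat.mod (T_ei u) M)) (Nat.mod (T_ei u) M) u) (lS MG [T_fi, T_e, T_e, T_f, T_bi, T_f, T_c, T_bi, T_ci] M (Nat.sub (T_ei u) (Nat.mod (T_ei u) M)) (nat_lit 40) (Nat.mod (T_ei u) M) u) (Nat.ble (nat_lit 33) j)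
noncomputable def dp_ei_24 (j u : ℕ) : Bool :=
  Bool.rec (motive := fun _ => Bool) (lS MG [T_c, T_fi, T_c, T_e, T_e, T_f, T_ci, T_fi, T_ci] M (Nat.sub (T_ei u) (Nat.mod (T_ei u) M)) (nat_lit 40) (Nat.mod (T_ei u) M) u) (lF [T_b, T_ei, T_ei, T_bi, T_ei, T_b, T_ei, T_ei, T_bi] M (Nat.sub (T_ei u) (Nat.mod (T_ei u) M)) (Nat.mod (T_ei u) M) u) (Nat.ble (nat_lit 35) j)
noncomputable def dp_ei_25 (j u : ℕ) : Bool :=
  Bool.rec (motive := fun _ => Bool) (dp_ei_23 j u) (dp_ei_24 j u) (Nat.ble (nat_lit 34) j)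
noncomputable def dp_ei_26 (j u : ℕ) : Bool :=
  Bool.rec (motive := fun _ => Bool) (dp_ei_22 j u) (dp_ei_25 j u) (Nat.ble (nat_lit 32) j)
noncomputable def dp_ei_27 (j u : ℕ) : Bool :=
  Bool.rec (motive := fun _ => Bool) (dp_ei_20 j u) (dp_ei_26 j u) (Nat.ble (nat_lit 29) j)
noncomputable def dp_ei_28 (j u : ℕ) : Bool :=
  Bool.rec (motive := fun _ => Bool) (lF [T_bi, T_ei, T_b, T_ci, T_f, T_c, T_f, T_f, T_ei] M (Nat.sub (T_ei u) (Nat.mod (T_ei u) M)) (Nat.mod (T_ei u) M) u) (lS MG [T_ei, T_ci, T_f, T_ci, T_e, T_c, T_f, T_c, T_fi] M (Nat.sub (T_ei u) (Nat.mod (T_ei u) M)) (nat_lit 40) (Nat.mod (T_ei u) M) u) (Nat.ble (nat_lit 37) j)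
noncomputable def dp_ei_29 (j u : ℕ) : Bool :=
  Bool.rec (motive := fun _ => Bool) (lS MG [T_ei, T_b, T_ei, T_bi, T_ei, T_ei, T_b, T_ei, T_bi] M (Nat.sub (T_ei u) (Nat.mod (T_ei u) M)) (nat_lit 40) (Nat.mod (T_ei u) M) u) (lF [T_c, T_fi, T_b, T_ei, T_c, T_bi, T_f, T_ei, T_bi] M (Nat.sub (T_ei u) (Nat.mod (T_ei u) M)) (Nat.mod (T_ei u) M) u) (Nat.ble (nat_lit 40) j)
noncomputable def dp_ei_30 (j u : ℕ) : Bool :=
  Bool.rec (motive := fun _ => Bool) (lS MG [T_c, T_bi, T_f, T_ei, T_bi, T_ei, T_c, T_fi, T_b] M (Nat.sub (T_ei u) (Nat.mod (T_ei u) M)) (nat_lit 40) (Nat.mod (T_ei u) M) u) (dp_ei_29 j u) (Nat.ble (nat_lit 39) j)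
noncomputable def dp_ei_31 (j u : ℕ) : Bool :=
  Bool.rec (motive := fun _ => Bool) (dp_ei_28 j u) (dp_ei_30 j u) (Nat.ble (nat_lit 38) j)
noncomputable def dp_ei_32 (j u : ℕ) : Bool :=
  Bool.rec (motive := fun _ => Bool) (lS MG [T_c, T_fi, T_b, T_ei, T_c, T_bi, T_f, T_ei, T_bi] M (Nat.sub (T_ei u) (Nat.mod (T_ei u) M)) (nat_lit 40) (Nat.mod (T_ei u) M) u) (lS MG [T_b, T_ci, T_f, T_c, T_f, T_f, T_ei, T_ei, T_bi] M (Nat.sub (T_ei u) (Nat.mod (T_ei u) M)) (nat_lit 40) (Nat.mod (T_ei u) M) u) (Nat.ble (nat_lit 42) j)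
noncomputable def dp_ei_33 (j u : ℕ) : Bool :=
  Bool.rec (motive := fun _ => Bool) (lF [T_b, T_e, T_fi, T_ei, T_f, T_ci, T_b, T_e, T_bi] M (Nat.sub (T_ei u) (Nat.mod (T_ei u) M)) (Nat.mod (T_ei u) M) u) (lF [T_b, T_ei, T_bi, T_ei, T_ei, T_b, T_ei, T_bi, T_ei] M (Nat.sub (T_ei u) (Nat.mod (T_ei u) M)) (Nat.mod (T_ei u) M) u) (Nat.ble (nat_lit 45) j)
noncomputable def dp_ei_34 (j u : ℕ) : Bool :=
  Bool.rec (motive := fun _ => Bool) (lF [T_ei, T_f, T_e, T_c, T_b, T_ci, T_fi, T_b, T_fi] M (Nat.sub (T_ei u) (Nat.mod (T_ei u) M)) (Nat.mod (T_ei u) M) u) (dp_ei_33 j u) (Nat.ble (nat_lit 44) j)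
noncomputable def dp_ei_35 (j u : ℕ) : Bool :=
  Bool.rec (motive := fun _ => Bool) (dp_ei_32 j u) (dp_ei_34 j u) (Nat.ble (nat_lit 43) j)
noncomputable def dp_ei_36 (j u : ℕ) : Bool :=
  Bool.rec (motive := fun _ => Bool) (dp_ei_31 j u) (dp_ei_35 j u) (Nat.ble (nat_lit 41) j)
noncomputable def dp_ei_37 (j u : ℕ) : Bool :=
  Bool.rec (motive := fun _ => Bool) (lS MG [T_b, T_ei, T_bi, T_ei, T_ei, T_b, T_ei, T_bi, T_ei] M (Nat.sub (T_ei u) (Nat.mod (T_ei u) M)) (nat_lit 40) (Nat.mod (T_ei u) M) u) (lS MG [T_bi, T_ei, T_b, T_ci, T_f, T_c, T_f, T_f, T_ei] M (Nat.sub (T_ei u) (Nat.mod (T_ei u) M)) (nat_lit 40) (Nat.mod (T_ei u) M) u) (Nat.ble (nat_lit 47) j)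
noncomputable def dp_ei_38 (j u : ℕ) : Bool :=
  Bool.rec (motive := fun _ => Bool) (lS MG [T_b, T_ei, T_ei, T_bi, T_ei, T_b, T_ei, T_ei, T_bi] M (Nat.sub (T_ei u) (Nat.mod (T_ei u) M)) (nat_lit 40) (Nat.mod (T_ei u) M) u) (lS MG [T_ei, T_bi, T_ei, T_b, T_ei, T_ei, T_bi, T_ei, T_b] M (Nat.sub (T_ei u) (Nat.mod (T_ei u) M)) (nat_lit 40) (Nat.mod (T_ei u) M) u) (Nat.ble (nat_lit 49) j)
noncomputable def dp_ei_39 (j u : ℕ) : Bool :=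
  Bool.rec (motive := fun _ => Bool) (dp_ei_37 j u) (dp_ei_38 j u) (Nat.ble (nat_lit 48) j)
noncomputable def dp_ei_40 (j u : ℕ) : Bool :=
  Bool.rec (motive := fun _ => Bool) (lS MG [T_f, T_e, T_c, T_b, T_ci, T_fi, T_b, T_fi, T_ei] M (Nat.sub (T_ei u) (Nat.mod (T_ei u) M)) (nat_lit 40) (Nat.mod (T_ei u) M) u) (lS MG [T_f, T_b, T_f, T_c, T_b, T_e, T_b, T_f, T_c] M (Nat.sub (T_ei u) (Nat.mod (T_ei u) M)) (nat_lit 40) (Nat.mod (T_ei u) M) u) (Nat.ble (nat_lit 51) j)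
noncomputable def dp_ei_41 (j u : ℕ) : Bool :=
  Bool.rec (motive := fun _ => Bool) (lS MG [T_ei, T_f, T_e, T_c, T_b, T_ci, T_fi, T_b, T_fi] M (Nat.sub (T_ei u) (Nat.mod (T_ei u) M)) (nat_lit 40) (Nat.mod (T_ei u) M) u) (lF [T_bi, T_ei, T_b, T_ei, T_ei, T_bi, T_ei, T_b, T_ei] M (Nat.sub (T_ei u) (Nat.mod (T_ei u) M)) (Nat.mod (T_ei u) M) u) (Nat.ble (nat_lit 53) j)
noncomputable def dp_ei_42 (j u : ℕ) : Bool :=
  Bool.rec (motive := fun _ => Bool) (dp_ei_40 j u) (dp_ei_41 j u) (Nat.ble (nat_lit 52) j)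
noncomputable def dp_ei_43 (j u : ℕ) : Bool :=
  Bool.rec (motive := fun _ => Bool) (dp_ei_39 j u) (dp_ei_42 j u) (Nat.ble (nat_lit 50) j)
noncomputable def dp_ei_44 (j u : ℕ) : Bool :=
  Bool.rec (motive := fun _ => Bool) (lS MG [T_ci, T_fi, T_c, T_f, T_ci, T_ei, T_ci, T_f, T_f] M (Nat.sub (T_ei u) (Nat.mod (T_ei u) M)) (nat_lit 40) (Nat.mod (T_ei u) M) u) (lF [T_ei, T_bi, T_ei, T_b, T_ci, T_f, T_c, T_f, T_f] M (Nat.sub (T_ei u) (Nat.mod (T_ei u) M)) (Nat.mod (T_ei u) M) u) (Nat.ble (nat_lit 55) j)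
noncomputable def dp_ei_45 (j u : ℕ) : Bool :=
  Bool.rec (motive := fun _ => Bool) (lS MG [T_f, T_b, T_ei, T_b, T_ei, T_f, T_b, T_ei, T_b] M (Nat.sub (T_ei u) (Nat.mod (T_ei u) M)) (nat_lit 40) (Nat.mod (T_ei u) M) u) (lF [T_ei, T_bi, T_ei, T_b, T_ei, T_ei, T_bi, T_ei, T_b] M (Nat.sub (T_ei u) (Nat.mod (T_ei u) M)) (Nat.mod (T_ei u) M) u) (Nat.ble (nat_lit 57) j)
noncomputable def dp_ei_46 (j u : ℕ) : Bool :=
  Bool.rec (motive := fun _ => Bool) (lS MG [T_ei, T_bi, T_ei, T_b, T_ci, T_f, T_c, T_f, T_f] M (Nat.sub (T_ei u) (Nat.mod (T_ei u) M)) (nat_lit 40) (Nat.mod (T_ei u) M) u) (lS MG [T_b, T_ei, T_f, T_b, T_ei, T_b, T_ei, T_f, T_b] M (Nat.sub (T_ei u) (Nat.mod (T_ei u) M)) (nat_lit 40) (Nat.mod (T_ei u) M) u) (Nat.ble (nat_lit 59) j)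
noncomputable def dp_ei_47 (j u : ℕ) : Bool :=
  Bool.rec (motive := fun _ => Bool) (dp_ei_45 j u) (dp_ei_46 j u) (Nat.ble (nat_lit 58) j)
noncomputable def dp_ei_48 (j u : ℕ) : Bool :=
  Bool.rec (motive := fun _ => Bool) (dp_ei_44 j u) (dp_ei_47 j u) (Nat.ble (nat_lit 56) j)
noncomputable def dp_ei_49 (j u : ℕ) : Bool :=
  Bool.rec (motive := fun _ => Bool) (lS MG [T_bi, T_ei, T_b, T_ei, T_ei, T_bi, T_ei, T_b, T_ei] M (Nat.sub (T_ei u) (Nat.mod (T_ei u) M)) (nat_lit 40) (Nat.mod (T_ei u) M) u) (lS MG [T_bi, T_ei, T_ei, T_b, T_ei, T_bi, T_ei, T_ei, T_b] M (Nat.sub (T_ei u) (Nat.mod (T_ei u) M)) (nat_lit 40) (Nat.mod (T_ei u) M) u) (Nat.ble (nat_lit 61) j)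
noncomputable def dp_ei_50 (j u : ℕ) : Bool :=
  Bool.rec (motive := fun _ => Bool) (lS MG [T_bi, T_ei, T_c, T_fi, T_b, T_ei, T_c, T_bi, T_f] M (Nat.sub (T_ei u) (Nat.mod (T_ei u) M)) (nat_lit 40) (Nat.mod (T_ei u) M) u) (lS MG [T_b, T_e, T_fi, T_ei, T_f, T_ci, T_b, T_e, T_bi] M (Nat.sub (T_ei u) (Nat.mod (T_ei u) M)) (nat_lit 40) (Nat.mod (T_ei u) M) u) (Nat.ble (nat_lit 63) j)
noncomputable def dp_ei_51 (j u : ℕ) : Bool :=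
  Bool.rec (motive := fun _ => Bool) (dp_ei_49 j u) (dp_ei_50 j u) (Nat.ble (nat_lit 62) j)
noncomputable def dp_ei_52 (j u : ℕ) : Bool :=
  Bool.rec (motive := fun _ => Bool) (lS MG [T_bi, T_ci, T_fi, T_bi, T_fi, T_e, T_ci, T_fi, T_bi] M (Nat.sub (T_ei u) (Nat.mod (T_ei u) M)) (nat_lit 40) (Nat.mod (T_ei u) M) u) (lF [T_ei, T_b, T_ei, T_bi, T_ei, T_ei, T_b, T_ei, T_bi] M (Nat.sub (T_ei u) (Nat.mod (T_ei u) M)) (Nat.mod (T_ei u) M) u) (Nat.ble (nat_lit 65) j)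
noncomputable def dp_ei_53 (j u : ℕ) : Bool :=
  Bool.rec (motive := fun _ => Bool) (lF [T_bi, T_c, T_fi, T_e, T_f, T_ei, T_bi, T_e, T_b] M (Nat.sub (T_ei u) (Nat.mod (T_ei u) M)) (Nat.mod (T_ei u) M) u) (lS MG [T_bi, T_e, T_b, T_ei, T_bi, T_c, T_fi, T_e, T_f] M (Nat.sub (T_ei u) (Nat.mod (T_ei u) M)) (nat_lit 40) (Nat.mod (T_ei u) M) u) (Nat.ble (nat_lit 67) j)
noncomputable def dp_ei_54 (j u : ℕ) : Bool :=
  Bool.rec (motive := fun _ => Bool) (dp_ei_52 j u) (dp_ei_53 j u) (Nat.ble (nat_lit 66) j)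
noncomputable def dp_ei_55 (j u : ℕ) : Bool :=
  Bool.rec (motive := fun _ => Bool) (dp_ei_51 j u) (dp_ei_54 j u) (Nat.ble (nat_lit 64) j)
noncomputable def dp_ei_56 (j u : ℕ) : Bool :=
  Bool.rec (motive := fun _ => Bool) (dp_ei_48 j u) (dp_ei_55 j u) (Nat.ble (nat_lit 60) j)
noncomputable def dp_ei_57 (j u : ℕ) : Bool :=
  Bool.rec (motive := fun _ => Bool) (dp_ei_43 j u) (dp_ei_56 j u) (Nat.ble (nat_lit 54) j)
noncomputable def dp_ei_58 (j u : ℕ) : Bool :=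
  Bool.rec (motive := fun _ => Bool) (dp_ei_36 j u) (dp_ei_57 j u) (Nat.ble (nat_lit 46) j)
noncomputable def dp_ei_59 (j u : ℕ) : Bool :=
  Bool.rec (motive := fun _ => Bool) (dp_ei_27 j u) (dp_ei_58 j u) (Nat.ble (nat_lit 36) j)
noncomputable def dp_ei_60 (j u : ℕ) : Bool :=
  Bool.rec (motive := fun _ => Bool) (dp_ei_16 j u) (dp_ei_59 j u) (Nat.ble (nat_lit 24) j)
noncomputable def dp_ei_61 (j u : ℕ) : Bool :=
  Bool.rec (motive := fun _ => Bool) (dp_ei_6 j u) (dp_ei_60 j u) (Nat.ble (nat_lit 13) j)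
noncomputable def dp_ei_62 (j u : ℕ) : Bool :=
  Bool.rec (motive := fun _ => Bool) (dp_ei_1 j u) (dp_ei_61 j u) (Nat.ble (nat_lit 7) j)
noncomputable def dp_ei_63 (j u : ℕ) : Bool :=
  Bool.rec (motive := fun _ => Bool) (Bool.rec (motive := fun _ => Bool) (lDef P (nat_lit 2) u (Nat.mod (T_ei u) M)) (lDef P (nat_lit 3) (Nat.mod (T_ei u) M) u) (Nat.ble (nat_lit 3) j)) (dp_ei_62 j u) (Nat.ble (nat_lit 4) j)
noncomputable def disp_ei (j u : ℕ) : Bool :=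
  Bool.rec (motive := fun _ => Bool) (Bool.rec (motive := fun _ => Bool) (lF1 T_e M (Nat.sub (T_ei u) (Nat.mod (T_ei u) M)) (Nat.mod (T_ei u) M) u) (lF3 T_d T_f T_di M (Nat.sub (T_ei u) (Nat.mod (T_ei u) M)) (Nat.mod (T_ei u) M) u) (Nat.ble (nat_lit 1) j)) (dp_ei_63 j u) (Nat.ble (nat_lit 2) j)
noncomputable def chk_ei (j u : ℕ) : Bool :=
  Bool.rec (motive := fun _ => Bool) (disp_ei j u) (Nat.ble (Nat.succ (MG u)) A) (Nat.ble A (T_ei u))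
noncomputable def dp_c_0 (j u : ℕ) : Bool :=
  Bool.rec (motive := fun _ => Bool) (lS MG [T_b, T_ei, T_fi, T_ei, T_c, T_bi, T_fi, T_b] M (Nat.sub (T_c u) (Nat.mod (T_c u) M)) (nat_lit 40) (Nat.mod (T_c u) M) u) (lS MG [T_bi, T_fi, T_b, T_c, T_b, T_ei, T_fi, T_ei] M (Nat.sub (T_c u) (Nat.mod (T_c u) M)) (nat_lit 40) (Nat.mod (T_c u) M) u) (Nat.ble (nat_lit 9) j)
noncomputable def dp_c_1 (j u : ℕ) : Bool :=
  Bool.rec (motive := fun _ => Bool) (lF [T_bi, T_fi, T_b, T_c, T_b, T_ei, T_fi, T_ei] M (Nat.sub (T_c u) (Nat.mod (T_c u) M)) (Nat.mod (T_c u) M) u) (dp_c_0 j u) (Nat.ble (nat_lit 8) j)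
noncomputable def dp_c_2 (j u : ℕ) : Bool :=
  Bool.rec (motive := fun _ => Bool) (lF [T_b, T_ei, T_fi, T_ei, T_c, T_bi, T_fi, T_b] M (Nat.sub (T_c u) (Nat.mod (T_c u) M)) (Nat.mod (T_c u) M) u) (dp_c_1 j u) (Nat.ble (nat_lit 7) j)
noncomputable def dp_c_3 (j u : ℕ) : Bool :=
  Bool.rec (motive := fun _ => Bool) (lF [T_e, T_c, T_fi, T_ci, T_f, T_c, T_e, T_fi, T_fi] M (Nat.sub (T_c u) (Nat.mod (T_c u) M)) (Nat.mod (T_c u) M) u) (lF [T_fi, T_e, T_f, T_ei, T_bi, T_e, T_b, T_ei, T_bi] M (Nat.sub (T_c u) (Nat.mod (T_c u) M)) (Nat.mod (T_c u) M) u) (Nat.ble (nat_lit 12) j)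
noncomputable def dp_c_4 (j u : ℕ) : Bool :=
  Bool.rec (motive := fun _ => Bool) (lS MG [T_di, T_bi, T_d] M (Nat.sub (T_c u) (Nat.mod (T_c u) M)) (nat_lit 40) (Nat.mod (T_c u) M) u) (dp_c_3 j u) (Nat.ble (nat_lit 11) j)
noncomputable def dp_c_5 (j u : ℕ) : Bool :=
  Bool.rec (motive := fun _ => Bool) (lF [T_b, T_ci, T_fi, T_b, T_fi, T_ei, T_ei, T_f, T_e] M (Nat.sub (T_c u) (Nat.mod (T_c u) M)) (Nat.mod (T_c u) M) u) (lF [T_e, T_b, T_ci, T_f, T_c, T_bi, T_c, T_e, T_f] M (Nat.sub (T_c u) (Nat.mod (T_c u) M)) (Nat.mod (T_c u) M) u) (Nat.ble (nat_lit 14) j)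
noncomputable def dp_c_6 (j u : ℕ) : Bool :=
  Bool.rec (motive := fun _ => Bool) (lF [T_bi, T_f, T_ei, T_bi, T_ei, T_c, T_fi, T_b, T_ei] M (Nat.sub (T_c u) (Nat.mod (T_c u) M)) (Nat.mod (T_c u) M) u) (lF [T_bi, T_c, T_e, T_f, T_c, T_e, T_b, T_ci, T_f] M (Nat.sub (T_c u) (Nat.mod (T_c u) M)) (Nat.mod (T_c u) M) u) (Nat.ble (nat_lit 16) j)
noncomputable def dp_c_7 (j u : ℕ) : Bool :=
  Bool.rec (motive := fun _ => Bool) (lF [T_f, T_ci, T_ei, T_ci, T_f, T_f, T_ei, T_ci, T_fi] M (Nat.sub (T_c u) (Nat.mod (T_c u) M)) (Nat.mod (T_c u) M) u) (lF [T_e, T_f, T_c, T_e, T_b, T_ci, T_f, T_c, T_bi] M (Nat.sub (T_c u) (Nat.mod (T_c u) M)) (Nat.mod (T_c u) M) u) (Nat.ble (nat_lit 18) j)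
noncomputable def dp_c_8 (j u : ℕ) : Bool :=
  Bool.rec (motive := fun _ => Bool) (dp_c_6 j u) (dp_c_7 j u) (Nat.ble (nat_lit 17) j)
noncomputable def dp_c_9 (j u : ℕ) : Bool :=
  Bool.rec (motive := fun _ => Bool) (dp_c_5 j u) (dp_c_8 j u) (Nat.ble (nat_lit 15) j)
noncomputable def dp_c_10 (j u : ℕ) : Bool :=
  Bool.rec (motive := fun _ => Bool) (dp_c_4 j u) (dp_c_9 j u) (Nat.ble (nat_lit 13) j)
noncomputable def dp_c_11 (j u : ℕ) : Bool :=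
  Bool.rec (motive := fun _ => Bool) (lF [T_fi, T_c, T_e, T_e, T_f, T_ci, T_fi, T_ci, T_ei] M (Nat.sub (T_c u) (Nat.mod (T_c u) M)) (Nat.mod (T_c u) M) u) (lF [T_f, T_f, T_ci, T_f, T_c, T_f, T_f, T_ci, T_f] M (Nat.sub (T_c u) (Nat.mod (T_c u) M)) (Nat.mod (T_c u) M) u) (Nat.ble (nat_lit 20) j)
noncomputable def dp_c_12 (j u : ℕ) : Bool :=
  Bool.rec (motive := fun _ => Bool) (lF [T_f, T_c, T_fi, T_ei, T_ei, T_ci, T_f, T_ci, T_e] M (Nat.sub (T_c u) (Nat.mod (T_c u) M)) (Nat.mod (T_c u) M) u) (lF [T_b, T_e, T_b, T_f, T_c, T_ei, T_f, T_b, T_f] M (Nat.sub (T_c u) (Nat.mod (T_c u) M)) (Nat.mod (T_c u) M) u) (Nat.ble (nat_lit 22) j)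
noncomputable def dp_c_13 (j u : ℕ) : Bool :=
  Bool.rec (motive := fun _ => Bool) (dp_c_11 j u) (dp_c_12 j u) (Nat.ble (nat_lit 21) j)
noncomputable def dp_c_14 (j u : ℕ) : Bool :=
  Bool.rec (motive := fun _ => Bool) (lF [T_bi, T_ci, T_ei, T_fi, T_e, T_e, T_f, T_bi, T_f] M (Nat.sub (T_c u) (Nat.mod (T_c u) M)) (Nat.mod (T_c u) M) u) (lF [T_f, T_f, T_ei, T_ei, T_bi, T_ei, T_b, T_ci, T_f] M (Nat.sub (T_c u) (Nat.mod (T_c u) M)) (Nat.mod (T_c u) M) u) (Nat.ble (nat_lit 25) j)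
noncomputable def dp_c_15 (j u : ℕ) : Bool :=
  Bool.rec (motive := fun _ => Bool) (lF [T_e, T_e, T_f, T_ci, T_fi, T_ci, T_ei, T_c, T_fi] M (Nat.sub (T_c u) (Nat.mod (T_c u) M)) (Nat.mod (T_c u) M) u) (dp_c_14 j u) (Nat.ble (nat_lit 24) j)
noncomputable def dp_c_16 (j u : ℕ) : Bool :=
  Bool.rec (motive := fun _ => Bool) (lF [T_ei, T_f, T_b, T_f, T_c, T_b, T_e, T_b, T_f] M (Nat.sub (T_c u) (Nat.mod (T_c u) M)) (Nat.mod (T_c u) M) u) (lS MG [T_e, T_b, T_ci, T_f, T_c, T_bi, T_c, T_e, T_f] M (Nat.sub (T_c u) (Nat.mod (T_c u) M)) (nat_lit 40) (Nat.mod (T_c u) M) u) (Nat.ble (nat_lit 28) j)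
noncomputable def dp_c_17 (j u : ℕ) : Bool :=
  Bool.rec (motive := fun _ => Bool) (lS MG [T_fi, T_ei, T_ei, T_ci, T_f, T_ci, T_e, T_c, T_f] M (Nat.sub (T_c u) (Nat.mod (T_c u) M)) (nat_lit 40) (Nat.mod (T_c u) M) u) (dp_c_16 j u) (Nat.ble (nat_lit 27) j)
noncomputable def dp_c_18 (j u : ℕ) : Bool :=
  Bool.rec (motive := fun _ => Bool) (dp_c_15 j u) (dp_c_17 j u) (Nat.ble (nat_lit 26) j)
noncomputable def dp_c_19 (j u : ℕ) : Bool :=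
  Bool.rec (motive := fun _ => Bool) (dp_c_13 j u) (dp_c_18 j u) (Nat.ble (nat_lit 23) j)
noncomputable def dp_c_20 (j u : ℕ) : Bool :=
  Bool.rec (motive := fun _ => Bool) (lS MG [T_bi, T_ci, T_ei, T_fi, T_e, T_e, T_f, T_bi, T_f] M (Nat.sub (T_c u) (Nat.mod (T_c u) M)) (nat_lit 40) (Nat.mod (T_c u) M) u) (lS MG [T_e, T_f, T_c, T_e, T_b, T_ci, T_f, T_c, T_bi] M (Nat.sub (T_c u) (Nat.mod (T_c u) M)) (nat_lit 40) (Nat.mod (T_c u) M) u) (Nat.ble (nat_lit 30) j)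
noncomputable def dp_c_21 (j u : ℕ) : Bool :=
  Bool.rec (motive := fun _ => Bool) (lS MG [T_bi, T_f, T_ei, T_bi, T_ei, T_c, T_fi, T_b, T_ei] M (Nat.sub (T_c u) (Nat.mod (T_c u) M)) (nat_lit 40) (Nat.mod (T_c u) M) u) (lS MG [T_f, T_ci, T_ei, T_ci, T_f, T_f, T_ei, T_ci, T_fi] M (Nat.sub (T_c u) (Nat.mod (T_c u) M)) (nat_lit 40) (Nat.mod (T_c u) M) u) (Nat.ble (nat_lit 32) j)
noncomputable def dp_c_22 (j u : ℕ) : Bool :=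
  Bool.rec (motive := fun _ => Bool) (dp_c_20 j u) (dp_c_21 j u) (Nat.ble (nat_lit 31) j)
noncomputable def dp_c_23 (j u : ℕ) : Bool :=
  Bool.rec (motive := fun _ => Bool) (lS MG [T_f, T_f, T_ci, T_f, T_c, T_f, T_f, T_ci, T_f] M (Nat.sub (T_c u) (Nat.mod (T_c u) M)) (nat_lit 40) (Nat.mod (T_c u) M) u) (lS MG [T_fi, T_c, T_e, T_e, T_f, T_ci, T_fi, T_ci, T_ei] M (Nat.sub (T_c u) (Nat.mod (T_c u) M)) (nat_lit 40) (Nat.mod (T_c u) M) u) (Nat.ble (nat_lit 34) j)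
noncomputable def dp_c_24 (j u : ℕ) : Bool :=
  Bool.rec (motive := fun _ => Bool) (lS MG [T_b, T_e, T_b, T_f, T_c, T_ei, T_f, T_b, T_f] M (Nat.sub (T_c u) (Nat.mod (T_c u) M)) (nat_lit 40) (Nat.mod (T_c u) M) u) (lF [T_bi, T_ei, T_ci, T_fi, T_ei, T_ci, T_b, T_ci, T_fi] M (Nat.sub (T_c u) (Nat.mod (T_c u) M)) (Nat.mod (T_c u) M) u) (Nat.ble (nat_lit 37) j)
noncomputable def dp_c_25 (j u : ℕ) : Bool :=
  Bool.rec (motive := fun _ => Bool) (lF [T_fi, T_fi, T_ci, T_fi, T_c, T_fi, T_fi, T_ci, T_fi] M (Nat.sub (T_c u) (Nat.mod (T_c u) M)) (Nat.mod (T_c u) M) u) (dp_c_24 j u) (Nat.ble (nat_lit 36) j)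
noncomputable def dp_c_26 (j u : ℕ) : Bool :=
  Bool.rec (motive := fun _ => Bool) (dp_c_23 j u) (dp_c_25 j u) (Nat.ble (nat_lit 35) j)
noncomputable def dp_c_27 (j u : ℕ) : Bool :=
  Bool.rec (motive := fun _ => Bool) (dp_c_22 j u) (dp_c_26 j u) (Nat.ble (nat_lit 33) j)
noncomputable def dp_c_28 (j u : ℕ) : Bool :=
  Bool.rec (motive := fun _ => Bool) (lF [T_fi, T_b, T_ei, T_c, T_bi, T_f, T_ei, T_bi, T_ei] M (Nat.sub (T_c u) (Nat.mod (T_c u) M)) (Nat.mod (T_c u) M) u) (lS MG [T_f, T_f, T_ei, T_ei, T_bi, T_ei, T_b, T_ci, T_f] M (Nat.sub (T_c u) (Nat.mod (T_c u) M)) (nat_lit 40) (Nat.mod (T_c u) M) u) (Nat.ble (nat_lit 40) j)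
noncomputable def dp_c_29 (j u : ℕ) : Bool :=
  Bool.rec (motive := fun _ => Bool) (lS MG [T_fi, T_b, T_ei, T_c, T_bi, T_f, T_ei, T_bi, T_ei] M (Nat.sub (T_c u) (Nat.mod (T_c u) M)) (nat_lit 40) (Nat.mod (T_c u) M) u) (dp_c_28 j u) (Nat.ble (nat_lit 39) j)
noncomputable def dp_c_30 (j u : ℕ) : Bool :=
  Bool.rec (motive := fun _ => Bool) (lS MG [T_fi, T_e, T_f, T_ei, T_bi, T_e, T_b, T_ei, T_bi] M (Nat.sub (T_c u) (Nat.mod (T_c u) M)) (nat_lit 40) (Nat.mod (T_c u) M) u) (lS MG [T_bi, T_e, T_b, T_e, T_e, T_fi, T_fi, T_ci, T_fi] M (Nat.sub (T_c u) (Nat.mod (T_c u) M)) (nat_lit 40) (Nat.mod (T_c u) M) u) (Nat.ble (nat_lit 42) j)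
noncomputable def dp_c_31 (j u : ℕ) : Bool :=
  Bool.rec (motive := fun _ => Bool) (lS MG [T_bi, T_c, T_e, T_f, T_c, T_e, T_b, T_ci, T_f] M (Nat.sub (T_c u) (Nat.mod (T_c u) M)) (nat_lit 40) (Nat.mod (T_c u) M) u) (lS MG [T_fi, T_fi, T_ci, T_fi, T_c, T_fi, T_fi, T_ci, T_fi] M (Nat.sub (T_c u) (Nat.mod (T_c u) M)) (nat_lit 40) (Nat.mod (T_c u) M) u) (Nat.ble (nat_lit 44) j)
noncomputable def dp_c_32 (j u : ℕ) : Bool :=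
  Bool.rec (motive := fun _ => Bool) (dp_c_30 j u) (dp_c_31 j u) (Nat.ble (nat_lit 43) j)
noncomputable def dp_c_33 (j u : ℕ) : Bool :=
  Bool.rec (motive := fun _ => Bool) (dp_c_29 j u) (dp_c_32 j u) (Nat.ble (nat_lit 41) j)
noncomputable def dp_c_34 (j u : ℕ) : Bool :=
  Bool.rec (motive := fun _ => Bool) (lS MG [T_e, T_e, T_f, T_ci, T_fi, T_ci, T_ei, T_c, T_fi] M (Nat.sub (T_c u) (Nat.mod (T_c u) M)) (nat_lit 40) (Nat.mod (T_c u) M) u) (lS MG [T_bi, T_ei, T_ci, T_fi, T_ei, T_ci, T_b, T_ci, T_fi] M (Nat.sub (T_c u) (Nat.mod (T_c u) M)) (nat_lit 40) (Nat.mod (T_c u) M) u) (Nat.ble (nat_lit 46) j)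
noncomputable def dp_c_35 (j u : ℕ) : Bool :=
  Bool.rec (motive := fun _ => Bool) (lF [T_e, T_fi, T_fi, T_c, T_e, T_c, T_fi, T_ci, T_f] M (Nat.sub (T_c u) (Nat.mod (T_c u) M)) (Nat.mod (T_c u) M) u) (lS MG [T_b, T_ci, T_fi, T_b, T_fi, T_ei, T_ei, T_f, T_e] M (Nat.sub (T_c u) (Nat.mod (T_c u) M)) (nat_lit 40) (Nat.mod (T_c u) M) u) (Nat.ble (nat_lit 48) j)
noncomputable def dp_c_36 (j u : ℕ) : Bool :=
  Bool.rec (motive := fun _ => Bool) (dp_c_34 j u) (dp_c_35 j u) (Nat.ble (nat_lit 47) j)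
noncomputable def dp_c_37 (j u : ℕ) : Bool :=
  Bool.rec (motive := fun _ => Bool) (lH [] [] M (Nat.sub (T_c u) (Nat.mod (T_c u) M)) (Nat.mod (T_c u) M) u) (lS MG [T_e, T_fi, T_fi, T_c, T_e, T_c, T_fi, T_ci, T_f] M (Nat.sub (T_c u) (Nat.mod (T_c u) M)) (nat_lit 40) (Nat.mod (T_c u) M) u) (Nat.ble (nat_lit 50) j)
noncomputable def dp_c_38 (j u : ℕ) : Bool :=
  Bool.rec (motive := fun _ => Bool) (lS MG [T_ei, T_f, T_b, T_f, T_c, T_b, T_e, T_b, T_f] M (Nat.sub (T_c u) (Nat.mod (T_c u) M)) (nat_lit 40) (Nat.mod (T_c u) M) u) (lF [T_bi, T_e, T_b, T_e, T_e, T_fi, T_fi, T_ci, T_fi] M (Nat.sub (T_c u) (Nat.mod (T_c u) M)) (Nat.mod (T_c u) M) u) (Nat.ble (nat_lit 52) j)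
noncomputable def dp_c_39 (j u : ℕ) : Bool :=
  Bool.rec (motive := fun _ => Bool) (dp_c_37 j u) (dp_c_38 j u) (Nat.ble (nat_lit 51) j)
noncomputable def dp_c_40 (j u : ℕ) : Bool :=
  Bool.rec (motive := fun _ => Bool) (lS MG [T_e, T_c, T_fi, T_ci, T_f, T_c, T_e, T_fi, T_fi] M (Nat.sub (T_c u) (Nat.mod (T_c u) M)) (nat_lit 40) (Nat.mod (T_c u) M) u) (lF [T_fi, T_ci, T_f, T_c, T_e, T_fi, T_fi, T_c, T_e] M (Nat.sub (T_c u) (Nat.mod (T_c u) M)) (Nat.mod (T_c u) M) u) (Nat.ble (nat_lit 54) j)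
noncomputable def dp_c_41 (j u : ℕ) : Bool :=
  Bool.rec (motive := fun _ => Bool) (lF [T_fi, T_ei, T_ei, T_ci, T_f, T_ci, T_e, T_c, T_f] M (Nat.sub (T_c u) (Nat.mod (T_c u) M)) (Nat.mod (T_c u) M) u) (lF [T_di, T_f, T_b, T_ei, T_bi, T_f, T_e, T_f, T_e, T_bi, T_fi, T_d] M (Nat.sub (T_c u) (Nat.mod (T_c u) M)) (Nat.mod (T_c u) M) u) (Nat.ble (nat_lit 57) j)
noncomputable def dp_c_42 (j u : ℕ) : Bool :=
  Bool.rec (motive := fun _ => Bool) (lS MG [T_fi, T_ci, T_f, T_c, T_e, T_fi, T_fi, T_c, T_e] M (Nat.sub (T_c u) (Nat.mod (T_c u) M)) (nat_lit 40) (Nat.mod (T_c u) M) u) (dp_c_41 j u) (Nat.ble (nat_lit 56) j)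
noncomputable def dp_c_43 (j u : ℕ) : Bool :=
  Bool.rec (motive := fun _ => Bool) (dp_c_40 j u) (dp_c_42 j u) (Nat.ble (nat_lit 55) j)
noncomputable def dp_c_44 (j u : ℕ) : Bool :=
  Bool.rec (motive := fun _ => Bool) (dp_c_39 j u) (dp_c_43 j u) (Nat.ble (nat_lit 53) j)
noncomputable def dp_c_45 (j u : ℕ) : Bool :=
  Bool.rec (motive := fun _ => Bool) (dp_c_36 j u) (dp_c_44 j u) (Nat.ble (nat_lit 49) j)
noncomputable def dp_c_46 (j u : ℕ) : Bool :=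
  Bool.rec (motive := fun _ => Bool) (dp_c_33 j u) (dp_c_45 j u) (Nat.ble (nat_lit 45) j)
noncomputable def dp_c_47 (j u : ℕ) : Bool :=
  Bool.rec (motive := fun _ => Bool) (dp_c_27 j u) (dp_c_46 j u) (Nat.ble (nat_lit 38) j)
noncomputable def dp_c_48 (j u : ℕ) : Bool :=
  Bool.rec (motive := fun _ => Bool) (dp_c_19 j u) (dp_c_47 j u) (Nat.ble (nat_lit 29) j)
noncomputable def dp_c_49 (j u : ℕ) : Bool :=
  Bool.rec (motive := fun _ => Bool) (dp_c_10 j u) (dp_c_48 j u) (Nat.ble (nat_lit 19) j)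
noncomputable def dp_c_50 (j u : ℕ) : Bool :=
  Bool.rec (motive := fun _ => Bool) (dp_c_2 j u) (dp_c_49 j u) (Nat.ble (nat_lit 10) j)
noncomputable def dp_c_51 (j u : ℕ) : Bool :=
  Bool.rec (motive := fun _ => Bool) (Bool.rec (motive := fun _ => Bool) (lDef P (nat_lit 4) (Nat.mod (T_c u) M) u) (lS MG [T_ci] M (Nat.sub (T_c u) (Nat.mod (T_c u) M)) (nat_lit 40) (Nat.mod (T_c u) M) u) (Nat.ble (nat_lit 5) j)) (dp_c_50 j u) (Nat.ble (nat_lit 6) j)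
noncomputable def disp_c (j u : ℕ) : Bool :=
  Bool.rec (motive := fun _ => Bool) (Bool.rec (motive := fun _ => Bool) (lF1 T_ci M (Nat.sub (T_c u) (Nat.mod (T_c u) M)) (Nat.mod (T_c u) M) u) (lF [T_c, T_c] M (Nat.sub (T_c u) (Nat.mod (T_c u) M)) (Nat.mod (T_c u) M) u) (Nat.ble (nat_lit 1) j)) (Bool.rec (motive := fun _ => Bool) (Bool.rec (motive := fun _ => Bool) (lF3 T_di T_bi T_d M (Nat.sub (T_c u) (Nat.mod (T_c u) M)) (Nat.mod (T_c u) M) u) (lDef P (nat_lit 5) u (Nat.mod (T_c u) M)) (Nat.ble (nat_lit 3) j)) (dp_c_51 j u) (Nat.ble (nat_lit 4) j)) (Nat.ble (nat_lit 2) j)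
noncomputable def chk_c (j u : ℕ) : Bool :=
  Bool.rec (motive := fun _ => Bool) (disp_c j u) (Nat.ble (Nat.succ (MG u)) A) (Nat.ble A (T_c u))
noncomputable def dp_ci_0 (j u : ℕ) : Bool :=
  Bool.rec (motive := fun _ => Bool) (lF [T_bi, T_f, T_b, T_ci, T_e, T_f, T_e, T_bi] M (Nat.sub (T_ci u) (Nat.mod (T_ci u) M)) (Nat.mod (T_ci u) M) u) (lS MG [T_e, T_f, T_e, T_bi, T_ci, T_bi, T_f, T_b] M (Nat.sub (T_ci u) (Nat.mod (T_ci u) M)) (nat_lit 40) (Nat.mod (T_ci u) M) u) (Nat.ble (nat_lit 8) j)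
noncomputable def dp_ci_1 (j u : ℕ) : Bool :=
  Bool.rec (motive := fun _ => Bool) (lF [T_e, T_f, T_e, T_bi, T_ci, T_bi, T_f, T_b] M (Nat.sub (T_ci u) (Nat.mod (T_ci u) M)) (Nat.mod (T_ci u) M) u) (dp_ci_0 j u) (Nat.ble (nat_lit 7) j)
noncomputable def dp_ci_2 (j u : ℕ) : Bool :=
  Bool.rec (motive := fun _ => Bool) (lS MG [T_di, T_b, T_d] M (Nat.sub (T_ci u) (Nat.mod (T_ci u) M)) (nat_lit 40) (Nat.mod (T_ci u) M) u) (lS MG [T_bi, T_f, T_b, T_ci, T_e, T_f, T_e, T_bi] M (Nat.sub (T_ci u) (Nat.mod (T_ci u) M)) (nat_lit 40) (Nat.mod (T_ci u) M) u) (Nat.ble (nat_lit 10) j)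
noncomputable def dp_ci_3 (j u : ℕ) : Bool :=
  Bool.rec (motive := fun _ => Bool) (lF [T_ei, T_fi, T_e, T_e, T_f, T_bi, T_f, T_c, T_bi] M (Nat.sub (T_ci u) (Nat.mod (T_ci u) M)) (Nat.mod (T_ci u) M) u) (lF [T_b, T_e, T_bi, T_ei, T_b, T_e, T_fi, T_ei, T_f] M (Nat.sub (T_ci u) (Nat.mod (T_ci u) M)) (Nat.mod (T_ci u) M) u) (Nat.ble (nat_lit 12) j)
noncomputable def dp_ci_4 (j u : ℕ) : Bool :=
  Bool.rec (motive := fun _ => Bool) (lF [T_f, T_f, T_ei, T_ci, T_fi, T_c, T_f, T_ci, T_ei] M (Nat.sub (T_ci u) (Nat.mod (T_ci u) M)) (Nat.mod (T_ci u) M) u) (lF [T_b, T_ci, T_fi, T_c, T_bi, T_ei, T_ci, T_fi, T_ei] M (Nat.sub (T_ci u) (Nat.mod (T_ci u) M)) (Nat.mod (T_ci u) M) u) (Nat.ble (nat_lit 14) j)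
noncomputable def dp_ci_5 (j u : ℕ) : Bool :=
  Bool.rec (motive := fun _ => Bool) (lF [T_fi, T_ei, T_ci, T_b, T_ci, T_fi, T_c, T_bi, T_ei] M (Nat.sub (T_ci u) (Nat.mod (T_ci u) M)) (Nat.mod (T_ci u) M) u) (lS MG [T_b, T_e, T_bi, T_ei, T_b, T_e, T_fi, T_ei, T_f] M (Nat.sub (T_ci u) (Nat.mod (T_ci u) M)) (nat_lit 40) (Nat.mod (T_ci u) M) u) (Nat.ble (nat_lit 16) j)
noncomputable def dp_ci_6 (j u : ℕ) : Bool :=
  Bool.rec (motive := fun _ => Bool) (dp_ci_4 j u) (dp_ci_5 j u) (Nat.ble (nat_lit 15) j)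
noncomputable def dp_ci_7 (j u : ℕ) : Bool :=
  Bool.rec (motive := fun _ => Bool) (dp_ci_3 j u) (dp_ci_6 j u) (Nat.ble (nat_lit 13) j)
noncomputable def dp_ci_8 (j u : ℕ) : Bool :=
  Bool.rec (motive := fun _ => Bool) (dp_ci_2 j u) (dp_ci_7 j u) (Nat.ble (nat_lit 11) j)
noncomputable def dp_ci_9 (j u : ℕ) : Bool :=
  Bool.rec (motive := fun _ => Bool) (lF [T_e, T_c, T_f, T_c, T_fi, T_ei, T_ei, T_ci, T_f] M (Nat.sub (T_ci u) (Nat.mod (T_ci u) M)) (Nat.mod (T_ci u) M) u) (lF [T_ei, T_c, T_fi, T_c, T_e, T_e, T_f, T_ci, T_fi] M (Nat.sub (T_ci u) (Nat.mod (T_ci u) M)) (Nat.mod (T_ci u) M) u) (Nat.ble (nat_lit 18) j)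
noncomputable def dp_ci_10 (j u : ℕ) : Bool :=
  Bool.rec (motive := fun _ => Bool) (lF [T_fi, T_bi, T_fi, T_e, T_ci, T_fi, T_bi, T_ei, T_bi] M (Nat.sub (T_ci u) (Nat.mod (T_ci u) M)) (Nat.mod (T_ci u) M) u) (lF [T_fi, T_b, T_fi, T_ei, T_ei, T_f, T_e, T_c, T_b] M (Nat.sub (T_ci u) (Nat.mod (T_ci u) M)) (Nat.mod (T_ci u) M) u) (Nat.ble (nat_lit 20) j)
noncomputable def dp_ci_11 (j u : ℕ) : Bool :=
  Bool.rec (motive := fun _ => Bool) (dp_ci_9 j u) (dp_ci_10 j u) (Nat.ble (nat_lit 19) j)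
noncomputable def dp_ci_12 (j u : ℕ) : Bool :=
  Bool.rec (motive := fun _ => Bool) (lF [T_e, T_bi, T_f, T_ci, T_e, T_b, T_e, T_fi, T_b] M (Nat.sub (T_ci u) (Nat.mod (T_ci u) M)) (Nat.mod (T_ci u) M) u) (lF [T_fi, T_c, T_fi, T_fi, T_ci, T_fi, T_c, T_fi, T_fi] M (Nat.sub (T_ci u) (Nat.mod (T_ci u) M)) (Nat.mod (T_ci u) M) u) (Nat.ble (nat_lit 23) j)
noncomputable def dp_ci_13 (j u : ℕ) : Bool :=
  Bool.rec (motive := fun _ => Bool) (lF [T_f, T_ci, T_e, T_c, T_f, T_c, T_fi, T_ei, T_ei] M (Nat.sub (T_ci u) (Nat.mod (T_ci u) M)) (Nat.mod (T_ci u) M) u) (dp_ci_12 j u) (Nat.ble (nat_lit 22) j)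
noncomputable def dp_ci_14 (j u : ℕ) : Bool :=
  Bool.rec (motive := fun _ => Bool) (lF [T_e, T_b, T_e, T_fi, T_b, T_ci, T_e, T_bi, T_f] M (Nat.sub (T_ci u) (Nat.mod (T_ci u) M)) (Nat.mod (T_ci u) M) u) (lS MG [T_ei, T_fi, T_e, T_e, T_f, T_bi, T_f, T_c, T_bi] M (Nat.sub (T_ci u) (Nat.mod (T_ci u) M)) (nat_lit 40) (Nat.mod (T_ci u) M) u) (Nat.ble (nat_lit 26) j)
noncomputable def dp_ci_15 (j u : ℕ) : Bool :=
  Bool.rec (motive := fun _ => Bool) (lS MG [T_fi, T_bi, T_ei, T_bi, T_ci, T_fi, T_bi, T_fi, T_e] M (Nat.sub (T_ci u) (Nat.mod (T_ci u) M)) (nat_lit 40) (Nat.mod (T_ci u) M) u) (dp_ci_14 j u) (Nat.ble (nat_lit 25) j)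
noncomputable def dp_ci_16 (j u : ℕ) : Bool :=
  Bool.rec (motive := fun _ => Bool) (dp_ci_13 j u) (dp_ci_15 j u) (Nat.ble (nat_lit 24) j)
noncomputable def dp_ci_17 (j u : ℕ) : Bool :=
  Bool.rec (motive := fun _ => Bool) (dp_ci_11 j u) (dp_ci_16 j u) (Nat.ble (nat_lit 21) j)
noncomputable def dp_ci_18 (j u : ℕ) : Bool :=
  Bool.rec (motive := fun _ => Bool) (lF [T_fi, T_bi, T_ei, T_bi, T_ci, T_fi, T_bi, T_fi, T_e] M (Nat.sub (T_ci u) (Nat.mod (T_ci u) M)) (Nat.mod (T_ci u) M) u) (lS MG [T_f, T_f, T_ei, T_ci, T_fi, T_c, T_f, T_ci, T_ei] M (Nat.sub (T_ci u) (Nat.mod (T_ci u) M)) (nat_lit 40) (Nat.mod (T_ci u) M) u) (Nat.ble (nat_lit 28) j)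
noncomputable def dp_ci_19 (j u : ℕ) : Bool :=
  Bool.rec (motive := fun _ => Bool) (lS MG [T_fi, T_ci, T_ei, T_c, T_fi, T_c, T_e, T_e, T_f] M (Nat.sub (T_ci u) (Nat.mod (T_ci u) M)) (nat_lit 40) (Nat.mod (T_ci u) M) u) (lS MG [T_e, T_c, T_f, T_c, T_fi, T_ei, T_ei, T_ci, T_f] M (Nat.sub (T_ci u) (Nat.mod (T_ci u) M)) (nat_lit 40) (Nat.mod (T_ci u) M) u) (Nat.ble (nat_lit 31) j)
noncomputable def dp_ci_20 (j u : ℕ) : Bool :=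
  Bool.rec (motive := fun _ => Bool) (lS MG [T_f, T_c, T_f, T_f, T_ei, T_ei, T_bi, T_ei, T_b] M (Nat.sub (T_ci u) (Nat.mod (T_ci u) M)) (nat_lit 40) (Nat.mod (T_ci u) M) u) (dp_ci_19 j u) (Nat.ble (nat_lit 30) j)
noncomputable def dp_ci_21 (j u : ℕ) : Bool :=
  Bool.rec (motive := fun _ => Bool) (dp_ci_18 j u) (dp_ci_20 j u) (Nat.ble (nat_lit 29) j)
noncomputable def dp_ci_22 (j u : ℕ) : Bool :=
  Bool.rec (motive := fun _ => Bool) (lF [T_fi, T_c, T_bi, T_ei, T_ci, T_fi, T_ei, T_ci, T_b] M (Nat.sub (T_ci u) (Nat.mod (T_ci u) M)) (Nat.mod (T_ci u) M) u) (lF [T_ei, T_ci, T_f, T_f, T_ei, T_ci, T_fi, T_c, T_f] M (Nat.sub (T_ci u) (Nat.mod (T_ci u) M)) (Nat.mod (T_ci u) M) u) (Nat.ble (nat_lit 33) j)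
noncomputable def dp_ci_23 (j u : ℕ) : Bool :=
  Bool.rec (motive := fun _ => Bool) (lF [T_fi, T_c, T_bi, T_e, T_b, T_e, T_e, T_fi, T_fi] M (Nat.sub (T_ci u) (Nat.mod (T_ci u) M)) (Nat.mod (T_ci u) M) u) (lF [T_fi, T_c, T_f, T_ci, T_ei, T_ci, T_f, T_f, T_ei] M (Nat.sub (T_ci u) (Nat.mod (T_ci u) M)) (Nat.mod (T_ci u) M) u) (Nat.ble (nat_lit 36) j)
noncomputable def dp_ci_24 (j u : ℕ) : Bool :=
  Bool.rec (motive := fun _ => Bool) (lS MG [T_f, T_c, T_e, T_fi, T_fi, T_c, T_e, T_c, T_fi] M (Nat.sub (T_ci u) (Nat.mod (T_ci u) M)) (nat_lit 40) (Nat.mod (T_ci u) M) u) (dp_ci_23 j u) (Nat.ble (nat_lit 35) j)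
noncomputable def dp_ci_25 (j u : ℕ) : Bool :=
  Bool.rec (motive := fun _ => Bool) (dp_ci_22 j u) (dp_ci_24 j u) (Nat.ble (nat_lit 34) j)
noncomputable def dp_ci_26 (j u : ℕ) : Bool :=
  Bool.rec (motive := fun _ => Bool) (dp_ci_21 j u) (dp_ci_25 j u) (Nat.ble (nat_lit 32) j)
noncomputable def dp_ci_27 (j u : ℕ) : Bool :=
  Bool.rec (motive := fun _ => Bool) (lS MG [T_f, T_c, T_f, T_f, T_ci, T_f, T_c, T_f, T_f] M (Nat.sub (T_ci u) (Nat.mod (T_ci u) M)) (nat_lit 40) (Nat.mod (T_ci u) M) u) (lF [T_fi, T_ci, T_ei, T_c, T_fi, T_c, T_e, T_e, T_f] M (Nat.sub (T_ci u) (Nat.mod (T_ci u) M)) (Nat.mod (T_ci u) M) u) (Nat.ble (nat_lit 39) j)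
noncomputable def dp_ci_28 (j u : ℕ) : Bool :=
  Bool.rec (motive := fun _ => Bool) (lF [T_f, T_c, T_e, T_fi, T_fi, T_c, T_e, T_c, T_fi] M (Nat.sub (T_ci u) (Nat.mod (T_ci u) M)) (Nat.mod (T_ci u) M) u) (dp_ci_27 j u) (Nat.ble (nat_lit 38) j)
noncomputable def dp_ci_29 (j u : ℕ) : Bool :=
  Bool.rec (motive := fun _ => Bool) (lS MG [T_fi, T_ei, T_ci, T_b, T_ci, T_fi, T_c, T_bi, T_ei] M (Nat.sub (T_ci u) (Nat.mod (T_ci u) M)) (nat_lit 40) (Nat.mod (T_ci u) M) u) (lF [T_f, T_c, T_f, T_f, T_ci, T_f, T_c, T_f, T_f] M (Nat.sub (T_ci u) (Nat.mod (T_ci u) M)) (Nat.mod (T_ci u) M) u) (Nat.ble (nat_lit 41) j)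
noncomputable def dp_ci_30 (j u : ℕ) : Bool :=
  Bool.rec (motive := fun _ => Bool) (lS MG [T_ci, T_ci] M (Nat.sub (T_ci u) (Nat.mod (T_ci u) M)) (nat_lit 40) (Nat.mod (T_ci u) M) u) (lS MG [T_e, T_bi, T_f, T_ci, T_e, T_b, T_e, T_fi, T_b] M (Nat.sub (T_ci u) (Nat.mod (T_ci u) M)) (nat_lit 40) (Nat.mod (T_ci u) M) u) (Nat.ble (nat_lit 43) j)
noncomputable def dp_ci_31 (j u : ℕ) : Bool :=
  Bool.rec (motive := fun _ => Bool) (dp_ci_29 j u) (dp_ci_30 j u) (Nat.ble (nat_lit 42) j)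
noncomputable def dp_ci_32 (j u : ℕ) : Bool :=
  Bool.rec (motive := fun _ => Bool) (dp_ci_28 j u) (dp_ci_31 j u) (Nat.ble (nat_lit 40) j)
noncomputable def dp_ci_33 (j u : ℕ) : Bool :=
  Bool.rec (motive := fun _ => Bool) (lS MG [T_e, T_b, T_e, T_fi, T_b, T_ci, T_e, T_bi, T_f] M (Nat.sub (T_ci u) (Nat.mod (T_ci u) M)) (nat_lit 40) (Nat.mod (T_ci u) M) u) (lS MG [T_fi, T_c, T_fi, T_fi, T_ci, T_fi, T_c, T_fi, T_fi] M (Nat.sub (T_ci u) (Nat.mod (T_ci u) M)) (nat_lit 40) (Nat.mod (T_ci u) M) u) (Nat.ble (nat_lit 45) j)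
noncomputable def dp_ci_34 (j u : ℕ) : Bool :=
  Bool.rec (motive := fun _ => Bool) (lS MG [T_fi, T_c, T_bi, T_e, T_b, T_e, T_e, T_fi, T_fi] M (Nat.sub (T_ci u) (Nat.mod (T_ci u) M)) (nat_lit 40) (Nat.mod (T_ci u) M) u) (lS MG [T_fi, T_bi, T_fi, T_e, T_ci, T_fi, T_bi, T_ei, T_bi] M (Nat.sub (T_ci u) (Nat.mod (T_ci u) M)) (nat_lit 40) (Nat.mod (T_ci u) M) u) (Nat.ble (nat_lit 47) j)
noncomputable def dp_ci_35 (j u : ℕ) : Bool :=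
  Bool.rec (motive := fun _ => Bool) (dp_ci_33 j u) (dp_ci_34 j u) (Nat.ble (nat_lit 46) j)
noncomputable def dp_ci_36 (j u : ℕ) : Bool :=
  Bool.rec (motive := fun _ => Bool) (lF [T_f, T_c, T_f, T_f, T_ei, T_ei, T_bi, T_ei, T_b] M (Nat.sub (T_ci u) (Nat.mod (T_ci u) M)) (Nat.mod (T_ci u) M) u) (lS MG [T_ei, T_c, T_fi, T_c, T_e, T_e, T_f, T_ci, T_fi] M (Nat.sub (T_ci u) (Nat.mod (T_ci u) M)) (nat_lit 40) (Nat.mod (T_ci u) M) u) (Nat.ble (nat_lit 49) j)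
noncomputable def dp_ci_37 (j u : ℕ) : Bool :=
  Bool.rec (motive := fun _ => Bool) (lS MG [T_b, T_ci, T_fi, T_c, T_bi, T_ei, T_ci, T_fi, T_ei] M (Nat.sub (T_ci u) (Nat.mod (T_ci u) M)) (nat_lit 40) (Nat.mod (T_ci u) M) u) (lS MG [T_fi, T_c, T_f, T_ci, T_ei, T_ci, T_f, T_f, T_ei] M (Nat.sub (T_ci u) (Nat.mod (T_ci u) M)) (nat_lit 40) (Nat.mod (T_ci u) M) u) (Nat.ble (nat_lit 51) j)
noncomputable def dp_ci_38 (j u : ℕ) : Bool :=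
  Bool.rec (motive := fun _ => Bool) (lS MG [T_f, T_ci, T_e, T_c, T_f, T_c, T_fi, T_ei, T_ei] M (Nat.sub (T_ci u) (Nat.mod (T_ci u) M)) (nat_lit 40) (Nat.mod (T_ci u) M) u) (lS MG [T_f, T_c, T_bi, T_c, T_e, T_f, T_c, T_e, T_b] M (Nat.sub (T_ci u) (Nat.mod (T_ci u) M)) (nat_lit 40) (Nat.mod (T_ci u) M) u) (Nat.ble (nat_lit 53) j)
noncomputable def dp_ci_39 (j u : ℕ) : Bool :=
  Bool.rec (motive := fun _ => Bool) (dp_ci_37 j u) (dp_ci_38 j u) (Nat.ble (nat_lit 52) j)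
noncomputable def dp_ci_40 (j u : ℕ) : Bool :=
  Bool.rec (motive := fun _ => Bool) (dp_ci_36 j u) (dp_ci_39 j u) (Nat.ble (nat_lit 50) j)
noncomputable def dp_ci_41 (j u : ℕ) : Bool :=
  Bool.rec (motive := fun _ => Bool) (dp_ci_35 j u) (dp_ci_40 j u) (Nat.ble (nat_lit 48) j)
noncomputable def dp_ci_42 (j u : ℕ) : Bool :=
  Bool.rec (motive := fun _ => Bool) (dp_ci_32 j u) (dp_ci_41 j u) (Nat.ble (nat_lit 44) j)
noncomputable def dp_ci_43 (j u : ℕ) : Bool :=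
  Bool.rec (motive := fun _ => Bool) (dp_ci_26 j u) (dp_ci_42 j u) (Nat.ble (nat_lit 37) j)
noncomputable def dp_ci_44 (j u : ℕ) : Bool :=
  Bool.rec (motive := fun _ => Bool) (dp_ci_17 j u) (dp_ci_43 j u) (Nat.ble (nat_lit 27) j)
noncomputable def dp_ci_45 (j u : ℕ) : Bool :=
  Bool.rec (motive := fun _ => Bool) (dp_ci_8 j u) (dp_ci_44 j u) (Nat.ble (nat_lit 17) j)
noncomputable def dp_ci_46 (j u : ℕ) : Bool :=
  Bool.rec (motive := fun _ => Bool) (dp_ci_1 j u) (dp_ci_45 j u) (Nat.ble (nat_lit 9) j)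
noncomputable def dp_ci_47 (j u : ℕ) : Bool :=
  Bool.rec (motive := fun _ => Bool) (Bool.rec (motive := fun _ => Bool) (lF [T_ci, T_ci] M (Nat.sub (T_ci u) (Nat.mod (T_ci u) M)) (Nat.mod (T_ci u) M) u) (lS MG [T_c] M (Nat.sub (T_ci u) (Nat.mod (T_ci u) M)) (nat_lit 40) (Nat.mod (T_ci u) M) u) (Nat.ble (nat_lit 5) j)) (dp_ci_46 j u) (Nat.ble (nat_lit 6) j)
noncomputable def dp_ci_48 (j u : ℕ) : Bool :=
  Bool.rec (motive := fun _ => Bool) (Bool.rec (motive := fun _ => Bool) (lDef P (nat_lit 5) (Nat.mod (T_ci u) M) u) (lDef P (nat_lit 4) u (Nat.mod (T_ci u) M)) (Nat.ble (nat_lit 3) j)) (dp_ci_47 j u) (Nat.ble (nat_lit 4) j)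
noncomputable def disp_ci (j u : ℕ) : Bool :=
  Bool.rec (motive := fun _ => Bool) (Bool.rec (motive := fun _ => Bool) (lF1 T_c M (Nat.sub (T_ci u) (Nat.mod (T_ci u) M)) (Nat.mod (T_ci u) M) u) (lF3 T_di T_b T_d M (Nat.sub (T_ci u) (Nat.mod (T_ci u) M)) (Nat.mod (T_ci u) M) u) (Nat.ble (nat_lit 1) j)) (dp_ci_48 j u) (Nat.ble (nat_lit 2) j)
noncomputable def chk_ci (j u : ℕ) : Bool :=
  Bool.rec (motive := fun _ => Bool) (disp_ci j u) (Nat.ble (Nat.succ (MG u)) A) (Nat.ble A (T_ci u))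
noncomputable def dp_f_0 (j u : ℕ) : Bool :=
  Bool.rec (motive := fun _ => Bool) (lS MG [T_fi] M (Nat.sub (T_f u) (Nat.mod (T_f u) M)) (nat_lit 40) (Nat.mod (T_f u) M) u) (lF [T_b, T_ci, T_e, T_f, T_e, T_bi, T_ci, T_bi] M (Nat.sub (T_f u) (Nat.mod (T_f u) M)) (Nat.mod (T_f u) M) u) (Nat.ble (nat_lit 6) j)
noncomputable def dp_f_1 (j u : ℕ) : Bool :=
  Bool.rec (motive := fun _ => Bool) (lF [T_f, T_f, T_f, T_f] M (Nat.sub (T_f u) (Nat.mod (T_f u) M)) (Nat.mod (T_f u) M) u) (dp_f_0 j u) (Nat.ble (nat_lit 5) j)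
noncomputable def dp_f_2 (j u : ℕ) : Bool :=
  Bool.rec (motive := fun _ => Bool) (lF [T_ci, T_b, T_e, T_bi, T_ei, T_b, T_e, T_fi, T_ei] M (Nat.sub (T_f u) (Nat.mod (T_f u) M)) (Nat.mod (T_f u) M) u) (lS MG [T_di, T_ei, T_d] M (Nat.sub (T_f u) (Nat.mod (T_f u) M)) (nat_lit 40) (Nat.mod (T_f u) M) u) (Nat.ble (nat_lit 9) j)
noncomputable def dp_f_3 (j u : ℕ) : Bool :=
  Bool.rec (motive := fun _ => Bool) (lS MG [T_b, T_ci, T_e, T_f, T_e, T_bi, T_ci, T_bi] M (Nat.sub (T_f u) (Nat.mod (T_f u) M)) (nat_lit 40) (Nat.mod (T_f u) M) u) (lF [T_ei, T_bi, T_e, T_b, T_ei, T_bi, T_c, T_fi, T_e] M (Nat.sub (T_f u) (Nat.mod (T_f u) M)) (Nat.mod (T_f u) M) u) (Nat.ble (nat_lit 12) j)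
noncomputable def dp_f_4 (j u : ℕ) : Bool :=
  Bool.rec (motive := fun _ => Bool) (lS MG [T_e, T_bi, T_ci, T_bi, T_f, T_b, T_ci, T_e] M (Nat.sub (T_f u) (Nat.mod (T_f u) M)) (nat_lit 40) (Nat.mod (T_f u) M) u) (dp_f_3 j u) (Nat.ble (nat_lit 11) j)
noncomputable def dp_f_5 (j u : ℕ) : Bool :=
  Bool.rec (motive := fun _ => Bool) (dp_f_2 j u) (dp_f_4 j u) (Nat.ble (nat_lit 10) j)
noncomputable def dp_f_6 (j u : ℕ) : Bool :=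
  Bool.rec (motive := fun _ => Bool) (lF [T_e, T_bi, T_ci, T_bi, T_f, T_b, T_ci, T_e] M (Nat.sub (T_f u) (Nat.mod (T_f u) M)) (Nat.mod (T_f u) M) u) (dp_f_5 j u) (Nat.ble (nat_lit 8) j)
noncomputable def dp_f_7 (j u : ℕ) : Bool :=
  Bool.rec (motive := fun _ => Bool) (lF [T_c, T_b, T_e, T_b, T_f, T_c, T_ei, T_f, T_b] M (Nat.sub (T_f u) (Nat.mod (T_f u) M)) (Nat.mod (T_f u) M) u) (lF [T_c, T_f, T_f, T_ei, T_ei, T_bi, T_ei, T_b, T_ci] M (Nat.sub (T_f u) (Nat.mod (T_f u) M)) (Nat.mod (T_f u) M) u) (Nat.ble (nat_lit 14) j)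
noncomputable def dp_f_8 (j u : ℕ) : Bool :=
  Bool.rec (motive := fun _ => Bool) (lS MG [T_f, T_f, T_f, T_f] M (Nat.sub (T_f u) (Nat.mod (T_f u) M)) (nat_lit 40) (Nat.mod (T_f u) M) u) (lF [T_ei, T_ci, T_fi, T_c, T_f, T_ci, T_ei, T_ci, T_f] M (Nat.sub (T_f u) (Nat.mod (T_f u) M)) (Nat.mod (T_f u) M) u) (Nat.ble (nat_lit 17) j)
noncomputable def dp_f_9 (j u : ℕ) : Bool :=
  Bool.rec (motive := fun _ => Bool) (lF [T_ei, T_bi, T_ei, T_c, T_fi, T_b, T_ei, T_c, T_bi] M (Nat.sub (T_f u) (Nat.mod (T_f u) M)) (Nat.mod (T_f u) M) u) (dp_f_8 j u) (Nat.ble (nat_lit 16) j)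
noncomputable def dp_f_10 (j u : ℕ) : Bool :=
  Bool.rec (motive := fun _ => Bool) (dp_f_7 j u) (dp_f_9 j u) (Nat.ble (nat_lit 15) j)
noncomputable def dp_f_11 (j u : ℕ) : Bool :=
  Bool.rec (motive := fun _ => Bool) (lF [T_b, T_f, T_c, T_b, T_e, T_b, T_f, T_c, T_ei] M (Nat.sub (T_f u) (Nat.mod (T_f u) M)) (Nat.mod (T_f u) M) u) (lS MG [T_ci, T_b, T_e, T_bi, T_ei, T_b, T_e, T_fi, T_ei] M (Nat.sub (T_f u) (Nat.mod (T_f u) M)) (nat_lit 40) (Nat.mod (T_f u) M) u) (Nat.ble (nat_lit 19) j)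
noncomputable def dp_f_12 (j u : ℕ) : Bool :=
  Bool.rec (motive := fun _ => Bool) (lS MG [T_ei, T_bi, T_e, T_b, T_ei, T_bi, T_c, T_fi, T_e] M (Nat.sub (T_f u) (Nat.mod (T_f u) M)) (nat_lit 40) (Nat.mod (T_f u) M) u) (lS MG [T_ei, T_ci, T_fi, T_c, T_f, T_ci, T_ei, T_ci, T_f] M (Nat.sub (T_f u) (Nat.mod (T_f u) M)) (nat_lit 40) (Nat.mod (T_f u) M) u) (Nat.ble (nat_lit 21) j)
noncomputable def dp_f_13 (j u : ℕ) : Bool :=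
  Bool.rec (motive := fun _ => Bool) (dp_f_11 j u) (dp_f_12 j u) (Nat.ble (nat_lit 20) j)
noncomputable def dp_f_14 (j u : ℕ) : Bool :=
  Bool.rec (motive := fun _ => Bool) (lF [T_c, T_e, T_b, T_ci, T_f, T_c, T_bi, T_c, T_e] M (Nat.sub (T_f u) (Nat.mod (T_f u) M)) (Nat.mod (T_f u) M) u) (lF [T_b, T_ei, T_b, T_ei, T_f, T_b, T_ei, T_b, T_ei] M (Nat.sub (T_f u) (Nat.mod (T_f u) M)) (Nat.mod (T_f u) M) u) (Nat.ble (nat_lit 23) j)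
noncomputable def dp_f_15 (j u : ℕ) : Bool :=
  Bool.rec (motive := fun _ => Bool) (lF [T_e, T_c, T_b, T_ci, T_fi, T_b, T_fi, T_ei, T_ei] M (Nat.sub (T_f u) (Nat.mod (T_f u) M)) (Nat.mod (T_f u) M) u) (lF [T_ci, T_e, T_c, T_f, T_c, T_fi, T_ei, T_ei, T_ci] M (Nat.sub (T_f u) (Nat.mod (T_f u) M)) (Nat.mod (T_f u) M) u) (Nat.ble (nat_lit 25) j)
noncomputable def dp_f_16 (j u : ℕ) : Bool :=
  Bool.rec (motive := fun _ => Bool) (dp_f_14 j u) (dp_f_15 j u) (Nat.ble (nat_lit 24) j)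
noncomputable def dp_f_17 (j u : ℕ) : Bool :=
  Bool.rec (motive := fun _ => Bool) (dp_f_13 j u) (dp_f_16 j u) (Nat.ble (nat_lit 22) j)
noncomputable def dp_f_18 (j u : ℕ) : Bool :=
  Bool.rec (motive := fun _ => Bool) (dp_f_10 j u) (dp_f_17 j u) (Nat.ble (nat_lit 18) j)
noncomputable def dp_f_19 (j u : ℕ) : Bool :=
  Bool.rec (motive := fun _ => Bool) (lF [T_c, T_e, T_fi, T_fi, T_c, T_e, T_c, T_fi, T_ci] M (Nat.sub (T_f u) (Nat.mod (T_f u) M)) (Nat.mod (T_f u) M) u) (lF [T_ci, T_ei, T_ci, T_f, T_f, T_ei, T_ci, T_fi, T_c] M (Nat.sub (T_f u) (Nat.mod (T_f u) M)) (Nat.mod (T_f u) M) u) (Nat.ble (nat_lit 27) j)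
noncomputable def dp_f_20 (j u : ℕ) : Bool :=
  Bool.rec (motive := fun _ => Bool) (lF [T_c, T_bi, T_c, T_e, T_f, T_c, T_e, T_b, T_ci] M (Nat.sub (T_f u) (Nat.mod (T_f u) M)) (Nat.mod (T_f u) M) u) (lS MG [T_ei, T_ei, T_bi, T_ei, T_b, T_ci, T_f, T_c, T_f] M (Nat.sub (T_f u) (Nat.mod (T_f u) M)) (nat_lit 40) (Nat.mod (T_f u) M) u) (Nat.ble (nat_lit 30) j)
noncomputable def dp_f_21 (j u : ℕ) : Bool :=
  Bool.rec (motive := fun _ => Bool) (lF [T_bi, T_f, T_c, T_bi, T_ci, T_ei, T_fi, T_e, T_e] M (Nat.sub (T_f u) (Nat.mod (T_f u) M)) (Nat.mod (T_f u) M) u) (dp_f_20 j u) (Nat.ble (nat_lit 29) j)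
noncomputable def dp_f_22 (j u : ℕ) : Bool :=
  Bool.rec (motive := fun _ => Bool) (dp_f_19 j u) (dp_f_21 j u) (Nat.ble (nat_lit 28) j)
noncomputable def dp_f_23 (j u : ℕ) : Bool :=
  Bool.rec (motive := fun _ => Bool) (lS MG [T_c, T_b, T_e, T_b, T_f, T_c, T_ei, T_f, T_b] M (Nat.sub (T_f u) (Nat.mod (T_f u) M)) (nat_lit 40) (Nat.mod (T_f u) M) u) (lS MG [T_c, T_e, T_b, T_ci, T_f, T_c, T_bi, T_c, T_e] M (Nat.sub (T_f u) (Nat.mod (T_f u) M)) (nat_lit 40) (Nat.mod (T_f u) M) u) (Nat.ble (nat_lit 33) j)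
noncomputable def dp_f_24 (j u : ℕ) : Bool :=
  Bool.rec (motive := fun _ => Bool) (lF [T_ci, T_e, T_b, T_e, T_fi, T_b, T_ci, T_e, T_bi] M (Nat.sub (T_f u) (Nat.mod (T_f u) M)) (Nat.mod (T_f u) M) u) (dp_f_23 j u) (Nat.ble (nat_lit 32) j)
noncomputable def dp_f_25 (j u : ℕ) : Bool :=
  Bool.rec (motive := fun _ => Bool) (lS MG [T_ei, T_bi, T_ei, T_c, T_fi, T_b, T_ei, T_c, T_bi] M (Nat.sub (T_f u) (Nat.mod (T_f u) M)) (nat_lit 40) (Nat.mod (T_f u) M) u) (lF [T_c, T_ei, T_f, T_b, T_f, T_c, T_b, T_e, T_b] M (Nat.sub (T_f u) (Nat.mod (T_f u) M)) (Nat.mod (T_f u) M) u) (Nat.ble (nat_lit 35) j)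
noncomputable def dp_f_26 (j u : ℕ) : Bool :=
  Bool.rec (motive := fun _ => Bool) (lS MG [T_b, T_f, T_c, T_b, T_e, T_b, T_f, T_c, T_ei] M (Nat.sub (T_f u) (Nat.mod (T_f u) M)) (nat_lit 40) (Nat.mod (T_f u) M) u) (lF [T_c, T_fi, T_ei, T_ei, T_ci, T_f, T_ci, T_e, T_c] M (Nat.sub (T_f u) (Nat.mod (T_f u) M)) (Nat.mod (T_f u) M) u) (Nat.ble (nat_lit 37) j)
noncomputable def dp_f_27 (j u : ℕ) : Bool :=
  Bool.rec (motive := fun _ => Bool) (dp_f_25 j u) (dp_f_26 j u) (Nat.ble (nat_lit 36) j)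
noncomputable def dp_f_28 (j u : ℕ) : Bool :=
  Bool.rec (motive := fun _ => Bool) (dp_f_24 j u) (dp_f_27 j u) (Nat.ble (nat_lit 34) j)
noncomputable def dp_f_29 (j u : ℕ) : Bool :=
  Bool.rec (motive := fun _ => Bool) (dp_f_22 j u) (dp_f_28 j u) (Nat.ble (nat_lit 31) j)
noncomputable def dp_f_30 (j u : ℕ) : Bool :=
  Bool.rec (motive := fun _ => Bool) (lF [T_ci, T_fi, T_ci, T_ei, T_c, T_fi, T_c, T_e, T_e] M (Nat.sub (T_f u) (Nat.mod (T_f u) M)) (Nat.mod (T_f u) M) u) (lS MG [T_ci, T_e, T_c, T_f, T_c, T_fi, T_ei, T_ei, T_ci] M (Nat.sub (T_f u) (Nat.mod (T_f u) M)) (nat_lit 40) (Nat.mod (T_f u) M) u) (Nat.ble (nat_lit 39) j)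
noncomputable def dp_f_31 (j u : ℕ) : Bool :=
  Bool.rec (motive := fun _ => Bool) (lS MG [T_ci, T_fi, T_ci, T_ei, T_c, T_fi, T_c, T_e, T_e] M (Nat.sub (T_f u) (Nat.mod (T_f u) M)) (nat_lit 40) (Nat.mod (T_f u) M) u) (lF [T_ei, T_ei, T_bi, T_ei, T_b, T_ci, T_f, T_c, T_f] M (Nat.sub (T_f u) (Nat.mod (T_f u) M)) (Nat.mod (T_f u) M) u) (Nat.ble (nat_lit 41) j)
noncomputable def dp_f_32 (j u : ℕ) : Bool :=
  Bool.rec (motive := fun _ => Bool) (dp_f_30 j u) (dp_f_31 j u) (Nat.ble (nat_lit 40) j)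
noncomputable def dp_f_33 (j u : ℕ) : Bool :=
  Bool.rec (motive := fun _ => Bool) (lS MG [T_b, T_ei, T_b, T_ei, T_f, T_b, T_ei, T_b, T_ei] M (Nat.sub (T_f u) (Nat.mod (T_f u) M)) (nat_lit 40) (Nat.mod (T_f u) M) u) (lS MG [T_e, T_c, T_b, T_ci, T_fi, T_b, T_fi, T_ei, T_ei] M (Nat.sub (T_f u) (Nat.mod (T_f u) M)) (nat_lit 40) (Nat.mod (T_f u) M) u) (Nat.ble (nat_lit 43) j)
noncomputable def dp_f_34 (j u : ℕ) : Bool :=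
  Bool.rec (motive := fun _ => Bool) (lF [T_c, T_f, T_f, T_ci, T_f, T_c, T_f, T_f, T_ci] M (Nat.sub (T_f u) (Nat.mod (T_f u) M)) (Nat.mod (T_f u) M) u) (lS MG [T_bi, T_f, T_c, T_bi, T_ci, T_ei, T_fi, T_e, T_e] M (Nat.sub (T_f u) (Nat.mod (T_f u) M)) (nat_lit 40) (Nat.mod (T_f u) M) u) (Nat.ble (nat_lit 46) j)
noncomputable def dp_f_35 (j u : ℕ) : Bool :=
  Bool.rec (motive := fun _ => Bool) (lF [T_f, T_ei, T_ei, T_bi, T_ei, T_b, T_ci, T_f, T_c] M (Nat.sub (T_f u) (Nat.mod (T_f u) M)) (Nat.mod (T_f u) M) u) (dp_f_34 j u) (Nat.ble (nat_lit 45) j)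
noncomputable def dp_f_36 (j u : ℕ) : Bool :=
  Bool.rec (motive := fun _ => Bool) (dp_f_33 j u) (dp_f_35 j u) (Nat.ble (nat_lit 44) j)
noncomputable def dp_f_37 (j u : ℕ) : Bool :=
  Bool.rec (motive := fun _ => Bool) (dp_f_32 j u) (dp_f_36 j u) (Nat.ble (nat_lit 42) j)
noncomputable def dp_f_38 (j u : ℕ) : Bool :=
  Bool.rec (motive := fun _ => Bool) (lF [T_f, T_ei, T_ci, T_fi, T_c, T_f, T_ci, T_ei, T_ci] M (Nat.sub (T_f u) (Nat.mod (T_f u) M)) (Nat.mod (T_f u) M) u) (lS MG [T_ci, T_f, T_c, T_f, T_f, T_ci, T_f, T_c, T_f] M (Nat.sub (T_f u) (Nat.mod (T_f u) M)) (nat_lit 40) (Nat.mod (T_f u) M) u) (Nat.ble (nat_lit 49) j)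
noncomputable def dp_f_39 (j u : ℕ) : Bool :=
  Bool.rec (motive := fun _ => Bool) (lS MG [T_c, T_fi, T_ei, T_ei, T_ci, T_f, T_ci, T_e, T_c] M (Nat.sub (T_f u) (Nat.mod (T_f u) M)) (nat_lit 40) (Nat.mod (T_f u) M) u) (dp_f_38 j u) (Nat.ble (nat_lit 48) j)
noncomputable def dp_f_40 (j u : ℕ) : Bool :=
  Bool.rec (motive := fun _ => Bool) (lS MG [T_f, T_ei, T_ci, T_fi, T_c, T_f, T_ci, T_ei, T_ci] M (Nat.sub (T_f u) (Nat.mod (T_f u) M)) (nat_lit 40) (Nat.mod (T_f u) M) u) (lF [T_f, T_ci, T_f, T_c, T_f, T_f, T_ci, T_f, T_c] M (Nat.sub (T_f u) (Nat.mod (T_f u) M)) (Nat.mod (T_f u) M) u) (Nat.ble (nat_lit 51) j)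
noncomputable def dp_f_41 (j u : ℕ) : Bool :=
  Bool.rec (motive := fun _ => Bool) (lS MG [T_c, T_e, T_fi, T_fi, T_c, T_e, T_c, T_fi, T_ci] M (Nat.sub (T_f u) (Nat.mod (T_f u) M)) (nat_lit 40) (Nat.mod (T_f u) M) u) (lF [T_c, T_bi, T_ci, T_ei, T_fi, T_e, T_e, T_f, T_bi] M (Nat.sub (T_f u) (Nat.mod (T_f u) M)) (Nat.mod (T_f u) M) u) (Nat.ble (nat_lit 53) j)
noncomputable def dp_f_42 (j u : ℕ) : Bool :=
  Bool.rec (motive := fun _ => Bool) (dp_f_40 j u) (dp_f_41 j u) (Nat.ble (nat_lit 52) j)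
noncomputable def dp_f_43 (j u : ℕ) : Bool :=
  Bool.rec (motive := fun _ => Bool) (dp_f_39 j u) (dp_f_42 j u) (Nat.ble (nat_lit 50) j)
noncomputable def dp_f_44 (j u : ℕ) : Bool :=
  Bool.rec (motive := fun _ => Bool) (lS MG [T_c, T_ei, T_f, T_b, T_f, T_c, T_b, T_e, T_b] M (Nat.sub (T_f u) (Nat.mod (T_f u) M)) (nat_lit 40) (Nat.mod (T_f u) M) u) (lF [T_ci, T_f, T_c, T_f, T_f, T_ci, T_f, T_c, T_f] M (Nat.sub (T_f u) (Nat.mod (T_f u) M)) (Nat.mod (T_f u) M) u) (Nat.ble (nat_lit 55) j)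
noncomputable def dp_f_45 (j u : ℕ) : Bool :=
  Bool.rec (motive := fun _ => Bool) (lH [] [] M (Nat.sub (T_f u) (Nat.mod (T_f u) M)) (Nat.mod (T_f u) M) u) (lS MG [T_ci, T_ei, T_ci, T_f, T_f, T_ei, T_ci, T_fi, T_c] M (Nat.sub (T_f u) (Nat.mod (T_f u) M)) (nat_lit 40) (Nat.mod (T_f u) M) u) (Nat.ble (nat_lit 58) j)
noncomputable def dp_f_46 (j u : ℕ) : Bool :=
  Bool.rec (motive := fun _ => Bool) (lS MG [T_c, T_bi, T_c, T_e, T_f, T_c, T_e, T_b, T_ci] M (Nat.sub (T_f u) (Nat.mod (T_f u) M)) (nat_lit 40) (Nat.mod (T_f u) M) u) (dp_f_45 j u) (Nat.ble (nat_lit 57) j)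
noncomputable def dp_f_47 (j u : ℕ) : Bool :=
  Bool.rec (motive := fun _ => Bool) (dp_f_44 j u) (dp_f_46 j u) (Nat.ble (nat_lit 56) j)
noncomputable def dp_f_48 (j u : ℕ) : Bool :=
  Bool.rec (motive := fun _ => Bool) (lS MG [T_f, T_ei, T_ei, T_bi, T_ei, T_b, T_ci, T_f, T_c] M (Nat.sub (T_f u) (Nat.mod (T_f u) M)) (nat_lit 40) (Nat.mod (T_f u) M) u) (lS MG [T_c, T_f, T_f, T_ei, T_ei, T_bi, T_ei, T_b, T_ci] M (Nat.sub (T_f u) (Nat.mod (T_f u) M)) (nat_lit 40) (Nat.mod (T_f u) M) u) (Nat.ble (nat_lit 60) j)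
noncomputable def dp_f_49 (j u : ℕ) : Bool :=
  Bool.rec (motive := fun _ => Bool) (lS MG [T_e, T_f, T_e, T_bi, T_fi, T_d, T_c, T_di, T_f, T_b, T_ei, T_bi] M (Nat.sub (T_f u) (Nat.mod (T_f u) M)) (nat_lit 40) (Nat.mod (T_f u) M) u) (lS MG [T_b, T_ei, T_bi, T_f, T_e, T_f, T_e, T_bi, T_fi, T_d, T_c, T_di] M (Nat.sub (T_f u) (Nat.mod (T_f u) M)) (nat_lit 40) (Nat.mod (T_f u) M) u) (Nat.ble (nat_lit 62) j)
noncomputable def dp_f_50 (j u : ℕ) : Bool :=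
  Bool.rec (motive := fun _ => Bool) (dp_f_48 j u) (dp_f_49 j u) (Nat.ble (nat_lit 61) j)
noncomputable def dp_f_51 (j u : ℕ) : Bool :=
  Bool.rec (motive := fun _ => Bool) (lS MG [T_c, T_bi, T_ci, T_ei, T_fi, T_e, T_e, T_f, T_bi] M (Nat.sub (T_f u) (Nat.mod (T_f u) M)) (nat_lit 40) (Nat.mod (T_f u) M) u) (lF [T_e, T_f, T_e, T_bi, T_fi, T_d, T_c, T_di, T_f, T_b, T_ei, T_bi] M (Nat.sub (T_f u) (Nat.mod (T_f u) M)) (Nat.mod (T_f u) M) u) (Nat.ble (nat_lit 64) j)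
noncomputable def dp_f_52 (j u : ℕ) : Bool :=
  Bool.rec (motive := fun _ => Bool) (lF [T_b, T_d, T_bi, T_fi, T_d, T_ei, T_bi, T_di, T_f, T_f, T_bi, T_d, T_b, T_fi, T_fi, T_d, T_b, T_e, T_di] M (Nat.sub (T_f u) (Nat.mod (T_f u) M)) (Nat.mod (T_f u) M) u) (lS MG [T_ci, T_e, T_b, T_e, T_fi, T_b, T_ci, T_e, T_bi] M (Nat.sub (T_f u) (Nat.mod (T_f u) M)) (nat_lit 40) (Nat.mod (T_f u) M) u) (Nat.ble (nat_lit 66) j)
noncomputable def dp_f_53 (j u : ℕ) : Bool :=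
  Bool.rec (motive := fun _ => Bool) (dp_f_51 j u) (dp_f_52 j u) (Nat.ble (nat_lit 65) j)
noncomputable def dp_f_54 (j u : ℕ) : Bool :=
  Bool.rec (motive := fun _ => Bool) (dp_f_50 j u) (dp_f_53 j u) (Nat.ble (nat_lit 63) j)
noncomputable def dp_f_55 (j u : ℕ) : Bool :=
  Bool.rec (motive := fun _ => Bool) (dp_f_47 j u) (dp_f_54 j u) (Nat.ble (nat_lit 59) j)
noncomputable def dp_f_56 (j u : ℕ) : Bool :=
  Bool.rec (motive := fun _ => Bool) (dp_f_43 j u) (dp_f_55 j u) (Nat.ble (nat_lit 54) j)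
noncomputable def dp_f_57 (j u : ℕ) : Bool :=
  Bool.rec (motive := fun _ => Bool) (dp_f_37 j u) (dp_f_56 j u) (Nat.ble (nat_lit 47) j)
noncomputable def dp_f_58 (j u : ℕ) : Bool :=
  Bool.rec (motive := fun _ => Bool) (dp_f_29 j u) (dp_f_57 j u) (Nat.ble (nat_lit 38) j)
noncomputable def dp_f_59 (j u : ℕ) : Bool :=
  Bool.rec (motive := fun _ => Bool) (dp_f_18 j u) (dp_f_58 j u) (Nat.ble (nat_lit 26) j)
noncomputable def dp_f_60 (j u : ℕ) : Bool :=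
  Bool.rec (motive := fun _ => Bool) (dp_f_6 j u) (dp_f_59 j u) (Nat.ble (nat_lit 13) j)
noncomputable def dp_f_61 (j u : ℕ) : Bool :=
  Bool.rec (motive := fun _ => Bool) (dp_f_1 j u) (dp_f_60 j u) (Nat.ble (nat_lit 7) j)
noncomputable def dp_f_62 (j u : ℕ) : Bool :=
  Bool.rec (motive := fun _ => Bool) (Bool.rec (motive := fun _ => Bool) (lDef P (nat_lit 6) (Nat.mod (T_f u) M) u) (lDef P (nat_lit 7) u (Nat.mod (T_f u) M)) (Nat.ble (nat_lit 3) j)) (dp_f_61 j u) (Nat.ble (nat_lit 4) j)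
noncomputable def disp_f (j u : ℕ) : Bool :=
  Bool.rec (motive := fun _ => Bool) (Bool.rec (motive := fun _ => Bool) (lF1 T_fi M (Nat.sub (T_f u) (Nat.mod (T_f u) M)) (Nat.mod (T_f u) M) u) (lF3 T_di T_ei T_d M (Nat.sub (T_f u) (Nat.mod (T_f u) M)) (Nat.mod (T_f u) M) u) (Nat.ble (nat_lit 1) j)) (dp_f_62 j u) (Nat.ble (nat_lit 2) j)
noncomputable def chk_f (j u : ℕ) : Bool :=
  Bool.rec (motive := fun _ => Bool) (disp_f j u) (Nat.ble (Nat.succ (MG u)) A) (Nat.ble A (T_f u))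
noncomputable def dp_fi_0 (j u : ℕ) : Bool :=
  Bool.rec (motive := fun _ => Bool) (lF [T_fi, T_fi, T_fi, T_fi] M (Nat.sub (T_fi u) (Nat.mod (T_fi u) M)) (Nat.mod (T_fi u) M) u) (lF [T_b, T_c, T_b, T_ei, T_fi, T_ei, T_c, T_bi] M (Nat.sub (T_fi u) (Nat.mod (T_fi u) M)) (Nat.mod (T_fi u) M) u) (Nat.ble (nat_lit 5) j)
noncomputable def dp_fi_1 (j u : ℕ) : Bool :=
  Bool.rec (motive := fun _ => Bool) (lS MG [T_f] M (Nat.sub (T_fi u) (Nat.mod (T_fi u) M)) (nat_lit 40) (Nat.mod (T_fi u) M) u) (lF [T_ei, T_c, T_bi, T_fi, T_b, T_c, T_b, T_ei] M (Nat.sub (T_fi u) (Nat.mod (T_fi u) M)) (Nat.mod (T_fi u) M) u) (Nat.ble (nat_lit 7) j)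
noncomputable def dp_fi_2 (j u : ℕ) : Bool :=
  Bool.rec (motive := fun _ => Bool) (lS MG [T_ei, T_c, T_bi, T_fi, T_b, T_c, T_b, T_ei] M (Nat.sub (T_fi u) (Nat.mod (T_fi u) M)) (nat_lit 40) (Nat.mod (T_fi u) M) u) (lF [T_e, T_f, T_ei, T_bi, T_e, T_b, T_ei, T_bi, T_c] M (Nat.sub (T_fi u) (Nat.mod (T_fi u) M)) (Nat.mod (T_fi u) M) u) (Nat.ble (nat_lit 10) j)
noncomputable def dp_fi_3 (j u : ℕ) : Bool :=
  Bool.rec (motive := fun _ => Bool) (lS MG [T_di, T_e, T_d] M (Nat.sub (T_fi u) (Nat.mod (T_fi u) M)) (nat_lit 40) (Nat.mod (T_fi u) M) u) (dp_fi_2 j u) (Nat.ble (nat_lit 9) j)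
noncomputable def dp_fi_4 (j u : ℕ) : Bool :=
  Bool.rec (motive := fun _ => Bool) (lF [T_e, T_bi, T_e, T_bi, T_fi, T_e, T_bi, T_e, T_bi] M (Nat.sub (T_fi u) (Nat.mod (T_fi u) M)) (Nat.mod (T_fi u) M) u) (lF [T_ei, T_f, T_ci, T_b, T_e, T_bi, T_ei, T_b, T_e] M (Nat.sub (T_fi u) (Nat.mod (T_fi u) M)) (Nat.mod (T_fi u) M) u) (Nat.ble (nat_lit 13) j)
noncomputable def dp_fi_5 (j u : ℕ) : Bool :=
  Bool.rec (motive := fun _ => Bool) (lS MG [T_b, T_c, T_b, T_ei, T_fi, T_ei, T_c, T_bi] M (Nat.sub (T_fi u) (Nat.mod (T_fi u) M)) (nat_lit 40) (Nat.mod (T_fi u) M) u) (dp_fi_4 j u) (Nat.ble (nat_lit 12) j)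
noncomputable def dp_fi_6 (j u : ℕ) : Bool :=
  Bool.rec (motive := fun _ => Bool) (lF [T_c, T_e, T_c, T_fi, T_ci, T_f, T_c, T_e, T_fi] M (Nat.sub (T_fi u) (Nat.mod (T_fi u) M)) (Nat.mod (T_fi u) M) u) (lF [T_e, T_ci, T_fi, T_bi, T_ei, T_bi, T_ci, T_fi, T_bi] M (Nat.sub (T_fi u) (Nat.mod (T_fi u) M)) (Nat.mod (T_fi u) M) u) (Nat.ble (nat_lit 16) j)
noncomputable def dp_fi_7 (j u : ℕ) : Bool :=
  Bool.rec (motive := fun _ => Bool) (lS MG [T_fi, T_fi, T_fi, T_fi] M (Nat.sub (T_fi u) (Nat.mod (T_fi u) M)) (nat_lit 40) (Nat.mod (T_fi u) M) u) (dp_fi_6 j u) (Nat.ble (nat_lit 15) j)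
noncomputable def dp_fi_8 (j u : ℕ) : Bool :=
  Bool.rec (motive := fun _ => Bool) (dp_fi_5 j u) (dp_fi_7 j u) (Nat.ble (nat_lit 14) j)
noncomputable def dp_fi_9 (j u : ℕ) : Bool :=
  Bool.rec (motive := fun _ => Bool) (dp_fi_3 j u) (dp_fi_8 j u) (Nat.ble (nat_lit 11) j)
noncomputable def dp_fi_10 (j u : ℕ) : Bool :=
  Bool.rec (motive := fun _ => Bool) (lF [T_c, T_e, T_e, T_f, T_ci, T_fi, T_ci, T_ei, T_c] M (Nat.sub (T_fi u) (Nat.mod (T_fi u) M)) (Nat.mod (T_fi u) M) u) (lF [T_ei, T_ci, T_b, T_ci, T_fi, T_c, T_bi, T_ei, T_ci] M (Nat.sub (T_fi u) (Nat.mod (T_fi u) M)) (Nat.mod (T_fi u) M) u) (Nat.ble (nat_lit 18) j)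
noncomputable def dp_fi_11 (j u : ℕ) : Bool :=
  Bool.rec (motive := fun _ => Bool) (lF [T_b, T_ci, T_e, T_bi, T_f, T_ci, T_e, T_b, T_e] M (Nat.sub (T_fi u) (Nat.mod (T_fi u) M)) (Nat.mod (T_fi u) M) u) (lF [T_b, T_ei, T_c, T_bi, T_f, T_ei, T_bi, T_ei, T_c] M (Nat.sub (T_fi u) (Nat.mod (T_fi u) M)) (Nat.mod (T_fi u) M) u) (Nat.ble (nat_lit 21) j)
noncomputable def dp_fi_12 (j u : ℕ) : Bool :=
  Bool.rec (motive := fun _ => Bool) (lF [T_bi, T_fi, T_e, T_ci, T_fi, T_bi, T_ei, T_bi, T_ci] M (Nat.sub (T_fi u) (Nat.mod (T_fi u) M)) (Nat.mod (T_fi u) M) u) (dp_fi_11 j u) (Nat.ble (nat_lit 20) j)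
noncomputable def dp_fi_13 (j u : ℕ) : Bool :=
  Bool.rec (motive := fun _ => Bool) (dp_fi_10 j u) (dp_fi_12 j u) (Nat.ble (nat_lit 19) j)
noncomputable def dp_fi_14 (j u : ℕ) : Bool :=
  Bool.rec (motive := fun _ => Bool) (lF [T_ei, T_ei, T_f, T_e, T_c, T_b, T_ci, T_fi, T_b] M (Nat.sub (T_fi u) (Nat.mod (T_fi u) M)) (Nat.mod (T_fi u) M) u) (lS MG [T_ei, T_ci, T_b, T_ci, T_fi, T_c, T_bi, T_ei, T_ci] M (Nat.sub (T_fi u) (Nat.mod (T_fi u) M)) (nat_lit 40) (Nat.mod (T_fi u) M) u) (Nat.ble (nat_lit 23) j)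
noncomputable def dp_fi_15 (j u : ℕ) : Bool :=
  Bool.rec (motive := fun _ => Bool) (lS MG [T_b, T_ci, T_e, T_bi, T_f, T_ci, T_e, T_b, T_e] M (Nat.sub (T_fi u) (Nat.mod (T_fi u) M)) (nat_lit 40) (Nat.mod (T_fi u) M) u) (lS MG [T_e, T_f, T_ei, T_bi, T_e, T_b, T_ei, T_bi, T_c] M (Nat.sub (T_fi u) (Nat.mod (T_fi u) M)) (nat_lit 40) (Nat.mod (T_fi u) M) u) (Nat.ble (nat_lit 25) j)
noncomputable def dp_fi_16 (j u : ℕ) : Bool :=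
  Bool.rec (motive := fun _ => Bool) (dp_fi_14 j u) (dp_fi_15 j u) (Nat.ble (nat_lit 24) j)
noncomputable def dp_fi_17 (j u : ℕ) : Bool :=
  Bool.rec (motive := fun _ => Bool) (lF [T_c, T_fi, T_fi, T_ci, T_fi, T_c, T_fi, T_fi, T_ci] M (Nat.sub (T_fi u) (Nat.mod (T_fi u) M)) (Nat.mod (T_fi u) M) u) (lS MG [T_e, T_bi, T_e, T_bi, T_fi, T_e, T_bi, T_e, T_bi] M (Nat.sub (T_fi u) (Nat.mod (T_fi u) M)) (nat_lit 40) (Nat.mod (T_fi u) M) u) (Nat.ble (nat_lit 27) j)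
noncomputable def dp_fi_18 (j u : ℕ) : Bool :=
  Bool.rec (motive := fun _ => Bool) (lF [T_e, T_e, T_f, T_bi, T_f, T_c, T_bi, T_ci, T_ei] M (Nat.sub (T_fi u) (Nat.mod (T_fi u) M)) (Nat.mod (T_fi u) M) u) (lS MG [T_ei, T_f, T_ci, T_b, T_e, T_bi, T_ei, T_b, T_e] M (Nat.sub (T_fi u) (Nat.mod (T_fi u) M)) (nat_lit 40) (Nat.mod (T_fi u) M) u) (Nat.ble (nat_lit 29) j)
noncomputable def dp_fi_19 (j u : ℕ) : Bool :=
  Bool.rec (motive := fun _ => Bool) (dp_fi_17 j u) (dp_fi_18 j u) (Nat.ble (nat_lit 28) j)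
noncomputable def dp_fi_20 (j u : ℕ) : Bool :=
  Bool.rec (motive := fun _ => Bool) (dp_fi_16 j u) (dp_fi_19 j u) (Nat.ble (nat_lit 26) j)
noncomputable def dp_fi_21 (j u : ℕ) : Bool :=
  Bool.rec (motive := fun _ => Bool) (dp_fi_13 j u) (dp_fi_20 j u) (Nat.ble (nat_lit 22) j)
noncomputable def dp_fi_22 (j u : ℕ) : Bool :=
  Bool.rec (motive := fun _ => Bool) (lS MG [T_ci, T_ei, T_c, T_fi, T_c, T_e, T_e, T_f, T_ci] M (Nat.sub (T_fi u) (Nat.mod (T_fi u) M)) (nat_lit 40) (Nat.mod (T_fi u) M) u) (lS MG [T_ei, T_ei, T_f, T_e, T_c, T_b, T_ci, T_fi, T_b] M (Nat.sub (T_fi u) (Nat.mod (T_fi u) M)) (nat_lit 40) (Nat.mod (T_fi u) M) u) (Nat.ble (nat_lit 31) j)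
noncomputable def dp_fi_23 (j u : ℕ) : Bool :=
  Bool.rec (motive := fun _ => Bool) (lS MG [T_e, T_ci, T_fi, T_bi, T_ei, T_bi, T_ci, T_fi, T_bi] M (Nat.sub (T_fi u) (Nat.mod (T_fi u) M)) (nat_lit 40) (Nat.mod (T_fi u) M) u) (lS MG [T_c, T_e, T_c, T_fi, T_ci, T_f, T_c, T_e, T_fi] M (Nat.sub (T_fi u) (Nat.mod (T_fi u) M)) (nat_lit 40) (Nat.mod (T_fi u) M) u) (Nat.ble (nat_lit 34) j)
noncomputable def dp_fi_24 (j u : ℕ) : Bool :=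
  Bool.rec (motive := fun _ => Bool) (lF [T_b, T_fi, T_ei, T_ei, T_f, T_e, T_c, T_b, T_ci] M (Nat.sub (T_fi u) (Nat.mod (T_fi u) M)) (Nat.mod (T_fi u) M) u) (dp_fi_23 j u) (Nat.ble (nat_lit 33) j)
noncomputable def dp_fi_25 (j u : ℕ) : Bool :=
  Bool.rec (motive := fun _ => Bool) (dp_fi_22 j u) (dp_fi_24 j u) (Nat.ble (nat_lit 32) j)
noncomputable def dp_fi_26 (j u : ℕ) : Bool :=
  Bool.rec (motive := fun _ => Bool) (lF [T_ci, T_fi, T_c, T_fi, T_fi, T_ci, T_fi, T_c, T_fi] M (Nat.sub (T_fi u) (Nat.mod (T_fi u) M)) (Nat.mod (T_fi u) M) u) (lF [T_c, T_bi, T_ei, T_ci, T_fi, T_ei, T_ci, T_b, T_ci] M (Nat.sub (T_fi u) (Nat.mod (T_fi u) M)) (Nat.mod (T_fi u) M) u) (Nat.ble (nat_lit 37) j)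
noncomputable def dp_fi_27 (j u : ℕ) : Bool :=
  Bool.rec (motive := fun _ => Bool) (lF [T_c, T_f, T_ci, T_ei, T_ci, T_f, T_f, T_ei, T_ci] M (Nat.sub (T_fi u) (Nat.mod (T_fi u) M)) (Nat.mod (T_fi u) M) u) (dp_fi_26 j u) (Nat.ble (nat_lit 36) j)
noncomputable def dp_fi_28 (j u : ℕ) : Bool :=
  Bool.rec (motive := fun _ => Bool) (lF [T_ci, T_ei, T_c, T_fi, T_c, T_e, T_e, T_f, T_ci] M (Nat.sub (T_fi u) (Nat.mod (T_fi u) M)) (Nat.mod (T_fi u) M) u) (lF [T_fi, T_ci, T_fi, T_c, T_fi, T_fi, T_ci, T_fi, T_c] M (Nat.sub (T_fi u) (Nat.mod (T_fi u) M)) (Nat.mod (T_fi u) M) u) (Nat.ble (nat_lit 40) j)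
noncomputable def dp_fi_29 (j u : ℕ) : Bool :=
  Bool.rec (motive := fun _ => Bool) (lF [T_c, T_bi, T_e, T_b, T_e, T_e, T_fi, T_fi, T_ci] M (Nat.sub (T_fi u) (Nat.mod (T_fi u) M)) (Nat.mod (T_fi u) M) u) (dp_fi_28 j u) (Nat.ble (nat_lit 39) j)
noncomputable def dp_fi_30 (j u : ℕ) : Bool :=
  Bool.rec (motive := fun _ => Bool) (dp_fi_27 j u) (dp_fi_29 j u) (Nat.ble (nat_lit 38) j)
noncomputable def dp_fi_31 (j u : ℕ) : Bool :=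
  Bool.rec (motive := fun _ => Bool) (dp_fi_25 j u) (dp_fi_30 j u) (Nat.ble (nat_lit 35) j)
noncomputable def dp_fi_32 (j u : ℕ) : Bool :=
  Bool.rec (motive := fun _ => Bool) (lF [T_fi, T_c, T_e, T_c, T_fi, T_ci, T_f, T_c, T_e] M (Nat.sub (T_fi u) (Nat.mod (T_fi u) M)) (Nat.mod (T_fi u) M) u) (lF [T_bi, T_ei, T_bi, T_ci, T_fi, T_bi, T_fi, T_e, T_ci] M (Nat.sub (T_fi u) (Nat.mod (T_fi u) M)) (Nat.mod (T_fi u) M) u) (Nat.ble (nat_lit 43) j)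
noncomputable def dp_fi_33 (j u : ℕ) : Bool :=
  Bool.rec (motive := fun _ => Bool) (lF [T_ci, T_fi, T_c, T_bi, T_e, T_b, T_e, T_e, T_fi] M (Nat.sub (T_fi u) (Nat.mod (T_fi u) M)) (Nat.mod (T_fi u) M) u) (dp_fi_32 j u) (Nat.ble (nat_lit 42) j)
noncomputable def dp_fi_34 (j u : ℕ) : Bool :=
  Bool.rec (motive := fun _ => Bool) (lS MG [T_bi, T_ei, T_bi, T_ci, T_fi, T_bi, T_fi, T_e, T_ci] M (Nat.sub (T_fi u) (Nat.mod (T_fi u) M)) (nat_lit 40) (Nat.mod (T_fi u) M) u) (lF [T_ci, T_f, T_c, T_e, T_fi, T_fi, T_c, T_e, T_c] M (Nat.sub (T_fi u) (Nat.mod (T_fi u) M)) (Nat.mod (T_fi u) M) u) (Nat.ble (nat_lit 45) j)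
noncomputable def dp_fi_35 (j u : ℕ) : Bool :=
  Bool.rec (motive := fun _ => Bool) (lS MG [T_ci, T_fi, T_c, T_bi, T_e, T_b, T_e, T_e, T_fi] M (Nat.sub (T_fi u) (Nat.mod (T_fi u) M)) (nat_lit 40) (Nat.mod (T_fi u) M) u) (lS MG [T_fi, T_c, T_e, T_c, T_fi, T_ci, T_f, T_c, T_e] M (Nat.sub (T_fi u) (Nat.mod (T_fi u) M)) (nat_lit 40) (Nat.mod (T_fi u) M) u) (Nat.ble (nat_lit 47) j)
noncomputable def dp_fi_36 (j u : ℕ) : Bool :=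
  Bool.rec (motive := fun _ => Bool) (dp_fi_34 j u) (dp_fi_35 j u) (Nat.ble (nat_lit 46) j)
noncomputable def dp_fi_37 (j u : ℕ) : Bool :=
  Bool.rec (motive := fun _ => Bool) (dp_fi_33 j u) (dp_fi_36 j u) (Nat.ble (nat_lit 44) j)
noncomputable def dp_fi_38 (j u : ℕ) : Bool :=
  Bool.rec (motive := fun _ => Bool) (lS MG [T_ci, T_f, T_c, T_e, T_fi, T_fi, T_c, T_e, T_c] M (Nat.sub (T_fi u) (Nat.mod (T_fi u) M)) (nat_lit 40) (Nat.mod (T_fi u) M) u) (lS MG [T_c, T_bi, T_e, T_b, T_e, T_e, T_fi, T_fi, T_ci] M (Nat.sub (T_fi u) (Nat.mod (T_fi u) M)) (nat_lit 40) (Nat.mod (T_fi u) M) u) (Nat.ble (nat_lit 49) j)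
noncomputable def dp_fi_39 (j u : ℕ) : Bool :=
  Bool.rec (motive := fun _ => Bool) (lF [T_fi, T_ci, T_fi, T_c, T_bi, T_e, T_b, T_e, T_e] M (Nat.sub (T_fi u) (Nat.mod (T_fi u) M)) (Nat.mod (T_fi u) M) u) (lS MG [T_c, T_fi, T_fi, T_ci, T_fi, T_c, T_fi, T_fi, T_ci] M (Nat.sub (T_fi u) (Nat.mod (T_fi u) M)) (nat_lit 40) (Nat.mod (T_fi u) M) u) (Nat.ble (nat_lit 51) j)
noncomputable def dp_fi_40 (j u : ℕ) : Bool :=
  Bool.rec (motive := fun _ => Bool) (dp_fi_38 j u) (dp_fi_39 j u) (Nat.ble (nat_lit 50) j)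
noncomputable def dp_fi_41 (j u : ℕ) : Bool :=
  Bool.rec (motive := fun _ => Bool) (lS MG [T_bi, T_fi, T_e, T_ci, T_fi, T_bi, T_ei, T_bi, T_ci] M (Nat.sub (T_fi u) (Nat.mod (T_fi u) M)) (nat_lit 40) (Nat.mod (T_fi u) M) u) (lS MG [T_fi, T_ci, T_fi, T_c, T_bi, T_e, T_b, T_e, T_e] M (Nat.sub (T_fi u) (Nat.mod (T_fi u) M)) (nat_lit 40) (Nat.mod (T_fi u) M) u) (Nat.ble (nat_lit 54) j)
noncomputable def dp_fi_42 (j u : ℕ) : Bool :=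
  Bool.rec (motive := fun _ => Bool) (lS MG [T_e, T_e, T_f, T_bi, T_f, T_c, T_bi, T_ci, T_ei] M (Nat.sub (T_fi u) (Nat.mod (T_fi u) M)) (nat_lit 40) (Nat.mod (T_fi u) M) u) (dp_fi_41 j u) (Nat.ble (nat_lit 53) j)
noncomputable def dp_fi_43 (j u : ℕ) : Bool :=
  Bool.rec (motive := fun _ => Bool) (lS MG [T_ci, T_fi, T_c, T_fi, T_fi, T_ci, T_fi, T_c, T_fi] M (Nat.sub (T_fi u) (Nat.mod (T_fi u) M)) (nat_lit 40) (Nat.mod (T_fi u) M) u) (lS MG [T_c, T_e, T_e, T_f, T_ci, T_fi, T_ci, T_ei, T_c] M (Nat.sub (T_fi u) (Nat.mod (T_fi u) M)) (nat_lit 40) (Nat.mod (T_fi u) M) u) (Nat.ble (nat_lit 56) j)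
noncomputable def dp_fi_44 (j u : ℕ) : Bool :=
  Bool.rec (motive := fun _ => Bool) (lS MG [T_c, T_f, T_ci, T_ei, T_ci, T_f, T_f, T_ei, T_ci] M (Nat.sub (T_fi u) (Nat.mod (T_fi u) M)) (nat_lit 40) (Nat.mod (T_fi u) M) u) (lS MG [T_b, T_ei, T_c, T_bi, T_f, T_ei, T_bi, T_ei, T_c] M (Nat.sub (T_fi u) (Nat.mod (T_fi u) M)) (nat_lit 40) (Nat.mod (T_fi u) M) u) (Nat.ble (nat_lit 58) j)
noncomputable def dp_fi_45 (j u : ℕ) : Bool :=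
  Bool.rec (motive := fun _ => Bool) (lF [T_ei, T_ei, T_ci, T_f, T_ci, T_e, T_c, T_f, T_c] M (Nat.sub (T_fi u) (Nat.mod (T_fi u) M)) (Nat.mod (T_fi u) M) u) (lS MG [T_ei, T_fi, T_b, T_e, T_bi, T_fi, T_d, T_ci, T_di, T_f, T_b, T_ei] M (Nat.sub (T_fi u) (Nat.mod (T_fi u) M)) (nat_lit 40) (Nat.mod (T_fi u) M) u) (Nat.ble (nat_lit 60) j)
noncomputable def dp_fi_46 (j u : ℕ) : Bool :=
  Bool.rec (motive := fun _ => Bool) (dp_fi_44 j u) (dp_fi_45 j u) (Nat.ble (nat_lit 59) j)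
noncomputable def dp_fi_47 (j u : ℕ) : Bool :=
  Bool.rec (motive := fun _ => Bool) (dp_fi_43 j u) (dp_fi_46 j u) (Nat.ble (nat_lit 57) j)
noncomputable def dp_fi_48 (j u : ℕ) : Bool :=
  Bool.rec (motive := fun _ => Bool) (dp_fi_42 j u) (dp_fi_47 j u) (Nat.ble (nat_lit 55) j)
noncomputable def dp_fi_49 (j u : ℕ) : Bool :=
  Bool.rec (motive := fun _ => Bool) (dp_fi_40 j u) (dp_fi_48 j u) (Nat.ble (nat_lit 52) j)
noncomputable def dp_fi_50 (j u : ℕ) : Bool :=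
  Bool.rec (motive := fun _ => Bool) (dp_fi_37 j u) (dp_fi_49 j u) (Nat.ble (nat_lit 48) j)
noncomputable def dp_fi_51 (j u : ℕ) : Bool :=
  Bool.rec (motive := fun _ => Bool) (dp_fi_31 j u) (dp_fi_50 j u) (Nat.ble (nat_lit 41) j)
noncomputable def dp_fi_52 (j u : ℕ) : Bool :=
  Bool.rec (motive := fun _ => Bool) (dp_fi_21 j u) (dp_fi_51 j u) (Nat.ble (nat_lit 30) j)
noncomputable def dp_fi_53 (j u : ℕ) : Bool :=
  Bool.rec (motive := fun _ => Bool) (dp_fi_9 j u) (dp_fi_52 j u) (Nat.ble (nat_lit 17) j)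
noncomputable def dp_fi_54 (j u : ℕ) : Bool :=
  Bool.rec (motive := fun _ => Bool) (Bool.rec (motive := fun _ => Bool) (dp_fi_0 j u) (dp_fi_1 j u) (Nat.ble (nat_lit 6) j)) (dp_fi_53 j u) (Nat.ble (nat_lit 8) j)
noncomputable def dp_fi_55 (j u : ℕ) : Bool :=
  Bool.rec (motive := fun _ => Bool) (Bool.rec (motive := fun _ => Bool) (lDef P (nat_lit 6) u (Nat.mod (T_fi u) M)) (lDef P (nat_lit 7) (Nat.mod (T_fi u) M) u) (Nat.ble (nat_lit 3) j)) (dp_fi_54 j u) (Nat.ble (nat_lit 4) j)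
noncomputable def disp_fi (j u : ℕ) : Bool :=
  Bool.rec (motive := fun _ => Bool) (Bool.rec (motive := fun _ => Bool) (lF1 T_f M (Nat.sub (T_fi u) (Nat.mod (T_fi u) M)) (Nat.mod (T_fi u) M) u) (lF3 T_di T_e T_d M (Nat.sub (T_fi u) (Nat.mod (T_fi u) M)) (Nat.mod (T_fi u) M) u) (Nat.ble (nat_lit 1) j)) (dp_fi_55 j u) (Nat.ble (nat_lit 2) j)
noncomputable def chk_fi (j u : ℕ) : Bool :=
  Bool.rec (motive := fun _ => Bool) (disp_fi j u) (Nat.ble (Nat.succ (MG u)) A) (Nat.ble A (T_fi u))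
noncomputable def dp_d_0 (j u : ℕ) : Bool :=
  Bool.rec (motive := fun _ => Bool) (lS MG [T_fi, T_di, T_e] M (Nat.sub (T_d u) (Nat.mod (T_d u) M)) (nat_lit 40) (Nat.mod (T_d u) M) u) (lS MG [T_f, T_di, T_ei] M (Nat.sub (T_d u) (Nat.mod (T_d u) M)) (nat_lit 40) (Nat.mod (T_d u) M) u) (Nat.ble (nat_lit 10) j)
noncomputable def dp_d_1 (j u : ℕ) : Bool :=
  Bool.rec (motive := fun _ => Bool) (lS MG [T_d, T_d] M (Nat.sub (T_d u) (Nat.mod (T_d u) M)) (nat_lit 40) (Nat.mod (T_d u) M) u) (lS MG [T_bi, T_fi, T_d, T_ei, T_bi, T_di, T_f, T_f, T_bi, T_d, T_b, T_fi, T_fi, T_d, T_b, T_e, T_di, T_f, T_b] M (Nat.sub (T_d u) (Nat.mod (T_d u) M)) (nat_lit 40) (Nat.mod (T_d u) M) u) (Nat.ble (nat_lit 13) j)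
noncomputable def dp_d_2 (j u : ℕ) : Bool :=
  Bool.rec (motive := fun _ => Bool) (lS MG [T_c, T_di, T_bi] M (Nat.sub (T_d u) (Nat.mod (T_d u) M)) (nat_lit 40) (Nat.mod (T_d u) M) u) (dp_d_1 j u) (Nat.ble (nat_lit 12) j)
noncomputable def dp_d_3 (j u : ℕ) : Bool :=
  Bool.rec (motive := fun _ => Bool) (dp_d_0 j u) (dp_d_2 j u) (Nat.ble (nat_lit 11) j)
noncomputable def dp_d_4 (j u : ℕ) : Bool :=
  Bool.rec (motive := fun _ => Bool) (lS MG [T_di] M (Nat.sub (T_d u) (Nat.mod (T_d u) M)) (nat_lit 40) (Nat.mod (T_d u) M) u) (dp_d_3 j u) (Nat.ble (nat_lit 9) j)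
noncomputable def dp_d_5 (j u : ℕ) : Bool :=
  Bool.rec (motive := fun _ => Bool) (lF3 T_c T_di T_bi M (Nat.sub (T_d u) (Nat.mod (T_d u) M)) (Nat.mod (T_d u) M) u) (dp_d_4 j u) (Nat.ble (nat_lit 8) j)
noncomputable def dp_d_6 (j u : ℕ) : Bool :=
  Bool.rec (motive := fun _ => Bool) (Bool.rec (motive := fun _ => Bool) (lF3 T_fi T_di T_e M (Nat.sub (T_d u) (Nat.mod (T_d u) M)) (Nat.mod (T_d u) M) u) (lF3 T_ci T_di T_b M (Nat.sub (T_d u) (Nat.mod (T_d u) M)) (Nat.mod (T_d u) M) u) (Nat.ble (nat_lit 6) j)) (dp_d_5 j u) (Nat.ble (nat_lit 7) j)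
noncomputable def disp_d (j u : ℕ) : Bool :=
  Bool.rec (motive := fun _ => Bool) (Bool.rec (motive := fun _ => Bool) (lF1 T_di M (Nat.sub (T_d u) (Nat.mod (T_d u) M)) (Nat.mod (T_d u) M) u) (lF [T_d, T_d] M (Nat.sub (T_d u) (Nat.mod (T_d u) M)) (Nat.mod (T_d u) M) u) (Nat.ble (nat_lit 1) j)) (Bool.rec (motive := fun _ => Bool) (Bool.rec (motive := fun _ => Bool) (lDef P (nat_lit 9) u (Nat.mod (T_d u) M)) (Bool.rec (motive := fun _ => Bool) (lF3 T_f T_di T_ei M (Nat.sub (T_d u) (Nat.mod (T_d u) M)) (Nat.mod (T_d u) M) u) (lDef P (nat_lit 8) (Nat.mod (T_d u) M) u) (Nat.ble (nat_lit 4) j)) (Nat.ble (nat_lit 3) j)) (dp_d_6 j u) (Nat.ble (nat_lit 5) j)) (Nat.ble (nat_lit 2) j)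
noncomputable def chk_d (j u : ℕ) : Bool :=
  Bool.rec (motive := fun _ => Bool) (disp_d j u) (Nat.ble (Nat.succ (MG u)) A) (Nat.ble A (T_d u))
noncomputable def dp_di_0 (j u : ℕ) : Bool :=
  Bool.rec (motive := fun _ => Bool) (lDef P (nat_lit 8) u (Nat.mod (T_di u) M)) (lF3 T_e T_d T_fi M (Nat.sub (T_di u) (Nat.mod (T_di u) M)) (Nat.mod (T_di u) M) u) (Nat.ble (nat_lit 4) j)
noncomputable def dp_di_1 (j u : ℕ) : Bool :=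
  Bool.rec (motive := fun _ => Bool) (lF3 T_ei T_d T_f M (Nat.sub (T_di u) (Nat.mod (T_di u) M)) (Nat.mod (T_di u) M) u) (lF3 T_b T_d T_ci M (Nat.sub (T_di u) (Nat.mod (T_di u) M)) (Nat.mod (T_di u) M) u) (Nat.ble (nat_lit 6) j)
noncomputable def dp_di_2 (j u : ℕ) : Bool :=
  Bool.rec (motive := fun _ => Bool) (lS MG [T_bi, T_d, T_c] M (Nat.sub (T_di u) (Nat.mod (T_di u) M)) (nat_lit 40) (Nat.mod (T_di u) M) u) (lS MG [T_di, T_di] M (Nat.sub (T_di u) (Nat.mod (T_di u) M)) (nat_lit 40) (Nat.mod (T_di u) M) u) (Nat.ble (nat_lit 13) j)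
noncomputable def dp_di_3 (j u : ℕ) : Bool :=
  Bool.rec (motive := fun _ => Bool) (lS MG [T_ei, T_d, T_f] M (Nat.sub (T_di u) (Nat.mod (T_di u) M)) (nat_lit 40) (Nat.mod (T_di u) M) u) (dp_di_2 j u) (Nat.ble (nat_lit 12) j)
noncomputable def dp_di_4 (j u : ℕ) : Bool :=
  Bool.rec (motive := fun _ => Bool) (lS MG [T_b, T_d, T_ci] M (Nat.sub (T_di u) (Nat.mod (T_di u) M)) (nat_lit 40) (Nat.mod (T_di u) M) u) (dp_di_3 j u) (Nat.ble (nat_lit 11) j)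
noncomputable def dp_di_5 (j u : ℕ) : Bool :=
  Bool.rec (motive := fun _ => Bool) (lS MG [T_e, T_d, T_fi] M (Nat.sub (T_di u) (Nat.mod (T_di u) M)) (nat_lit 40) (Nat.mod (T_di u) M) u) (dp_di_4 j u) (Nat.ble (nat_lit 10) j)
noncomputable def dp_di_6 (j u : ℕ) : Bool :=
  Bool.rec (motive := fun _ => Bool) (lS MG [T_d] M (Nat.sub (T_di u) (Nat.mod (T_di u) M)) (nat_lit 40) (Nat.mod (T_di u) M) u) (dp_di_5 j u) (Nat.ble (nat_lit 9) j)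
noncomputable def dp_di_7 (j u : ℕ) : Bool :=
  Bool.rec (motive := fun _ => Bool) (lF3 T_bi T_d T_c M (Nat.sub (T_di u) (Nat.mod (T_di u) M)) (Nat.mod (T_di u) M) u) (dp_di_6 j u) (Nat.ble (nat_lit 8) j)
noncomputable def dp_di_8 (j u : ℕ) : Bool :=
  Bool.rec (motive := fun _ => Bool) (dp_di_1 j u) (dp_di_7 j u) (Nat.ble (nat_lit 7) j)
noncomputable def dp_di_9 (j u : ℕ) : Bool :=
  Bool.rec (motive := fun _ => Bool) (dp_di_0 j u) (dp_di_8 j u) (Nat.ble (nat_lit 5) j)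
noncomputable def dp_di_10 (j u : ℕ) : Bool :=
  Bool.rec (motive := fun _ => Bool) (Bool.rec (motive := fun _ => Bool) (lDef P (nat_lit 9) (Nat.mod (T_di u) M) u) (lF [T_di, T_di] M (Nat.sub (T_di u) (Nat.mod (T_di u) M)) (Nat.mod (T_di u) M) u) (Nat.ble (nat_lit 2) j)) (dp_di_9 j u) (Nat.ble (nat_lit 3) j)
noncomputable def disp_di (j u : ℕ) : Bool :=
  Bool.rec (motive := fun _ => Bool) (lF1 T_d M (Nat.sub (T_di u) (Nat.mod (T_di u) M)) (Nat.mod (T_di u) M) u) (dp_di_10 j u) (Nat.ble (nat_lit 1) j)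
noncomputable def chk_di (j u : ℕ) : Bool :=
  Bool.rec (motive := fun _ => Bool) (disp_di j u) (Nat.ble (Nat.succ (MG u)) A) (Nat.ble A (T_di u))
noncomputable def dM_0 (j z1 z2 u : ℕ) : Bool :=
  Bool.rec (motive := fun _ => Bool) (Bool.rec (motive := fun _ => Bool) (Bool.rec (motive := fun _ => Bool) (mCo MG T_di M (Nat.sub (MG u) (Nat.mod (MG u) M)) (nat_lit 40) z1 z2 u (Nat.mod (MG u) M)) (mCo MG T_d M (Nat.sub (MG u) (Nat.mod (MG u) M)) (nat_lit 40) z1 z2 u (Nat.mod (MG u) M)) (Nat.ble (nat_lit 1) j)) (Bool.rec (motive := fun _ => Bool) (mCo MG T_b M (Nat.sub (MG u) (Nat.mod (MG u) M)) (nat_lit 40) z1 z2 u (Nat.mod (MG u) M)) (Bool.rec (motive := fun _ => Bool) (mCo MG T_e M (Nat.sub (MG u) (Nat.mod (MG u) M)) (nat_lit 40) z1 z2 u (Nat.mod (MG u) M)) (mCo MG T_c M (Nat.sub (MG u) (Nat.mod (MG u) M)) (nat_lit 40) z1 z2 u (Nat.mod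 (MG u) M)) (Nat.ble (nat_lit 4) j)) (Nat.ble (nat_lit 3) j)) (Nat.ble (nat_lit 2) j)) (Bool.rec (motive := fun _ => Bool) (Bool.rec (motive := fun _ => Bool) (mCo MG T_ei M (Nat.sub (MG u) (Nat.mod (MG u) M)) (nat_lit 40) z1 z2 u (Nat.mod (MG u) M)) (Bool.rec (motive := fun _ => Bool) (mCo MG T_ci M (Nat.sub (MG u) (Nat.mod (MG u) M)) (nat_lit 40) z1 z2 u (Nat.mod (MG u) M)) (mCo MG T_bi M (Nat.sub (MG u) (Nat.mod (MG u) M)) (nat_lit 40) z1 z2 u (Nat.mod (MG u) M)) (Nat.ble (nat_lit 7) j)) (Nat.ble (nat_lit 6) j)) (Bool.rec (motive := fun _ => Bool) (mCo MG T_f M (Nat.sub (MG u) (Nat.mod (MG u) M)) (nat_lit 40) z1 z2 u (Nat.mod (MG u) M)) (Bool.rec (motive := fun _ => Bool) (mCo MG T_fi M (Nat.sub (MG u) (Nat.mod (MG u) M)) (nat_lit 40) z1 z2 u (Nat.mod (MG u) M)) (Bool.rec (motive := fun _ => Bool) (mRel MG [T_d, T_d] [T_di] M (Nat.sub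 (MG u) (Nat.mod (MG u) M)) (nat_lit 40) z1 u (Nat.mod (MG u) M)) (mRel MG [T_di, T_di] [T_d] M (Nat.sub (MG u) (Nat.mod (MG u) M)) (nat_lit 40) z1 u (Nat.mod (MG u) M)) (Nat.ble (nat_lit 11) j)) (Nat.ble (nat_lit 10) j)) (Nat.ble (nat_lit 9) j)) (Nat.ble (nat_lit 8) j)) (Nat.ble (nat_lit 5) j)
noncomputable def dM_1 (j z1 z2 u : ℕ) : Bool :=
  Bool.rec (motive := fun _ => Bool) (Bool.rec (motive := fun _ => Bool) (Bool.rec (motive := fun _ => Bool) (mRel MG [T_ei, T_ei, T_ei] [T_e, T_e] M (Nat.sub (MG u) (Nat.mod (MG u) M)) (nat_lit 40) z1 u (Nat.mod (MG u) M)) (mRel MG [T_fi, T_fi, T_fi] [T_f, T_f] M (Nat.sub (MG u) (Nat.mod (MG u) M)) (nat_lit 40) z1 u (Nat.mod (MG u) M)) (Nat.ble (nat_lit 13) j)) (Bool.rec (motive := fun _ => Bool) (mRel MG [T_e, T_d, T_fi] [T_d] M (Nat.sub (MG u) (Nat.mod (MG u) M)) (nat_lit 40) z1 u (Nat.mod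 (MG u) M)) (mRel MG [T_c, T_di, T_bi] [T_di] M (Nat.sub (MG u) (Nat.mod (MG u) M)) (nat_lit 40) z1 u (Nat.mod (MG u) M)) (Nat.ble (nat_lit 15) j)) (Nat.ble (nat_lit 14) j)) (Bool.rec (motive := fun _ => Bool) (Bool.rec (motive := fun _ => Bool) (mRel MG [T_bi, T_d, T_c] [T_d] M (Nat.sub (MG u) (Nat.mod (MG u) M)) (nat_lit 40) z1 u (Nat.mod (MG u) M)) (Bool.rec (motive := fun _ => Bool) (mRel MG [T_bi, T_f, T_b, T_ci, T_e, T_f, T_e] [T_c, T_b] M (Nat.sub (MG u) (Nat.mod (MG u) M)) (nat_lit 40) z1 u (Nat.mod (MG u) M)) (mRel MG [T_c, T_bi, T_fi, T_b] [T_e, T_f, T_e, T_bi, T_ci] M (Nat.sub (MG u) (Nat.mod (MG u) M)) (nat_lit 40) z1 u (Nat.mod (MG u) M)) (Nat.ble (nat_lit 18) j)) (Nat.ble (nat_lit 17) j)) (Bool.rec (motive := fun _ => Bool) (Bool.rec (motive := fun _ => Bool) (mRel MG [T_c, T_di] [T_di, T_b] M (Nat.sub (MG u) (Nat.mod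 (MG u) M)) (nat_lit 40) z1 u (Nat.mod (MG u) M)) (mRel MG [T_fi, T_b, T_c, T_b, T_ei, T_fi, T_ei] [T_b, T_ci] M (Nat.sub (MG u) (Nat.mod (MG u) M)) (nat_lit 40) z1 u (Nat.mod (MG u) M)) (Nat.ble (nat_lit 20) j)) (Bool.rec (motive := fun _ => Bool) (mRel MG [T_e, T_d] [T_d, T_f] M (Nat.sub (MG u) (Nat.mod (MG u) M)) (nat_lit 40) z1 u (Nat.mod (MG u) M)) (mRel MG [T_fi, T_b] [T_b, T_ci, T_e, T_f, T_e, T_bi, T_ci] M (Nat.sub (MG u) (Nat.mod (MG u) M)) (nat_lit 40) z1 u (Nat.mod (MG u) M)) (Nat.ble (nat_lit 22) j)) (Nat.ble (nat_lit 21) j)) (Nat.ble (nat_lit 19) j)) (Nat.ble (nat_lit 16) j)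
noncomputable def dM_2 (j z1 z2 u : ℕ) : Bool :=
  Bool.rec (motive := fun _ => Bool) (Bool.rec (motive := fun _ => Bool) (Bool.rec (motive := fun _ => Bool) (mRel MG [T_c, T_bi] [T_e, T_f, T_e, T_bi, T_ci, T_bi, T_f] M (Nat.sub (MG u) (Nat.mod (MG u) M)) (nat_lit 40) z1 u (Nat.mod (MG u) M)) (mRel MG [T_ci, T_di, T_b] [T_di] M (Nat.sub (MG u) (Nat.mod (MG u) M)) (nat_lit 40) z1 u (Nat.mod (MG u) M)) (Nat.ble (nat_lit 24) j)) (Bool.rec (motive := fun _ => Bool) (mRel MG [T_d, T_ci] [T_bi, T_d] M (Nat.sub (MG u) (Nat.mod (MG u) M)) (nat_lit 40) z1 u (Nat.mod (MG u) M)) (mRel MG [T_e, T_e] [T_ei, T_ei, T_ei] M (Nat.sub (MG u) (Nat.mod (MG u) M)) (nat_lit 40) z1 u (Nat.mod (MG u) M)) (Nat.ble (nat_lit 26) j)) (Nat.ble (nat_lit 25) j)) (Bool.rec (motive := fun _ => Bool) (Bool.rec (motive := fun _ => Bool) (mRel MG [T_bi, T_f] [T_c, T_b,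 T_ei, T_fi, T_ei, T_c, T_bi] M (Nat.sub (MG u) (Nat.mod (MG u) M)) (nat_lit 40) z1 u (Nat.mod (MG u) M)) (mRel MG [T_bi, T_fi, T_b] [T_ci, T_e, T_f, T_e, T_bi, T_ci] M (Nat.sub (MG u) (Nat.mod (MG u) M)) (nat_lit 40) z1 u (Nat.mod (MG u) M)) (Nat.ble (nat_lit 28) j)) (Bool.rec (motive := fun _ => Bool) (mRel MG [T_ei, T_fi, T_ei] [T_bi, T_ci, T_bi, T_f, T_b, T_ci] M (Nat.sub (MG u) (Nat.mod (MG u) M)) (nat_lit 40) z1 u (Nat.mod (MG u) M)) (Bool.rec (motive := fun _ => Bool) (mRel MG [T_bi, T_d] [T_d, T_ci] M (Nat.sub (MG u) (Nat.mod (MG u) M)) (nat_lit 40) z1 u (Nat.mod (MG u) M)) (mRel MG [T_b, T_d, T_ci] [T_d] M (Nat.sub (MG u) (Nat.mod (MG u) M)) (nat_lit 40) z1 u (Nat.mod (MG u) M)) (Nat.ble (nat_lit 31) j)) (Nat.ble (nat_lit 30) j)) (Nat.ble (nat_lit 29) j)) (Nat.ble (nat_lit 27) j)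
noncomputable def dM_3 (j z1 z2 u : ℕ) : Bool :=
  Bool.rec (motive := fun _ => Bool) (Bool.rec (motive := fun _ => Bool) (Bool.rec (motive := fun _ => Bool) (mRel MG [T_bi, T_f, T_b, T_ci] [T_c, T_b, T_ei, T_fi, T_ei] M (Nat.sub (MG u) (Nat.mod (MG u) M)) (nat_lit 40) z1 u (Nat.mod (MG u) M)) (mRel MG [T_b, T_ci, T_e, T_f, T_e, T_bi, T_ci, T_bi] [T_fi] M (Nat.sub (MG u) (Nat.mod (MG u) M)) (nat_lit 40) z1 u (Nat.mod (MG u) M)) (Nat.ble (nat_lit 33) j)) (Bool.rec (motive := fun _ => Bool) (mRel MG [T_fi, T_e, T_bi, T_e, T_bi] [T_b, T_ei, T_b, T_ei, T_f] M (Nat.sub (MG u) (Nat.mod (MG u) M)) (nat_lit 40) z1 u (Nat.mod (MG u) M)) (mRel MG [T_ei, T_d] [T_d, T_fi] M (Nat.sub (MG u) (Nat.mod (MG u) M)) (nat_lit 40) z1 u (Nat.mod (MG u) M)) (Nat.ble (nat_lit 35) j)) (Nat.ble (nat_lit 34) j)) (Bool.rec (motive := fun _ => Bool) (Bool.rec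 (motive := fun _ => Bool) (mRel MG [T_b, T_c, T_b, T_ei, T_fi, T_ei, T_c, T_bi] [T_f] M (Nat.sub (MG u) (Nat.mod (MG u) M)) (nat_lit 40) z1 u (Nat.mod (MG u) M)) (Bool.rec (motive := fun _ => Bool) (mRel MG [T_ei, T_ei, T_ei, T_ei] [T_e] M (Nat.sub (MG u) (Nat.mod (MG u) M)) (nat_lit 40) z1 u (Nat.mod (MG u) M)) (mRel MG [T_ci, T_di] [T_di, T_bi] M (Nat.sub (MG u) (Nat.mod (MG u) M)) (nat_lit 40) z1 u (Nat.mod (MG u) M)) (Nat.ble (nat_lit 38) j)) (Nat.ble (nat_lit 37) j)) (Bool.rec (motive := fun _ => Bool) (Bool.rec (motive := fun _ => Bool) (mRel MG [T_c, T_fi, T_b, T_ei, T_c, T_bi] [T_e, T_b, T_e, T_fi] M (Nat.sub (MG u) (Nat.mod (MG u) M)) (nat_lit 40) z1 u (Nat.mod (MG u) M)) (mRel MG [T_f, T_b, T_ci, T_e, T_f, T_e] [T_b, T_c, T_b] M (Nat.sub (MG u) (Nat.mod (MG u) M)) (nat_lit 40) z1 u (Nat.mod (MG u) M)) (Nat.ble (nat_lit 40)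 j)) (Bool.rec (motive := fun _ => Bool) (mRel MG [T_fi, T_ei, T_c, T_bi, T_fi, T_b, T_c] [T_e, T_bi] M (Nat.sub (MG u) (Nat.mod (MG u) M)) (nat_lit 40) z1 u (Nat.mod (MG u) M)) (mRel MG [T_b, T_ci, T_f, T_c, T_f, T_f, T_ei] [T_e, T_b, T_e] M (Nat.sub (MG u) (Nat.mod (MG u) M)) (nat_lit 40) z1 u (Nat.mod (MG u) M)) (Nat.ble (nat_lit 42) j)) (Nat.ble (nat_lit 41) j)) (Nat.ble (nat_lit 39) j)) (Nat.ble (nat_lit 36) j)
noncomputable def dM_4 (j z1 z2 u : ℕ) : Bool :=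
  Bool.rec (motive := fun _ => Bool) (dM_2 j z1 z2 u) (dM_3 j z1 z2 u) (Nat.ble (nat_lit 32) j)
noncomputable def dM_5 (j z1 z2 u : ℕ) : Bool :=
  Bool.rec (motive := fun _ => Bool) (dM_1 j z1 z2 u) (dM_4 j z1 z2 u) (Nat.ble (nat_lit 23) j)
noncomputable def dM_6 (j z1 z2 u : ℕ) : Bool :=
  Bool.rec (motive := fun _ => Bool) (Bool.rec (motive := fun _ => Bool) (mRel MG [T_bi, T_fi, T_b, T_c, T_b, T_ei] [T_ci, T_e, T_f] M (Nat.sub (MG u) (Nat.mod (MG u) M)) (nat_lit 40) z1 u (Nat.mod (MG u) M)) (Bool.rec (motive := fun _ => Bool) (mRel MG [T_bi, T_f, T_b, T_ci, T_e, T_f] [T_c, T_b, T_ei] M (Nat.sub (MG u) (Nat.mod (MG u) M)) (nat_lit 40) z1 u (Nat.mod (MG u) M)) (mRel MG [T_ci, T_fi, T_c, T_fi, T_fi, T_ci, T_fi] [T_f, T_f, T_ci] M (Nat.sub (MG u) (Nat.mod (MG u) M)) (nat_lit 40) z1 u (Nat.mod (MG u) M)) (Nat.ble (nat_lit 45) j)) (Nat.ble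 (nat_lit 44) j)) (Bool.rec (motive := fun _ => Bool) (mRel MG [T_fi, T_e, T_f, T_ei, T_bi, T_e, T_b, T_ei, T_bi, T_c] [] M (Nat.sub (MG u) (Nat.mod (MG u) M)) (nat_lit 40) z1 u (Nat.mod (MG u) M)) (Bool.rec (motive := fun _ => Bool) (mRel MG [T_ci, T_e, T_f] [T_bi, T_fi, T_b, T_c, T_b, T_ei] M (Nat.sub (MG u) (Nat.mod (MG u) M)) (nat_lit 40) z1 u (Nat.mod (MG u) M)) (mRel MG [T_b, T_fi, T_ei, T_ei, T_f] [T_f, T_c, T_bi, T_ci, T_ei] M (Nat.sub (MG u) (Nat.mod (MG u) M)) (nat_lit 40) z1 u (Nat.mod (MG u) M)) (Nat.ble (nat_lit 48) j)) (Nat.ble (nat_lit 47) j)) (Nat.ble (nat_lit 46) j)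
noncomputable def dM_7 (j z1 z2 u : ℕ) : Bool :=
  Bool.rec (motive := fun _ => Bool) (Bool.rec (motive := fun _ => Bool) (mRel MG [T_bi, T_fi] [T_ci, T_e, T_f, T_e, T_bi, T_ci, T_bi] M (Nat.sub (MG u) (Nat.mod (MG u) M)) (nat_lit 40) z1 u (Nat.mod (MG u) M)) (Bool.rec (motive := fun _ => Bool) (mRel MG [T_bi, T_e, T_bi] [T_ei, T_f, T_b, T_ei, T_b, T_ei, T_f] M (Nat.sub (MG u) (Nat.mod (MG u) M)) (nat_lit 40) z1 u (Nat.mod (MG u) M)) (mRel MG [T_e, T_f, T_e, T_bi, T_ci, T_bi] [T_c, T_bi, T_fi] M (Nat.sub (MG u) (Nat.mod (MG u) M)) (nat_lit 40) z1 u (Nat.mod (MG u) M)) (Nat.ble (nat_lit 51) j)) (Nat.ble (nat_lit 50) j)) (Bool.rec (motive := fun _ => Bool) (Bool.rec (motive := fun _ => Bool) (mRel MG [T_e, T_bi, T_ci, T_bi, T_f, T_b] [T_fi, T_ei, T_c] M (Nat.sub (MG u) (Nat.mod (MG u) M)) (nat_lit 40) z1 u (Nat.mod (MG u) M)) (mRel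 MG [T_b, T_d] [T_d, T_c] M (Nat.sub (MG u) (Nat.mod (MG u) M)) (nat_lit 40) z1 u (Nat.mod (MG u) M)) (Nat.ble (nat_lit 53) j)) (Bool.rec (motive := fun _ => Bool) (mRel MG [T_bi, T_ci, T_bi, T_f, T_b, T_ci, T_e, T_f] [T_ei] M (Nat.sub (MG u) (Nat.mod (MG u) M)) (nat_lit 40) z1 u (Nat.mod (MG u) M)) (mRel MG [T_bi, T_fi, T_b, T_c, T_b] [T_ci, T_e, T_f, T_e] M (Nat.sub (MG u) (Nat.mod (MG u) M)) (nat_lit 40) z1 u (Nat.mod (MG u) M)) (Nat.ble (nat_lit 55) j)) (Nat.ble (nat_lit 54) j)) (Nat.ble (nat_lit 52) j)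
noncomputable def dM_8 (j z1 z2 u : ℕ) : Bool :=
  Bool.rec (motive := fun _ => Bool) (dM_6 j z1 z2 u) (dM_7 j z1 z2 u) (Nat.ble (nat_lit 49) j)
noncomputable def dM_9 (j z1 z2 u : ℕ) : Bool :=
  Bool.rec (motive := fun _ => Bool) (Bool.rec (motive := fun _ => Bool) (mRel MG [T_b, T_ei, T_fi, T_ei, T_c, T_bi, T_fi, T_b] [T_ci] M (Nat.sub (MG u) (Nat.mod (MG u) M)) (nat_lit 40) z1 u (Nat.mod (MG u) M)) (Bool.rec (motive := fun _ => Bool) (mRel MG [T_b, T_ci] [T_fi, T_b, T_c, T_b, T_ei, T_fi, T_ei] M (Nat.sub (MG u) (Nat.mod (MG u) M)) (nat_lit 40) z1 u (Nat.mod (MG u) M)) (mRel MG [T_e, T_bi, T_ci] [T_fi, T_ei, T_c, T_bi, T_fi, T_b] M (Nat.sub (MG u) (Nat.mod (MG u) M)) (nat_lit 40) z1 u (Nat.mod (MG u) M)) (Nat.ble (nat_lit 58) j)) (Nat.ble (nat_lit 57) j)) (Bool.rec (motive := fun _ => Bool) (mRel MG [T_e, T_e, T_f, T_bi, T_f, T_c,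 T_bi, T_ci] [T_f, T_e] M (Nat.sub (MG u) (Nat.mod (MG u) M)) (nat_lit 40) z1 u (Nat.mod (MG u) M)) (Bool.rec (motive := fun _ => Bool) (mRel MG [T_ei, T_bi, T_e, T_b, T_ei, T_bi, T_c] [T_fi, T_ei, T_f] M (Nat.sub (MG u) (Nat.mod (MG u) M)) (nat_lit 40) z1 u (Nat.mod (MG u) M)) (mRel MG [T_ei, T_f, T_e, T_c] [T_e, T_f, T_bi, T_f, T_c, T_bi] M (Nat.sub (MG u) (Nat.mod (MG u) M)) (nat_lit 40) z1 u (Nat.mod (MG u) M)) (Nat.ble (nat_lit 61) j)) (Nat.ble (nat_lit 60) j)) (Nat.ble (nat_lit 59) j)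
noncomputable def dM_10 (j z1 z2 u : ℕ) : Bool :=
  Bool.rec (motive := fun _ => Bool) (Bool.rec (motive := fun _ => Bool) (mRel MG [T_f, T_e, T_bi, T_ci, T_bi] [T_ei, T_c, T_bi, T_fi] M (Nat.sub (MG u) (Nat.mod (MG u) M)) (nat_lit 40) z1 u (Nat.mod (MG u) M)) (Bool.rec (motive := fun _ => Bool) (mRel MG [T_ci, T_e, T_f, T_e, T_bi, T_ci, T_bi] [T_bi, T_fi] M (Nat.sub (MG u) (Nat.mod (MG u) M)) (nat_lit 40) z1 u (Nat.mod (MG u) M)) (mRel MG [T_ei] [T_bi, T_ci, T_bi, T_f, T_b, T_ci, T_e, T_f] M (Nat.sub (MG u) (Nat.mod (MG u) M)) (nat_lit 40) z1 u (Nat.mod (MG u) M)) (Nat.ble (nat_lit 64) j)) (Nat.ble (nat_lit 63) j)) (Bool.rec (motive := fun _ => Bool) (Bool.rec (motive := fun _ => Bool) (mRel MG [T_e, T_b, T_ci, T_f, T_c, T_bi] [T_ci, T_fi, T_ei, T_ci] M (Nat.sub (MG u) (Nat.mod (MG u) M)) (nat_lit 40) z1 u (Nat.mod (MG u) M)) (mRel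 MG [T_c, T_f, T_ci, T_ei, T_ci, T_f, T_f, T_ei] [T_f, T_c] M (Nat.sub (MG u) (Nat.mod (MG u) M)) (nat_lit 40) z1 u (Nat.mod (MG u) M)) (Nat.ble (nat_lit 66) j)) (Bool.rec (motive := fun _ => Bool) (mRel MG [T_b, T_c, T_b, T_ei, T_fi] [T_f, T_b, T_ci, T_e] M (Nat.sub (MG u) (Nat.mod (MG u) M)) (nat_lit 40) z1 u (Nat.mod (MG u) M)) (mRel MG [T_bi, T_ci] [T_ei, T_fi, T_ei, T_c, T_bi, T_fi, T_b] M (Nat.sub (MG u) (Nat.mod (MG u) M)) (nat_lit 40) z1 u (Nat.mod (MG u) M)) (Nat.ble (nat_lit 68) j)) (Nat.ble (nat_lit 67) j)) (Nat.ble (nat_lit 65) j)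
noncomputable def dM_11 (j z1 z2 u : ℕ) : Bool :=
  Bool.rec (motive := fun _ => Bool) (dM_9 j z1 z2 u) (dM_10 j z1 z2 u) (Nat.ble (nat_lit 62) j)
noncomputable def dM_12 (j z1 z2 u : ℕ) : Bool :=
  Bool.rec (motive := fun _ => Bool) (dM_8 j z1 z2 u) (dM_11 j z1 z2 u) (Nat.ble (nat_lit 56) j)
noncomputable def dM_13 (j z1 z2 u : ℕ) : Bool :=
  Bool.rec (motive := fun _ => Bool) (Bool.rec (motive := fun _ => Bool) (mRel MG [T_e, T_e, T_e] [T_ei, T_ei] M (Nat.sub (MG u) (Nat.mod (MG u) M)) (nat_lit 40) z1 u (Nat.mod (MG u) M)) (Bool.rec (motive := fun _ => Bool) (mRel MG [T_e, T_bi, T_ci, T_bi, T_f, T_b, T_ci] [T_fi, T_ei] M (Nat.sub (MG u) (Nat.mod (MG u) M)) (nat_lit 40) z1 u (Nat.mod (MG u) M)) (mRel MG [T_b, T_ci, T_e, T_f, T_e, T_bi] [T_fi, T_b, T_c] M (Nat.sub (MG u) (Nat.mod (MG u) M)) (nat_lit 40) z1 u (Nat.mod (MG u) M)) (Nat.ble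 (nat_lit 71) j)) (Nat.ble (nat_lit 70) j)) (Bool.rec (motive := fun _ => Bool) (mRel MG [T_bi, T_e, T_b, T_ei, T_bi, T_c] [T_e, T_fi, T_ei, T_f] M (Nat.sub (MG u) (Nat.mod (MG u) M)) (nat_lit 40) z1 u (Nat.mod (MG u) M)) (Bool.rec (motive := fun _ => Bool) (mRel MG [T_di, T_ei, T_d] [T_fi] M (Nat.sub (MG u) (Nat.mod (MG u) M)) (nat_lit 40) z1 u (Nat.mod (MG u) M)) (mRel MG [T_di, T_e, T_d] [T_f] M (Nat.sub (MG u) (Nat.mod (MG u) M)) (nat_lit 40) z1 u (Nat.mod (MG u) M)) (Nat.ble (nat_lit 74) j)) (Nat.ble (nat_lit 73) j)) (Nat.ble (nat_lit 72) j)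
noncomputable def dM_14 (j z1 z2 u : ℕ) : Bool :=
  Bool.rec (motive := fun _ => Bool) (Bool.rec (motive := fun _ => Bool) (mRel MG [T_ei, T_d, T_f] [T_d] M (Nat.sub (MG u) (Nat.mod (MG u) M)) (nat_lit 40) z1 u (Nat.mod (MG u) M)) (Bool.rec (motive := fun _ => Bool) (mRel MG [T_bi, T_fi, T_b, T_c, T_b, T_ei, T_fi] [T_ci, T_e] M (Nat.sub (MG u) (Nat.mod (MG u) M)) (nat_lit 40) z1 u (Nat.mod (MG u) M)) (mRel MG [T_di, T_b] [T_c, T_di] M (Nat.sub (MG u) (Nat.mod (MG u) M)) (nat_lit 40) z1 u (Nat.mod (MG u) M)) (Nat.ble (nat_lit 77) j)) (Nat.ble (nat_lit 76) j)) (Bool.rec (motive := fun _ => Bool) (Bool.rec (motive := fun _ => Bool) (mRel MG [T_di, T_ei] [T_fi, T_di] M (Nat.sub (MG u) (Nat.mod (MG u) M)) (nat_lit 40) z1 u (Nat.mod (MG u) M)) (mRel MG [T_e, T_bi, T_ci, T_bi, T_f, T_b, T_ci, T_e] [T_fi] M (Nat.sub (MG u) (Nat.mod (MG u)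 M)) (nat_lit 40) z1 u (Nat.mod (MG u) M)) (Nat.ble (nat_lit 79) j)) (Bool.rec (motive := fun _ => Bool) (mRel MG [T_f, T_di] [T_di, T_e] M (Nat.sub (MG u) (Nat.mod (MG u) M)) (nat_lit 40) z1 u (Nat.mod (MG u) M)) (mRel MG [T_fi, T_b, T_fi, T_ei, T_ei, T_f] [T_c, T_bi, T_ci, T_ei] M (Nat.sub (MG u) (Nat.mod (MG u) M)) (nat_lit 40) z1 u (Nat.mod (MG u) M)) (Nat.ble (nat_lit 81) j)) (Nat.ble (nat_lit 80) j)) (Nat.ble (nat_lit 78) j)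
noncomputable def dM_15 (j z1 z2 u : ℕ) : Bool :=
  Bool.rec (motive := fun _ => Bool) (dM_13 j z1 z2 u) (dM_14 j z1 z2 u) (Nat.ble (nat_lit 75) j)
noncomputable def dM_16 (j z1 z2 u : ℕ) : Bool :=
  Bool.rec (motive := fun _ => Bool) (Bool.rec (motive := fun _ => Bool) (Bool.rec (motive := fun _ => Bool) (mRel MG [T_ei, T_fi, T_ei, T_c] [T_bi, T_ci, T_bi, T_f, T_b] M (Nat.sub (MG u) (Nat.mod (MG u) M)) (nat_lit 40) z1 u (Nat.mod (MG u) M)) (mRel MG [T_ci, T_fi] [T_e, T_fi, T_fi, T_c, T_e, T_c, T_fi, T_ci] M (Nat.sub (MG u) (Nat.mod (MG u) M)) (nat_lit 40) z1 u (Nat.mod (MG u) M)) (Nat.ble (nat_lit 83) j)) (Bool.rec (motive := fun _ => Bool) (mRel MG [T_ei, T_c] [T_bi, T_f, T_ci, T_e, T_b, T_e, T_fi, T_b] M (Nat.sub (MG u) (Nat.mod (MG u) M)) (nat_lit 40) z1 u (Nat.mod (MG u) M)) (Bool.rec (motive := fun _ => Bool) (mRel MG [T_e,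 T_e, T_bi, T_e] [T_bi, T_ei, T_b, T_ei, T_ei, T_bi] M (Nat.sub (MG u) (Nat.mod (MG u) M)) (nat_lit 40) z1 u (Nat.mod (MG u) M)) (mRel MG [T_bi, T_c] [T_e, T_bi, T_ei, T_b, T_e, T_fi, T_ei, T_f] M (Nat.sub (MG u) (Nat.mod (MG u) M)) (nat_lit 40) z1 u (Nat.mod (MG u) M)) (Nat.ble (nat_lit 86) j)) (Nat.ble (nat_lit 85) j)) (Nat.ble (nat_lit 84) j)) (Bool.rec (motive := fun _ => Bool) (Bool.rec (motive := fun _ => Bool) (mRel MG [T_c, T_bi, T_c, T_e, T_f, T_c, T_e, T_b] [T_fi, T_c] M (Nat.sub (MG u) (Nat.mod (MG u) M)) (nat_lit 40) z1 u (Nat.mod (MG u) M)) (Bool.rec (motive := fun _ => Bool) (mRel MG [T_ei, T_ei, T_f, T_e] [T_f, T_bi, T_f, T_c, T_bi, T_ci] M (Nat.sub (MG u) (Nat.mod (MG u) M)) (nat_lit 40) z1 u (Nat.mod (MG u) M)) (mRel MG [T_e, T_e] [T_b, T_ei, T_bi, T_ei, T_ei, T_b, T_ei, T_bi] M (Nat.sub (MG u) (Nat.mod (MG u) M))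 (nat_lit 40) z1 u (Nat.mod (MG u) M)) (Nat.ble (nat_lit 89) j)) (Nat.ble (nat_lit 88) j)) (Bool.rec (motive := fun _ => Bool) (Bool.rec (motive := fun _ => Bool) (mRel MG [T_fi, T_b, T_c] [T_b, T_ci, T_e, T_f, T_e, T_bi] M (Nat.sub (MG u) (Nat.mod (MG u) M)) (nat_lit 40) z1 u (Nat.mod (MG u) M)) (mRel MG [T_e, T_bi, T_fi, T_e, T_bi, T_e, T_bi, T_fi, T_e] [T_b] M (Nat.sub (MG u) (Nat.mod (MG u) M)) (nat_lit 40) z1 u (Nat.mod (MG u) M)) (Nat.ble (nat_lit 91) j)) (Bool.rec (motive := fun _ => Bool) (mRel MG [T_ei, T_bi, T_ei] [T_e, T_fi, T_fi, T_ci, T_fi, T_c, T_bi] M (Nat.sub (MG u) (Nat.mod (MG u) M)) (nat_lit 40) z1 u (Nat.mod (MG u) M)) (mRel MG [T_ci, T_e, T_f, T_e, T_bi, T_ci] [T_bi, T_fi, T_b] M (Nat.sub (MG u) (Nat.mod (MG u) M)) (nat_lit 40) z1 u (Nat.mod (MG u) M)) (Nat.ble (nat_lit 93) j)) (Nat.ble (nat_lit 92) j)) (Nat.ble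 (nat_lit 90) j)) (Nat.ble (nat_lit 87) j)
noncomputable def dM_17 (j z1 z2 u : ℕ) : Bool :=
  Bool.rec (motive := fun _ => Bool) (Bool.rec (motive := fun _ => Bool) (mRel MG [T_e, T_f, T_e] [T_c, T_bi, T_fi, T_b, T_c, T_b] M (Nat.sub (MG u) (Nat.mod (MG u) M)) (nat_lit 40) z1 u (Nat.mod (MG u) M)) (Bool.rec (motive := fun _ => Bool) (mRel MG [T_ei, T_bi, T_ci, T_fi] [T_b, T_f, T_c, T_ei, T_f, T_b] M (Nat.sub (MG u) (Nat.mod (MG u) M)) (nat_lit 40) z1 u (Nat.mod (MG u) M)) (mRel MG [T_ei, T_c, T_bi] [T_f, T_e, T_bi, T_ci, T_bi, T_f] M (Nat.sub (MG u) (Nat.mod (MG u) M)) (nat_lit 40) z1 u (Nat.mod (MG u) M)) (Nat.ble (nat_lit 96) j)) (Nat.ble (nat_lit 95) j)) (Bool.rec (motive := fun _ => Bool) (Bool.rec (motive := fun _ => Bool) (mRel MG [T_ci, T_e, T_c, T_f, T_c, T_fi, T_ei, T_ei, T_ci, T_f] [] M (Nat.sub (MG u) (Nat.mod (MG u) M))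 (nat_lit 40) z1 u (Nat.mod (MG u) M)) (mRel MG [T_fi, T_fi, T_ci] [T_ci, T_f, T_c, T_f, T_f, T_ci, T_f] M (Nat.sub (MG u) (Nat.mod (MG u) M)) (nat_lit 40) z1 u (Nat.mod (MG u) M)) (Nat.ble (nat_lit 98) j)) (Bool.rec (motive := fun _ => Bool) (mRel MG [T_e, T_b, T_e, T_fi, T_b, T_ci, T_e, T_bi] [T_c, T_fi] M (Nat.sub (MG u) (Nat.mod (MG u) M)) (nat_lit 40) z1 u (Nat.mod (MG u) M)) (mRel MG [T_fi, T_e, T_e, T_f, T_bi, T_f, T_c, T_bi] [T_e, T_c] M (Nat.sub (MG u) (Nat.mod (MG u) M)) (nat_lit 40) z1 u (Nat.mod (MG u) M)) (Nat.ble (nat_lit 100) j)) (Nat.ble (nat_lit 99) j)) (Nat.ble (nat_lit 97) j)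
noncomputable def dM_18 (j z1 z2 u : ℕ) : Bool :=
  Bool.rec (motive := fun _ => Bool) (Bool.rec (motive := fun _ => Bool) (mRel MG [T_ci, T_f, T_f, T_ei, T_ci] [T_e, T_c, T_fi, T_ci, T_f] M (Nat.sub (MG u) (Nat.mod (MG u) M)) (nat_lit 40) z1 u (Nat.mod (MG u) M)) (Bool.rec (motive := fun _ => Bool) (mRel MG [T_b, T_fi, T_ei, T_ei, T_f, T_e, T_c] [T_f, T_c, T_bi] M (Nat.sub (MG u) (Nat.mod (MG u) M)) (nat_lit 40) z1 u (Nat.mod (MG u) M)) (mRel MG [T_f, T_ei, T_ci, T_fi, T_c, T_f, T_ci, T_ei, T_ci] [T_fi] M (Nat.sub (MG u) (Nat.mod (MG u) M)) (nat_lit 40) z1 u (Nat.mod (MG u) M)) (Nat.ble (nat_lit 103) j)) (Nat.ble (nat_lit 102) j)) (Bool.rec (motive := fun _ => Bool) (Bool.rec (motive := fun _ => Bool) (mRel MG [T_f, T_e, T_c, T_b] [T_e, T_e, T_f, T_bi, T_f, T_c] M (Nat.sub (MG u) (Nat.mod (MG u) M)) (nat_lit 40) z1 u (Nat.mod (MG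 u) M)) (mRel MG [T_ci, T_f, T_f] [T_e, T_c, T_fi, T_ci, T_f, T_c, T_e] M (Nat.sub (MG u) (Nat.mod (MG u) M)) (nat_lit 40) z1 u (Nat.mod (MG u) M)) (Nat.ble (nat_lit 105) j)) (Bool.rec (motive := fun _ => Bool) (mRel MG [T_ei, T_f, T_ci] [T_f, T_ei, T_bi, T_e, T_b, T_ei, T_bi] M (Nat.sub (MG u) (Nat.mod (MG u) M)) (nat_lit 40) z1 u (Nat.mod (MG u) M)) (mRel MG [T_f, T_ci, T_e] [T_c, T_e, T_e, T_f, T_ci, T_fi, T_ci] M (Nat.sub (MG u) (Nat.mod (MG u) M)) (nat_lit 40) z1 u (Nat.mod (MG u) M)) (Nat.ble (nat_lit 107) j)) (Nat.ble (nat_lit 106) j)) (Nat.ble (nat_lit 104) j)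
noncomputable def dM_19 (j z1 z2 u : ℕ) : Bool :=
  Bool.rec (motive := fun _ => Bool) (dM_17 j z1 z2 u) (dM_18 j z1 z2 u) (Nat.ble (nat_lit 101) j)
noncomputable def dM_20 (j z1 z2 u : ℕ) : Bool :=
  Bool.rec (motive := fun _ => Bool) (dM_16 j z1 z2 u) (dM_19 j z1 z2 u) (Nat.ble (nat_lit 94) j)
noncomputable def dM_21 (j z1 z2 u : ℕ) : Bool :=
  Bool.rec (motive := fun _ => Bool) (dM_15 j z1 z2 u) (dM_20 j z1 z2 u) (Nat.ble (nat_lit 82) j)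
noncomputable def dM_22 (j z1 z2 u : ℕ) : Bool :=
  Bool.rec (motive := fun _ => Bool) (dM_12 j z1 z2 u) (dM_21 j z1 z2 u) (Nat.ble (nat_lit 69) j)
noncomputable def dM_23 (j z1 z2 u : ℕ) : Bool :=
  Bool.rec (motive := fun _ => Bool) (dM_5 j z1 z2 u) (dM_22 j z1 z2 u) (Nat.ble (nat_lit 43) j)
noncomputable def dM_24 (j z1 z2 u : ℕ) : Bool :=
  Bool.rec (motive := fun _ => Bool) (Bool.rec (motive := fun _ => Bool) (mRel MG [T_bi, T_bi] [T_b] M (Nat.sub (MG u) (Nat.mod (MG u) M)) (nat_lit 40) z1 u (Nat.mod (MG u) M)) (Bool.rec (motive := fun _ => Bool) (mRel MG [T_bi, T_fi, T_e, T_bi, T_e, T_bi] [T_ei, T_b, T_ei, T_f] M (Nat.sub (MG u) (Nat.mod (MG u) M)) (nat_lit 40) z1 u (Nat.mod (MG u) M)) (mRel MG [T_f, T_ei, T_ci] [T_fi, T_c, T_e, T_c, T_fi, T_ci, T_f] M (Nat.sub (MG u) (Nat.mod (MG u) M)) (nat_lit 40) z1 u (Nat.mod (MG u) M))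 (Nat.ble (nat_lit 110) j)) (Nat.ble (nat_lit 109) j)) (Bool.rec (motive := fun _ => Bool) (mRel MG [T_fi, T_ei, T_ei, T_ci, T_f, T_ci, T_e] [T_ci, T_fi, T_ci] M (Nat.sub (MG u) (Nat.mod (MG u) M)) (nat_lit 40) z1 u (Nat.mod (MG u) M)) (Bool.rec (motive := fun _ => Bool) (mRel MG [T_c, T_b, T_e, T_b, T_f, T_c, T_ei] [T_fi, T_bi, T_fi] M (Nat.sub (MG u) (Nat.mod (MG u) M)) (nat_lit 40) z1 u (Nat.mod (MG u) M)) (mRel MG [T_e, T_fi, T_fi, T_ci, T_fi, T_c] [T_ei, T_bi, T_ei, T_b] M (Nat.sub (MG u) (Nat.mod (MG u) M)) (nat_lit 40) z1 u (Nat.mod (MG u) M)) (Nat.ble (nat_lit 113) j)) (Nat.ble (nat_lit 112) j)) (Nat.ble (nat_lit 111) j)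
noncomputable def dM_25 (j z1 z2 u : ℕ) : Bool :=
  Bool.rec (motive := fun _ => Bool) (Bool.rec (motive := fun _ => Bool) (mRel MG [T_e] [T_bi, T_ei, T_ei, T_b, T_ei, T_bi, T_ei, T_ei, T_b] M (Nat.sub (MG u) (Nat.mod (MG u) M)) (nat_lit 40) z1 u (Nat.mod (MG u) M)) (Bool.rec (motive := fun _ => Bool) (mRel MG [T_ci, T_fi, T_bi, T_ei] [T_ei, T_f, T_b, T_f, T_c, T_b] M (Nat.sub (MG u) (Nat.mod (MG u) M)) (nat_lit 40) z1 u (Nat.mod (MG u) M)) (mRel MG [T_f, T_f, T_ci] [T_ci, T_fi, T_c, T_fi, T_fi, T_ci, T_fi] M (Nat.sub (MG u) (Nat.mod (MG u) M)) (nat_lit 40) z1 u (Nat.mod (MG u) M)) (Nat.ble (nat_lit 116) j)) (Nat.ble (nat_lit 115) j)) (Bool.rec (motive := fun _ => Bool) (Bool.rec (motive := fun _ => Bool) (mRel MG [T_bi, T_e, T_b, T_ei, T_bi, T_c, T_fi, T_e] [T_e, T_fi] M (Nat.sub (MG u) (Nat.mod (MG u) M)) (nat_lit 40) z1 u (Nat.mod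 (MG u) M)) (mRel MG [T_e, T_e, T_f, T_bi, T_f] [T_f, T_e, T_c, T_b, T_ci] M (Nat.sub (MG u) (Nat.mod (MG u) M)) (nat_lit 40) z1 u (Nat.mod (MG u) M)) (Nat.ble (nat_lit 118) j)) (Bool.rec (motive := fun _ => Bool) (mRel MG [T_f, T_f, T_f] [T_fi, T_fi] M (Nat.sub (MG u) (Nat.mod (MG u) M)) (nat_lit 40) z1 u (Nat.mod (MG u) M)) (mRel MG [T_bi, T_ci, T_bi] [T_ei, T_fi, T_ei, T_c, T_bi, T_fi] M (Nat.sub (MG u) (Nat.mod (MG u) M)) (nat_lit 40) z1 u (Nat.mod (MG u) M)) (Nat.ble (nat_lit 120) j)) (Nat.ble (nat_lit 119) j)) (Nat.ble (nat_lit 117) j)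
noncomputable def dM_26 (j z1 z2 u : ℕ) : Bool :=
  Bool.rec (motive := fun _ => Bool) (dM_24 j z1 z2 u) (dM_25 j z1 z2 u) (Nat.ble (nat_lit 114) j)
noncomputable def dM_27 (j z1 z2 u : ℕ) : Bool :=
  Bool.rec (motive := fun _ => Bool) (Bool.rec (motive := fun _ => Bool) (mRel MG [T_e, T_e, T_b] [T_b, T_ei, T_bi, T_ei, T_ei, T_b, T_ei] M (Nat.sub (MG u) (Nat.mod (MG u) M)) (nat_lit 40) z1 u (Nat.mod (MG u) M)) (Bool.rec (motive := fun _ => Bool) (mRel MG [T_fi, T_ei, T_ei, T_f, T_e, T_c, T_b] [T_bi, T_f, T_c] M (Nat.sub (MG u) (Nat.mod (MG u) M)) (nat_lit 40) z1 u (Nat.mod (MG u) M)) (mRel MG [T_b, T_c, T_b, T_ei] [T_f, T_b, T_ci, T_e, T_f] M (Nat.sub (MG u) (Nat.mod (MG u) M)) (nat_lit 40) z1 u (Nat.mod (MG u) M)) (Nat.ble (nat_lit 123) j)) (Nat.ble (nat_lit 122) j)) (Bool.rec (motive := fun _ => Bool) (mRel MG [T_ci, T_b, T_ci]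 [T_e, T_f, T_c, T_e, T_b, T_ci, T_f] M (Nat.sub (MG u) (Nat.mod (MG u) M)) (nat_lit 40) z1 u (Nat.mod (MG u) M)) (Bool.rec (motive := fun _ => Bool) (mRel MG [T_bi, T_ci, T_bi, T_f] [T_ei, T_fi, T_ei, T_c, T_bi] M (Nat.sub (MG u) (Nat.mod (MG u) M)) (nat_lit 40) z1 u (Nat.mod (MG u) M)) (mRel MG [T_c, T_e, T_f, T_c, T_e, T_b, T_ci, T_f, T_c] [T_b] M (Nat.sub (MG u) (Nat.mod (MG u) M)) (nat_lit 40) z1 u (Nat.mod (MG u) M)) (Nat.ble (nat_lit 126) j)) (Nat.ble (nat_lit 125) j)) (Nat.ble (nat_lit 124) j)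
noncomputable def dM_28 (j z1 z2 u : ℕ) : Bool :=
  Bool.rec (motive := fun _ => Bool) (Bool.rec (motive := fun _ => Bool) (mRel MG [T_b, T_e, T_e, T_fi] [T_ei, T_b, T_ci, T_f, T_c, T_f] M (Nat.sub (MG u) (Nat.mod (MG u) M)) (nat_lit 40) z1 u (Nat.mod (MG u) M)) (Bool.rec (motive := fun _ => Bool) (mRel MG [T_fi, T_bi, T_ei, T_bi, T_ci, T_fi] [T_c, T_ei, T_f, T_b] M (Nat.sub (MG u) (Nat.mod (MG u) M)) (nat_lit 40) z1 u (Nat.mod (MG u) M)) (mRel MG [T_e, T_e, T_f, T_bi, T_f, T_c, T_bi] [T_f, T_e, T_c] M (Nat.sub (MG u) (Nat.mod (MG u) M)) (nat_lit 40) z1 u (Nat.mod (MG u) M)) (Nat.ble (nat_lit 129) j)) (Nat.ble (nat_lit 128) j)) (Bool.rec (motive := fun _ => Bool) (Bool.rec (motive := fun _ => Bool) (mRel MG [T_b, T_ei, T_bi] [T_ei, T_b, T_e, T_fi, T_ei, T_f, T_ci] M (Nat.sub (MG u) (Nat.mod (MG u) M)) (nat_lit 40) z1 u (Nat.mod (MG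 u) M)) (mRel MG [T_c, T_b, T_e, T_b, T_f, T_c, T_ei, T_f, T_b] [T_fi] M (Nat.sub (MG u) (Nat.mod (MG u) M)) (nat_lit 40) z1 u (Nat.mod (MG u) M)) (Nat.ble (nat_lit 131) j)) (Bool.rec (motive := fun _ => Bool) (mRel MG [T_e, T_bi, T_e, T_bi, T_fi, T_e, T_bi] [T_f, T_b, T_ei] M (Nat.sub (MG u) (Nat.mod (MG u) M)) (nat_lit 40) z1 u (Nat.mod (MG u) M)) (mRel MG [T_fi, T_e, T_f] [T_ci, T_b, T_e, T_bi, T_ei, T_b, T_e] M (Nat.sub (MG u) (Nat.mod (MG u) M)) (nat_lit 40) z1 u (Nat.mod (MG u) M)) (Nat.ble (nat_lit 133) j)) (Nat.ble (nat_lit 132) j)) (Nat.ble (nat_lit 130) j)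
noncomputable def dM_29 (j z1 z2 u : ℕ) : Bool :=
  Bool.rec (motive := fun _ => Bool) (dM_27 j z1 z2 u) (dM_28 j z1 z2 u) (Nat.ble (nat_lit 127) j)
noncomputable def dM_30 (j z1 z2 u : ℕ) : Bool :=
  Bool.rec (motive := fun _ => Bool) (dM_26 j z1 z2 u) (dM_29 j z1 z2 u) (Nat.ble (nat_lit 121) j)
noncomputable def dM_31 (j z1 z2 u : ℕ) : Bool :=
  Bool.rec (motive := fun _ => Bool) (Bool.rec (motive := fun _ => Bool) (mRel MG [T_f, T_b, T_ci] [T_b, T_c, T_b, T_ei, T_fi, T_ei] M (Nat.sub (MG u) (Nat.mod (MG u) M)) (nat_lit 40) z1 u (Nat.mod (MG u) M)) (Bool.rec (motive := fun _ => Bool) (mRel MG [T_ei, T_b, T_ei, T_ei, T_bi, T_ei] [T_b, T_e, T_e, T_bi] M (Nat.sub (MG u) (Nat.mod (MG u) M)) (nat_lit 40) z1 u (Nat.mod (MG u) M)) (mRel MG [T_e, T_e, T_f, T_ci, T_fi, T_ci, T_ei, T_c, T_fi] [T_ci] M (Nat.sub (MG u) (Nat.mod (MG u) M)) (nat_lit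 40) z1 u (Nat.mod (MG u) M)) (Nat.ble (nat_lit 136) j)) (Nat.ble (nat_lit 135) j)) (Bool.rec (motive := fun _ => Bool) (mRel MG [T_ci, T_fi, T_bi, T_ei, T_bi, T_ci, T_fi, T_bi] [T_ei, T_f] M (Nat.sub (MG u) (Nat.mod (MG u) M)) (nat_lit 40) z1 u (Nat.mod (MG u) M)) (Bool.rec (motive := fun _ => Bool) (mRel MG [T_fi, T_e, T_bi, T_e, T_bi, T_fi, T_e] [T_b, T_ei, T_b] M (Nat.sub (MG u) (Nat.mod (MG u) M)) (nat_lit 40) z1 u (Nat.mod (MG u) M)) (mRel MG [T_ei, T_c, T_bi, T_f, T_ei] [T_bi, T_f, T_ci, T_e, T_b] M (Nat.sub (MG u) (Nat.mod (MG u) M)) (nat_lit 40) z1 u (Nat.mod (MG u) M)) (Nat.ble (nat_lit 139) j)) (Nat.ble (nat_lit 138) j)) (Nat.ble (nat_lit 137) j)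
noncomputable def dM_32 (j z1 z2 u : ℕ) : Bool :=
  Bool.rec (motive := fun _ => Bool) (Bool.rec (motive := fun _ => Bool) (mRel MG [T_ei, T_b, T_ci, T_f, T_c] [T_b, T_e, T_e, T_fi, T_fi] M (Nat.sub (MG u) (Nat.mod (MG u) M)) (nat_lit 40) z1 u (Nat.mod (MG u) M)) (Bool.rec (motive := fun _ => Bool) (mRel MG [T_ei, T_c, T_fi, T_b, T_ei, T_c, T_bi, T_f] [T_b, T_e] M (Nat.sub (MG u) (Nat.mod (MG u) M)) (nat_lit 40) z1 u (Nat.mod (MG u) M)) (mRel MG [T_b, T_ci, T_e] [T_fi, T_b, T_c, T_b, T_ei, T_fi] M (Nat.sub (MG u) (Nat.mod (MG u) M)) (nat_lit 40) z1 u (Nat.mod (MG u) M)) (Nat.ble (nat_lit 142) j)) (Nat.ble (nat_lit 141) j)) (Bool.rec (motive := fun _ => Bool) (Bool.rec (motive := fun _ => Bool) (mRel MG [T_bi, T_c, T_fi, T_e, T_f, T_ei] [T_e, T_bi, T_ei, T_b] M (Nat.sub (MG u) (Nat.mod (MG u) M)) (nat_lit 40) z1 u (Nat.mod (MG u) M))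 (mRel MG [T_e, T_b, T_ei, T_bi, T_c, T_fi, T_e] [T_b, T_e, T_fi] M (Nat.sub (MG u) (Nat.mod (MG u) M)) (nat_lit 40) z1 u (Nat.mod (MG u) M)) (Nat.ble (nat_lit 144) j)) (Bool.rec (motive := fun _ => Bool) (mRel MG [T_b, T_ci, T_fi, T_c, T_bi, T_ei] [T_c, T_e, T_f, T_c] M (Nat.sub (MG u) (Nat.mod (MG u) M)) (nat_lit 40) z1 u (Nat.mod (MG u) M)) (mRel MG [T_e, T_b, T_ci] [T_ci, T_fi, T_ei, T_ci, T_b, T_ci, T_fi] M (Nat.sub (MG u) (Nat.mod (MG u) M)) (nat_lit 40) z1 u (Nat.mod (MG u) M)) (Nat.ble (nat_lit 146) j)) (Nat.ble (nat_lit 145) j)) (Nat.ble (nat_lit 143) j)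
noncomputable def dM_33 (j z1 z2 u : ℕ) : Bool :=
  Bool.rec (motive := fun _ => Bool) (dM_31 j z1 z2 u) (dM_32 j z1 z2 u) (Nat.ble (nat_lit 140) j)
noncomputable def dM_34 (j z1 z2 u : ℕ) : Bool :=
  Bool.rec (motive := fun _ => Bool) (Bool.rec (motive := fun _ => Bool) (mRel MG [T_b, T_e, T_bi, T_e, T_e, T_b, T_e] [T_ei, T_ei, T_b] M (Nat.sub (MG u) (Nat.mod (MG u) M)) (nat_lit 40) z1 u (Nat.mod (MG u) M)) (Bool.rec (motive := fun _ => Bool) (mRel MG [T_b, T_e, T_e, T_bi, T_e, T_b, T_e] [T_ei, T_b, T_ei] M (Nat.sub (MG u) (Nat.mod (MG u) M)) (nat_lit 40) z1 u (Nat.mod (MG u) M)) (mRel MG [T_ci, T_fi, T_c, T_fi, T_fi] [T_f, T_f, T_ci, T_f, T_c] M (Nat.sub (MG u) (Nat.mod (MG u) M)) (nat_lit 40) z1 u (Nat.mod (MG u) M)) (Nat.ble (nat_lit 149) j)) (Nat.ble (nat_lit 148) j)) (Bool.rec (motive := fun _ => Bool) (mRel MG [T_fi, T_ei,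 T_ci, T_b] [T_c, T_e, T_b, T_ci, T_f, T_c] M (Nat.sub (MG u) (Nat.mod (MG u) M)) (nat_lit 40) z1 u (Nat.mod (MG u) M)) (Bool.rec (motive := fun _ => Bool) (mRel MG [T_b] [T_fi, T_e, T_bi, T_e, T_bi, T_fi, T_e, T_bi, T_e] M (Nat.sub (MG u) (Nat.mod (MG u) M)) (nat_lit 40) z1 u (Nat.mod (MG u) M)) (mRel MG [T_b, T_c, T_b, T_ei, T_fi, T_ei, T_c] [T_f, T_b] M (Nat.sub (MG u) (Nat.mod (MG u) M)) (nat_lit 40) z1 u (Nat.mod (MG u) M)) (Nat.ble (nat_lit 152) j)) (Nat.ble (nat_lit 151) j)) (Nat.ble (nat_lit 150) j)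
noncomputable def dM_35 (j z1 z2 u : ℕ) : Bool :=
  Bool.rec (motive := fun _ => Bool) (Bool.rec (motive := fun _ => Bool) (mRel MG [T_c, T_e, T_f, T_c, T_e, T_b, T_ci, T_f, T_c, T_bi] [] M (Nat.sub (MG u) (Nat.mod (MG u) M)) (nat_lit 40) z1 u (Nat.mod (MG u) M)) (Bool.rec (motive := fun _ => Bool) (mRel MG [T_b, T_ei, T_b, T_ei, T_f] [T_fi, T_e, T_bi, T_e, T_bi] M (Nat.sub (MG u) (Nat.mod (MG u) M)) (nat_lit 40) z1 u (Nat.mod (MG u) M)) (mRel MG [T_c, T_bi, T_fi, T_b, T_c, T_b] [T_e, T_f, T_e] M (Nat.sub (MG u) (Nat.mod (MG u) M)) (nat_lit 40) z1 u (Nat.mod (MG u) M)) (Nat.ble (nat_lit 155) j)) (Nat.ble (nat_lit 154) j)) (Bool.rec (motive := fun _ => Bool) (Bool.rec (motive := fun _ => Bool) (mRel MG [T_e, T_fi, T_fi, T_c, T_e] [T_ci, T_fi, T_c, T_f, T_ci] M (Nat.sub (MG u) (Nat.mod (MG u) M)) (nat_lit 40) z1 u (Nat.mod (MG u) M))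 (mRel MG [T_fi, T_fi] [T_f, T_f, T_f] M (Nat.sub (MG u) (Nat.mod (MG u) M)) (nat_lit 40) z1 u (Nat.mod (MG u) M)) (Nat.ble (nat_lit 157) j)) (Bool.rec (motive := fun _ => Bool) (mRel MG [T_c, T_b, T_ei, T_fi, T_ei] [T_bi, T_f, T_b, T_ci] M (Nat.sub (MG u) (Nat.mod (MG u) M)) (nat_lit 40) z1 u (Nat.mod (MG u) M)) (mRel MG [T_f, T_ci, T_b, T_e, T_bi, T_ei, T_b, T_e] [T_e, T_f] M (Nat.sub (MG u) (Nat.mod (MG u) M)) (nat_lit 40) z1 u (Nat.mod (MG u) M)) (Nat.ble (nat_lit 159) j)) (Nat.ble (nat_lit 158) j)) (Nat.ble (nat_lit 156) j)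
noncomputable def dM_36 (j z1 z2 u : ℕ) : Bool :=
  Bool.rec (motive := fun _ => Bool) (dM_34 j z1 z2 u) (dM_35 j z1 z2 u) (Nat.ble (nat_lit 153) j)
noncomputable def dM_37 (j z1 z2 u : ℕ) : Bool :=
  Bool.rec (motive := fun _ => Bool) (dM_33 j z1 z2 u) (dM_36 j z1 z2 u) (Nat.ble (nat_lit 147) j)
noncomputable def dM_38 (j z1 z2 u : ℕ) : Bool :=
  Bool.rec (motive := fun _ => Bool) (dM_30 j z1 z2 u) (dM_37 j z1 z2 u) (Nat.ble (nat_lit 134) j)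
noncomputable def dM_39 (j z1 z2 u : ℕ) : Bool :=
  Bool.rec (motive := fun _ => Bool) (Bool.rec (motive := fun _ => Bool) (mRel MG [T_ci, T_ei, T_fi, T_e, T_e, T_f, T_bi] [T_b, T_ci, T_fi] M (Nat.sub (MG u) (Nat.mod (MG u) M)) (nat_lit 40) z1 u (Nat.mod (MG u) M)) (Bool.rec (motive := fun _ => Bool) (mRel MG [T_fi] [T_e, T_bi, T_ci, T_bi, T_f, T_b, T_ci, T_e] M (Nat.sub (MG u) (Nat.mod (MG u) M)) (nat_lit 40) z1 u (Nat.mod (MG u) M)) (mRel MG [T_c, T_fi, T_c, T_e, T_e, T_f, T_ci, T_fi] [T_e, T_c] M (Nat.sub (MG u) (Nat.mod (MG u) M)) (nat_lit 40) z1 u (Nat.mod (MG u) M)) (Nat.ble (nat_lit 162) j)) (Nat.ble (nat_lit 161) j)) (Bool.rec (motive := fun _ => Bool) (mRel MG [T_bi, T_f, T_ci, T_e, T_b, T_e] [T_ei, T_c, T_bi, T_f] M (Nat.sub (MG u) (Nat.mod (MG u) M)) (nat_lit 40) z1 u (Nat.mod (MG u) M)) (Bool.rec (motive := fun _ => Bool)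 (mRel MG [T_bi, T_f, T_ei, T_bi, T_ei] [T_ci, T_e, T_bi, T_f, T_ci] M (Nat.sub (MG u) (Nat.mod (MG u) M)) (nat_lit 40) z1 u (Nat.mod (MG u) M)) (mRel MG [T_ei, T_ei, T_bi] [T_bi, T_e, T_b, T_e, T_e, T_bi, T_e] M (Nat.sub (MG u) (Nat.mod (MG u) M)) (nat_lit 40) z1 u (Nat.mod (MG u) M)) (Nat.ble (nat_lit 165) j)) (Nat.ble (nat_lit 164) j)) (Nat.ble (nat_lit 163) j)
noncomputable def dM_40 (j z1 z2 u : ℕ) : Bool :=
  Bool.rec (motive := fun _ => Bool) (Bool.rec (motive := fun _ => Bool) (mRel MG [T_e, T_bi, T_ei, T_b, T_e, T_fi, T_ei] [T_bi, T_c, T_fi] M (Nat.sub (MG u) (Nat.mod (MG u) M)) (nat_lit 40) z1 u (Nat.mod (MG u) M)) (Bool.rec (motive := fun _ => Bool) (mRel MG [T_e] [T_f, T_ci, T_b, T_e, T_bi, T_ei, T_b, T_e, T_fi] M (Nat.sub (MG u) (Nat.mod (MG u) M)) (nat_lit 40) z1 u (Nat.mod (MG u) M)) (mRel MG [T_fi, T_c, T_bi, T_ei,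 T_ci, T_fi] [T_c, T_bi, T_c, T_e] M (Nat.sub (MG u) (Nat.mod (MG u) M)) (nat_lit 40) z1 u (Nat.mod (MG u) M)) (Nat.ble (nat_lit 168) j)) (Nat.ble (nat_lit 167) j)) (Bool.rec (motive := fun _ => Bool) (Bool.rec (motive := fun _ => Bool) (mRel MG [T_ei, T_ei] [T_e, T_e, T_e] M (Nat.sub (MG u) (Nat.mod (MG u) M)) (nat_lit 40) z1 u (Nat.mod (MG u) M)) (mRel MG [T_b, T_ei, T_f, T_b, T_ei, T_b, T_ei, T_f, T_b] [T_e] M (Nat.sub (MG u) (Nat.mod (MG u) M)) (nat_lit 40) z1 u (Nat.mod (MG u) M)) (Nat.ble (nat_lit 170) j)) (Bool.rec (motive := fun _ => Bool) (mRel MG [T_e, T_bi, T_e, T_bi, T_fi, T_e, T_bi, T_e, T_bi] [T_f] M (Nat.sub (MG u) (Nat.mod (MG u) M)) (nat_lit 40) z1 u (Nat.mod (MG u) M)) (mRel MG [T_ci, T_f, T_f, T_ei, T_ci, T_fi, T_c] [T_e, T_c, T_fi] M (Nat.sub (MG u) (Nat.mod (MG u) M)) (nat_lit 40) z1 u (Nat.mod (MG u) M)) (Nat.ble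 (nat_lit 172) j)) (Nat.ble (nat_lit 171) j)) (Nat.ble (nat_lit 169) j)
noncomputable def dM_41 (j z1 z2 u : ℕ) : Bool :=
  Bool.rec (motive := fun _ => Bool) (dM_39 j z1 z2 u) (dM_40 j z1 z2 u) (Nat.ble (nat_lit 166) j)
noncomputable def dM_42 (j z1 z2 u : ℕ) : Bool :=
  Bool.rec (motive := fun _ => Bool) (Bool.rec (motive := fun _ => Bool) (mRel MG [T_b, T_ci, T_e, T_f, T_e, T_bi, T_ci] [T_fi, T_b] M (Nat.sub (MG u) (Nat.mod (MG u) M)) (nat_lit 40) z1 u (Nat.mod (MG u) M)) (Bool.rec (motive := fun _ => Bool) (mRel MG [T_bi, T_e, T_e] [T_ei, T_bi, T_ei, T_ei, T_b, T_ei, T_bi] M (Nat.sub (MG u) (Nat.mod (MG u) M)) (nat_lit 40) z1 u (Nat.mod (MG u) M)) (mRel MG [T_b, T_ci, T_e, T_f] [T_fi, T_b, T_c, T_b, T_ei] M (Nat.sub (MG u) (Nat.mod (MG u) M)) (nat_lit 40) z1 u (Nat.mod (MG u) M)) (Nat.ble (nat_lit 175) j)) (Nat.ble (nat_lit 174)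 j)) (Bool.rec (motive := fun _ => Bool) (mRel MG [T_c, T_bi, T_ci, T_ei, T_fi] [T_fi, T_b, T_fi, T_ei, T_ei] M (Nat.sub (MG u) (Nat.mod (MG u) M)) (nat_lit 40) z1 u (Nat.mod (MG u) M)) (Bool.rec (motive := fun _ => Bool) (mRel MG [T_f, T_f] [T_fi, T_fi, T_fi] M (Nat.sub (MG u) (Nat.mod (MG u) M)) (nat_lit 40) z1 u (Nat.mod (MG u) M)) (mRel MG [T_ei, T_b, T_e, T_fi] [T_b, T_ei, T_bi, T_c, T_fi, T_e] M (Nat.sub (MG u) (Nat.mod (MG u) M)) (nat_lit 40) z1 u (Nat.mod (MG u) M)) (Nat.ble (nat_lit 178) j)) (Nat.ble (nat_lit 177) j)) (Nat.ble (nat_lit 176) j)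
noncomputable def dM_43 (j z1 z2 u : ℕ) : Bool :=
  Bool.rec (motive := fun _ => Bool) (Bool.rec (motive := fun _ => Bool) (mRel MG [T_ei, T_fi, T_ei, T_c, T_bi, T_fi] [T_bi, T_ci, T_bi] M (Nat.sub (MG u) (Nat.mod (MG u) M)) (nat_lit 40) z1 u (Nat.mod (MG u) M)) (Bool.rec (motive := fun _ => Bool) (mRel MG [T_b, T_f, T_c, T_b, T_e, T_b, T_f] [T_fi, T_e, T_ci] M (Nat.sub (MG u) (Nat.mod (MG u) M)) (nat_lit 40) z1 u (Nat.mod (MG u) M)) (mRel MG [T_fi, T_ei] [T_e, T_bi, T_ci, T_bi, T_f, T_b, T_ci] M (Nat.sub (MG u) (Nat.mod (MG u) M)) (nat_lit 40) z1 u (Nat.mod (MG u) M)) (Nat.ble (nat_lit 181) j)) (Nat.ble (nat_lit 180) j)) (Bool.rec (motive := fun _ => Bool) (Bool.rec (motive := fun _ => Bool) (mRel MG [T_bi, T_fi, T_e, T_bi, T_e, T_bi, T_fi] [T_ei, T_b, T_ei] M (Nat.sub (MG u) (Nat.mod (MG u) M)) (nat_lit 40) z1 u (Nat.mod (MG u)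 M)) (mRel MG [T_b, T_ei] [T_ci, T_bi, T_f, T_b, T_ci, T_e, T_f] M (Nat.sub (MG u) (Nat.mod (MG u) M)) (nat_lit 40) z1 u (Nat.mod (MG u) M)) (Nat.ble (nat_lit 183) j)) (Bool.rec (motive := fun _ => Bool) (mRel MG [T_e, T_fi, T_fi, T_c, T_e, T_c] [T_ci, T_fi, T_c, T_f] M (Nat.sub (MG u) (Nat.mod (MG u) M)) (nat_lit 40) z1 u (Nat.mod (MG u) M)) (mRel MG [T_b, T_ei, T_fi, T_ei, T_c, T_bi, T_fi] [T_ci, T_bi] M (Nat.sub (MG u) (Nat.mod (MG u) M)) (nat_lit 40) z1 u (Nat.mod (MG u) M)) (Nat.ble (nat_lit 185) j)) (Nat.ble (nat_lit 184) j)) (Nat.ble (nat_lit 182) j)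
noncomputable def dM_44 (j z1 z2 u : ℕ) : Bool :=
  Bool.rec (motive := fun _ => Bool) (dM_42 j z1 z2 u) (dM_43 j z1 z2 u) (Nat.ble (nat_lit 179) j)
noncomputable def dM_45 (j z1 z2 u : ℕ) : Bool :=
  Bool.rec (motive := fun _ => Bool) (dM_41 j z1 z2 u) (dM_44 j z1 z2 u) (Nat.ble (nat_lit 173) j)
noncomputable def dM_46 (j z1 z2 u : ℕ) : Bool :=
  Bool.rec (motive := fun _ => Bool) (Bool.rec (motive := fun _ => Bool) (mRel MG [T_ei, T_bi, T_ei, T_b, T_ci, T_f, T_c] [T_e, T_fi, T_fi] M (Nat.sub (MG u) (Nat.mod (MG u) M)) (nat_lit 40) z1 u (Nat.mod (MG u) M)) (Bool.rec (motive := fun _ => Bool) (mRel MG [T_b, T_f, T_c, T_b, T_e, T_b, T_f, T_c, T_ei] [T_fi] M (Nat.sub (MG u) (Nat.mod (MG u) M)) (nat_lit 40) z1 u (Nat.mod (MG u) M)) (mRel MG [T_e, T_e, T_f, T_ci, T_fi, T_ci] [T_ci, T_f, T_ci, T_e] M (Nat.sub (MG u) (Nat.mod (MG u) M))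 (nat_lit 40) z1 u (Nat.mod (MG u) M)) (Nat.ble (nat_lit 188) j)) (Nat.ble (nat_lit 187) j)) (Bool.rec (motive := fun _ => Bool) (mRel MG [T_e, T_b, T_f, T_c, T_ei, T_f, T_b] [T_bi, T_ci, T_fi] M (Nat.sub (MG u) (Nat.mod (MG u) M)) (nat_lit 40) z1 u (Nat.mod (MG u) M)) (Bool.rec (motive := fun _ => Bool) (mRel MG [T_e, T_b, T_e, T_fi, T_b, T_ci] [T_c, T_fi, T_b, T_ei] M (Nat.sub (MG u) (Nat.mod (MG u) M)) (nat_lit 40) z1 u (Nat.mod (MG u) M)) (mRel MG [T_e, T_f, T_c, T_e, T_b, T_ci] [T_ci, T_b, T_ci, T_fi] M (Nat.sub (MG u) (Nat.mod (MG u) M)) (nat_lit 40) z1 u (Nat.mod (MG u) M)) (Nat.ble (nat_lit 191) j)) (Nat.ble (nat_lit 190) j)) (Nat.ble (nat_lit 189) j)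
noncomputable def dM_47 (j z1 z2 u : ℕ) : Bool :=
  Bool.rec (motive := fun _ => Bool) (Bool.rec (motive := fun _ => Bool) (mRel MG [T_b, T_ei, T_bi, T_ei, T_ei, T_b, T_ei, T_bi] [T_e, T_e] M (Nat.sub (MG u) (Nat.mod (MG u) M)) (nat_lit 40) z1 u (Nat.mod (MG u) M)) (Bool.rec (motive := fun _ => Bool) (mRel MG [T_ci, T_f, T_f, T_ei, T_ci, T_fi, T_c, T_f] [T_e, T_c] M (Nat.sub (MG u) (Nat.mod (MG u) M)) (nat_lit 40) z1 u (Nat.mod (MG u) M)) (mRel MG [T_ei] [T_f, T_ci, T_fi, T_ci, T_ei, T_c, T_fi, T_c, T_e] M (Nat.sub (MG u) (Nat.mod (MG u) M)) (nat_lit 40) z1 u (Nat.mod (MG u) M)) (Nat.ble (nat_lit 194) j)) (Nat.ble (nat_lit 193) j)) (Bool.rec (motive := fun _ => Bool) (Bool.rec (motive := fun _ => Bool) (mRel MG [T_fi, T_fi, T_ci, T_fi, T_c, T_bi] [T_ei, T_ei, T_bi, T_ei] M (Nat.sub (MG u) (Nat.mod (MG u) M)) (nat_lit 40) z1 u (Nat.mod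 (MG u) M)) (mRel MG [T_e, T_f, T_e, T_bi] [T_c, T_bi, T_fi, T_b, T_c] M (Nat.sub (MG u) (Nat.mod (MG u) M)) (nat_lit 40) z1 u (Nat.mod (MG u) M)) (Nat.ble (nat_lit 196) j)) (Bool.rec (motive := fun _ => Bool) (mRel MG [T_c, T_ei, T_f, T_b, T_f, T_c, T_b] [T_fi, T_bi, T_ei] M (Nat.sub (MG u) (Nat.mod (MG u) M)) (nat_lit 40) z1 u (Nat.mod (MG u) M)) (mRel MG [T_f, T_ei, T_bi, T_e, T_b, T_ei] [T_ei, T_f, T_ci, T_b] M (Nat.sub (MG u) (Nat.mod (MG u) M)) (nat_lit 40) z1 u (Nat.mod (MG u) M)) (Nat.ble (nat_lit 198) j)) (Nat.ble (nat_lit 197) j)) (Nat.ble (nat_lit 195) j)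
noncomputable def dM_48 (j z1 z2 u : ℕ) : Bool :=
  Bool.rec (motive := fun _ => Bool) (dM_46 j z1 z2 u) (dM_47 j z1 z2 u) (Nat.ble (nat_lit 192) j)
noncomputable def dM_49 (j z1 z2 u : ℕ) : Bool :=
  Bool.rec (motive := fun _ => Bool) (Bool.rec (motive := fun _ => Bool) (mRel MG [T_c, T_bi, T_ei] [T_f, T_c, T_bi, T_c, T_e, T_f, T_c] M (Nat.sub (MG u) (Nat.mod (MG u) M)) (nat_lit 40) z1 u (Nat.mod (MG u) M)) (Bool.rec (motive := fun _ => Bool) (mRel MG [T_e, T_f, T_c, T_e, T_b, T_ci, T_f, T_c, T_bi] [T_ci] M (Nat.sub (MG u) (Nat.mod (MG u) M)) (nat_lit 40) z1 u (Nat.mod (MG u) M)) (mRel MG [T_e, T_c, T_f, T_c, T_fi] [T_c, T_fi, T_c, T_e, T_e] M (Nat.sub (MG u) (Nat.mod (MG u) M)) (nat_lit 40) z1 u (Nat.mod (MG u) M)) (Nat.ble (nat_lit 201) j)) (Nat.ble (nat_lit 200) j)) (Bool.rec (motive := fun _ => Bool) (Bool.rec (motive := fun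 _ => Bool) (mRel MG [T_bi, T_ci, T_ei, T_fi, T_e, T_e] [T_ci, T_fi, T_b, T_fi] M (Nat.sub (MG u) (Nat.mod (MG u) M)) (nat_lit 40) z1 u (Nat.mod (MG u) M)) (mRel MG [T_f, T_c, T_fi, T_ei, T_ei, T_ci, T_f, T_ci] [T_ci, T_ei] M (Nat.sub (MG u) (Nat.mod (MG u) M)) (nat_lit 40) z1 u (Nat.mod (MG u) M)) (Nat.ble (nat_lit 203) j)) (Bool.rec (motive := fun _ => Bool) (mRel MG [T_e, T_c, T_f, T_c, T_fi, T_ei, T_ei, T_ci] [T_c, T_fi] M (Nat.sub (MG u) (Nat.mod (MG u) M)) (nat_lit 40) z1 u (Nat.mod (MG u) M)) (mRel MG [T_f, T_e, T_bi, T_ci, T_bi, T_f] [T_ei, T_c, T_bi] M (Nat.sub (MG u) (Nat.mod (MG u) M)) (nat_lit 40) z1 u (Nat.mod (MG u) M)) (Nat.ble (nat_lit 205) j)) (Nat.ble (nat_lit 204) j)) (Nat.ble (nat_lit 202) j)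
noncomputable def dM_50 (j z1 z2 u : ℕ) : Bool :=
  Bool.rec (motive := fun _ => Bool) (Bool.rec (motive := fun _ => Bool) (mRel MG [T_e, T_f, T_ci, T_fi, T_ci, T_ei] [T_ei, T_ci, T_f, T_ci] M (Nat.sub (MG u) (Nat.mod (MG u) M)) (nat_lit 40) z1 u (Nat.mod (MG u) M)) (Bool.rec (motive := fun _ => Bool) (mRel MG [T_b, T_e, T_e, T_fi, T_fi, T_ci] [T_ei, T_b, T_ci, T_f] M (Nat.sub (MG u) (Nat.mod (MG u) M)) (nat_lit 40) z1 u (Nat.mod (MG u) M)) (mRel MG [T_ci, T_f, T_c, T_f, T_f] [T_fi, T_fi, T_ci, T_fi, T_c] M (Nat.sub (MG u) (Nat.mod (MG u) M)) (nat_lit 40) z1 u (Nat.mod (MG u) M)) (Nat.ble (nat_lit 208) j)) (Nat.ble (nat_lit 207) j)) (Bool.rec (motive := fun _ => Bool) (Bool.rec (motive := fun _ => Bool) (mRel MG [T_c, T_fi, T_c, T_e, T_e] [T_e, T_c, T_f, T_c, T_fi] M (Nat.sub (MG u) (Nat.mod (MG u) M)) (nat_lit 40) z1 u (Nat.mod (MG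 u) M)) (mRel MG [T_bi, T_ei, T_b, T_e, T_fi, T_ei] [T_ei, T_bi, T_c, T_fi] M (Nat.sub (MG u) (Nat.mod (MG u) M)) (nat_lit 40) z1 u (Nat.mod (MG u) M)) (Nat.ble (nat_lit 210) j)) (Bool.rec (motive := fun _ => Bool) (mRel MG [T_ci, T_ei] [T_f, T_c, T_fi, T_ei, T_ei, T_ci, T_f, T_ci] M (Nat.sub (MG u) (Nat.mod (MG u) M)) (nat_lit 40) z1 u (Nat.mod (MG u) M)) (mRel MG [T_b, T_ei, T_fi, T_ei] [T_ci, T_bi, T_f, T_b, T_ci] M (Nat.sub (MG u) (Nat.mod (MG u) M)) (nat_lit 40) z1 u (Nat.mod (MG u) M)) (Nat.ble (nat_lit 212) j)) (Nat.ble (nat_lit 211) j)) (Nat.ble (nat_lit 209) j)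
noncomputable def dM_51 (j z1 z2 u : ℕ) : Bool :=
  Bool.rec (motive := fun _ => Bool) (dM_49 j z1 z2 u) (dM_50 j z1 z2 u) (Nat.ble (nat_lit 206) j)
noncomputable def dM_52 (j z1 z2 u : ℕ) : Bool :=
  Bool.rec (motive := fun _ => Bool) (dM_48 j z1 z2 u) (dM_51 j z1 z2 u) (Nat.ble (nat_lit 199) j)
noncomputable def dM_53 (j z1 z2 u : ℕ) : Bool :=
  Bool.rec (motive := fun _ => Bool) (dM_45 j z1 z2 u) (dM_52 j z1 z2 u) (Nat.ble (nat_lit 186) j)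
noncomputable def dM_54 (j z1 z2 u : ℕ) : Bool :=
  Bool.rec (motive := fun _ => Bool) (dM_38 j z1 z2 u) (dM_53 j z1 z2 u) (Nat.ble (nat_lit 160) j)
noncomputable def dM_55 (j z1 z2 u : ℕ) : Bool :=
  Bool.rec (motive := fun _ => Bool) (Bool.rec (motive := fun _ => Bool) (mRel MG [T_f, T_c, T_f, T_f, T_ci, T_f] [T_c, T_fi, T_fi, T_ci] M (Nat.sub (MG u) (Nat.mod (MG u) M)) (nat_lit 40) z1 u (Nat.mod (MG u) M)) (Bool.rec (motive := fun _ => Bool) (mRel MG [T_ei, T_f] [T_ci, T_fi, T_bi, T_ei, T_bi, T_ci, T_fi, T_bi] M (Nat.sub (MG u) (Nat.mod (MG u) M)) (nat_lit 40) z1 u (Nat.mod (MG u) M)) (mRel MG [T_ei, T_ci, T_f, T_f, T_ei, T_ci, T_fi, T_c, T_f, T_ci] [] M (Nat.sub (MG u) (Nat.mod (MG u) M)) (nat_lit 40) z1 u (Nat.mod (MG u) M)) (Nat.ble (nat_lit 215) j)) (Nat.ble (nat_lit 214) j)) (Bool.rec (motive := fun _ => Bool) (mRel MG [T_d,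 T_c, T_di] [T_b] M (Nat.sub (MG u) (Nat.mod (MG u) M)) (nat_lit 40) z1 u (Nat.mod (MG u) M)) (Bool.rec (motive := fun _ => Bool) (mRel MG [T_fi, T_ei, T_ei, T_f, T_e, T_c] [T_bi, T_f, T_c, T_bi] M (Nat.sub (MG u) (Nat.mod (MG u) M)) (nat_lit 40) z1 u (Nat.mod (MG u) M)) (mRel MG [T_bi] [T_ei, T_b, T_ei, T_f, T_b, T_ei, T_b, T_ei, T_f] M (Nat.sub (MG u) (Nat.mod (MG u) M)) (nat_lit 40) z1 u (Nat.mod (MG u) M)) (Nat.ble (nat_lit 218) j)) (Nat.ble (nat_lit 217) j)) (Nat.ble (nat_lit 216) j)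
noncomputable def dM_56 (j z1 z2 u : ℕ) : Bool :=
  Bool.rec (motive := fun _ => Bool) (Bool.rec (motive := fun _ => Bool) (mRel MG [T_e, T_c, T_b, T_ci, T_fi, T_b] [T_fi, T_e, T_e, T_f] M (Nat.sub (MG u) (Nat.mod (MG u) M)) (nat_lit 40) z1 u (Nat.mod (MG u) M)) (Bool.rec (motive := fun _ => Bool) (mRel MG [T_b, T_ei, T_c, T_bi, T_f] [T_f, T_ci, T_e, T_b, T_e] M (Nat.sub (MG u) (Nat.mod (MG u) M)) (nat_lit 40) z1 u (Nat.mod (MG u) M)) (mRel MG [T_c, T_f, T_c, T_fi, T_ei, T_ei, T_ci] [T_ei, T_c, T_fi] M (Nat.sub (MG u) (Nat.mod (MG u) M)) (nat_lit 40) z1 u (Nat.mod (MG u) M)) (Nat.ble (nat_lit 221) j)) (Nat.ble (nat_lit 220) j)) (Bool.rec (motive := fun _ => Bool) (Bool.rec (motive := fun _ => Bool) (mRel MG [T_c, T_ei] [T_fi, T_bi, T_ei, T_bi, T_ci, T_fi, T_bi, T_fi] M (Nat.sub (MG u) (Nat.mod (MG u) M)) (nat_lit 40) z1 u (Nat.mod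 (MG u) M)) (mRel MG [T_fi, T_b, T_c, T_b, T_ei, T_fi, T_ei, T_c] [T_b] M (Nat.sub (MG u) (Nat.mod (MG u) M)) (nat_lit 40) z1 u (Nat.mod (MG u) M)) (Nat.ble (nat_lit 223) j)) (Bool.rec (motive := fun _ => Bool) (mRel MG [T_e, T_e, T_f, T_bi, T_f, T_c] [T_f, T_e, T_c, T_b] M (Nat.sub (MG u) (Nat.mod (MG u) M)) (nat_lit 40) z1 u (Nat.mod (MG u) M)) (mRel MG [T_f, T_b] [T_e, T_ci, T_fi, T_bi, T_ei, T_bi, T_ci, T_fi] M (Nat.sub (MG u) (Nat.mod (MG u) M)) (nat_lit 40) z1 u (Nat.mod (MG u) M)) (Nat.ble (nat_lit 225) j)) (Nat.ble (nat_lit 224) j)) (Nat.ble (nat_lit 222) j)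
noncomputable def dM_57 (j z1 z2 u : ℕ) : Bool :=
  Bool.rec (motive := fun _ => Bool) (dM_55 j z1 z2 u) (dM_56 j z1 z2 u) (Nat.ble (nat_lit 219) j)
noncomputable def dM_58 (j z1 z2 u : ℕ) : Bool :=
  Bool.rec (motive := fun _ => Bool) (Bool.rec (motive := fun _ => Bool) (mRel MG [T_f, T_ei, T_ei, T_bi, T_ei, T_b] [T_fi, T_ci, T_fi, T_c] M (Nat.sub (MG u) (Nat.mod (MG u) M)) (nat_lit 40) z1 u (Nat.mod (MG u) M)) (Bool.rec (motive := fun _ => Bool) (mRel MG [T_fi, T_e] [T_b, T_f, T_c, T_b, T_e, T_b, T_f, T_c] M (Nat.sub (MG u) (Nat.mod (MG u) M)) (nat_lit 40) z1 u (Nat.mod (MG u) M)) (mRel MG [T_b, T_f, T_c, T_ei, T_f, T_b, T_f, T_c, T_b] [T_ei] M (Nat.sub (MG u) (Nat.mod (MG u) M)) (nat_lit 40) z1 u (Nat.mod (MG u) M)) (Nat.ble (nat_lit 228) j)) (Nat.ble (nat_lit 227) j)) (Bool.rec (motive := fun _ => Bool) (mRel MG [T_ci, T_bi, T_f,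 T_b, T_ci, T_e] [T_b, T_ei, T_fi] M (Nat.sub (MG u) (Nat.mod (MG u) M)) (nat_lit 40) z1 u (Nat.mod (MG u) M)) (Bool.rec (motive := fun _ => Bool) (mRel MG [T_f, T_c, T_fi, T_ei, T_ei, T_ci, T_f] [T_ci, T_ei, T_c] M (Nat.sub (MG u) (Nat.mod (MG u) M)) (nat_lit 40) z1 u (Nat.mod (MG u) M)) (mRel MG [T_ei, T_fi, T_e, T_e, T_f, T_bi, T_f] [T_c, T_b, T_ci] M (Nat.sub (MG u) (Nat.mod (MG u) M)) (nat_lit 40) z1 u (Nat.mod (MG u) M)) (Nat.ble (nat_lit 231) j)) (Nat.ble (nat_lit 230) j)) (Nat.ble (nat_lit 229) j)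
noncomputable def dM_59 (j z1 z2 u : ℕ) : Bool :=
  Bool.rec (motive := fun _ => Bool) (Bool.rec (motive := fun _ => Bool) (mRel MG [T_ci, T_fi, T_ci, T_ei, T_c, T_fi, T_c] [T_fi, T_ei, T_ei] M (Nat.sub (MG u) (Nat.mod (MG u) M)) (nat_lit 40) z1 u (Nat.mod (MG u) M)) (Bool.rec (motive := fun _ => Bool) (mRel MG [T_b, T_e, T_fi, T_b] [T_ei, T_c, T_fi, T_b, T_ei, T_c] M (Nat.sub (MG u) (Nat.mod (MG u) M)) (nat_lit 40) z1 u (Nat.mod (MG u) M)) (mRel MG [T_d, T_fi] [T_ei, T_d] M (Nat.sub (MG u) (Nat.mod (MG u) M)) (nat_lit 40) z1 u (Nat.mod (MG u) M)) (Nat.ble (nat_lit 234) j)) (Nat.ble (nat_lit 233) j)) (Bool.rec (motive := fun _ => Bool) (Bool.rec (motive := fun _ => Bool) (mRel MG [T_ei, T_fi, T_ei, T_c, T_bi] [T_bi, T_ci, T_bi, T_f] M (Nat.sub (MG u) (Nat.mod (MG u) M)) (nat_lit 40) z1 u (Nat.mod (MG u) M)) (mRel MG [T_b, T_ci, T_f,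 T_c, T_bi, T_c, T_e] [T_ei, T_ci, T_fi] M (Nat.sub (MG u) (Nat.mod (MG u) M)) (nat_lit 40) z1 u (Nat.mod (MG u) M)) (Nat.ble (nat_lit 236) j)) (Bool.rec (motive := fun _ => Bool) (mRel MG [T_f, T_ei, T_bi, T_ei, T_c, T_fi] [T_b, T_ci, T_e, T_bi] M (Nat.sub (MG u) (Nat.mod (MG u) M)) (nat_lit 40) z1 u (Nat.mod (MG u) M)) (mRel MG [T_f, T_ci] [T_ci, T_f, T_c, T_e, T_fi, T_fi, T_c, T_e] M (Nat.sub (MG u) (Nat.mod (MG u) M)) (nat_lit 40) z1 u (Nat.mod (MG u) M)) (Nat.ble (nat_lit 238) j)) (Nat.ble (nat_lit 237) j)) (Nat.ble (nat_lit 235) j)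
noncomputable def dM_60 (j z1 z2 u : ℕ) : Bool :=
  Bool.rec (motive := fun _ => Bool) (dM_58 j z1 z2 u) (dM_59 j z1 z2 u) (Nat.ble (nat_lit 232) j)
noncomputable def dM_61 (j z1 z2 u : ℕ) : Bool :=
  Bool.rec (motive := fun _ => Bool) (dM_57 j z1 z2 u) (dM_60 j z1 z2 u) (Nat.ble (nat_lit 226) j)
noncomputable def dM_62 (j z1 z2 u : ℕ) : Bool :=
  Bool.rec (motive := fun _ => Bool) (Bool.rec (motive := fun _ => Bool) (mRel MG [T_f, T_e, T_bi, T_ci] [T_ei, T_c, T_bi, T_fi, T_b] M (Nat.sub (MG u) (Nat.mod (MG u) M)) (nat_lit 40) z1 u (Nat.mod (MG u) M)) (Bool.rec (motive := fun _ => Bool) (mRel MG [T_fi, T_b, T_ei, T_c, T_bi] [T_ci, T_e, T_b, T_e, T_fi] M (Nat.sub (MG u) (Nat.mod (MG u) M)) (nat_lit 40) z1 u (Nat.mod (MG u) M)) (mRel MG [T_bi, T_ei, T_ei, T_b, T_ei, T_bi] [T_e, T_bi, T_e, T_e] M (Nat.sub (MG u) (Nat.mod (MG u) M)) (nat_lit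 40) z1 u (Nat.mod (MG u) M)) (Nat.ble (nat_lit 241) j)) (Nat.ble (nat_lit 240) j)) (Bool.rec (motive := fun _ => Bool) (mRel MG [T_ci, T_f, T_ci, T_e, T_c] [T_e, T_e, T_f, T_ci, T_fi] M (Nat.sub (MG u) (Nat.mod (MG u) M)) (nat_lit 40) z1 u (Nat.mod (MG u) M)) (Bool.rec (motive := fun _ => Bool) (mRel MG [T_ci, T_f, T_c, T_e, T_fi, T_fi] [T_f, T_ci, T_ei, T_ci] M (Nat.sub (MG u) (Nat.mod (MG u) M)) (nat_lit 40) z1 u (Nat.mod (MG u) M)) (mRel MG [T_ci, T_e, T_bi, T_f, T_ci, T_e, T_b, T_e, T_fi] [T_bi] M (Nat.sub (MG u) (Nat.mod (MG u) M)) (nat_lit 40) z1 u (Nat.mod (MG u) M)) (Nat.ble (nat_lit 244) j)) (Nat.ble (nat_lit 243) j)) (Nat.ble (nat_lit 242) j)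
noncomputable def dM_63 (j z1 z2 u : ℕ) : Bool :=
  Bool.rec (motive := fun _ => Bool) (Bool.rec (motive := fun _ => Bool) (mRel MG [T_c, T_e, T_fi, T_fi] [T_fi, T_c, T_f, T_ci, T_ei, T_ci] M (Nat.sub (MG u) (Nat.mod (MG u) M)) (nat_lit 40) z1 u (Nat.mod (MG u) M)) (Bool.rec (motive := fun _ => Bool) (mRel MG [T_c, T_fi, T_c, T_e, T_e, T_f, T_ci, T_fi, T_ci] [T_e] M (Nat.sub (MG u) (Nat.mod (MG u) M)) (nat_lit 40) z1 u (Nat.mod (MG u) M)) (mRel MG [T_d, T_ci, T_di] [T_bi] M (Nat.sub (MG u) (Nat.mod (MG u) M)) (nat_lit 40) z1 u (Nat.mod (MG u) M)) (Nat.ble (nat_lit 247) j)) (Nat.ble (nat_lit 246) j)) (Bool.rec (motive := fun _ => Bool) (Bool.rec (motive := fun _ => Bool) (mRel MG [T_f, T_b] [T_b, T_c, T_b, T_ei, T_fi, T_ei, T_c] M (Nat.sub (MG u) (Nat.mod (MG u) M)) (nat_lit 40) z1 u (Nat.mod (MG u) M)) (mRel MG [T_ei, T_ci] [T_f,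 T_c, T_e, T_b, T_ci, T_f, T_c, T_bi] M (Nat.sub (MG u) (Nat.mod (MG u) M)) (nat_lit 40) z1 u (Nat.mod (MG u) M)) (Nat.ble (nat_lit 249) j)) (Bool.rec (motive := fun _ => Bool) (mRel MG [T_ei, T_bi, T_e, T_b, T_ei, T_bi, T_c, T_fi, T_e] [T_fi] M (Nat.sub (MG u) (Nat.mod (MG u) M)) (nat_lit 40) z1 u (Nat.mod (MG u) M)) (mRel MG [T_e, T_f, T_e, T_bi, T_ci, T_bi, T_f] [T_c, T_bi] M (Nat.sub (MG u) (Nat.mod (MG u) M)) (nat_lit 40) z1 u (Nat.mod (MG u) M)) (Nat.ble (nat_lit 251) j)) (Nat.ble (nat_lit 250) j)) (Nat.ble (nat_lit 248) j)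
noncomputable def dM_64 (j z1 z2 u : ℕ) : Bool :=
  Bool.rec (motive := fun _ => Bool) (dM_62 j z1 z2 u) (dM_63 j z1 z2 u) (Nat.ble (nat_lit 245) j)
noncomputable def dM_65 (j z1 z2 u : ℕ) : Bool :=
  Bool.rec (motive := fun _ => Bool) (Bool.rec (motive := fun _ => Bool) (mRel MG [T_c, T_bi, T_fi, T_b, T_c] [T_e, T_f, T_e, T_bi] M (Nat.sub (MG u) (Nat.mod (MG u) M)) (nat_lit 40) z1 u (Nat.mod (MG u) M)) (Bool.rec (motive := fun _ => Bool) (mRel MG [T_e, T_bi] [T_fi, T_ei, T_c, T_bi, T_fi, T_b, T_c] M (Nat.sub (MG u) (Nat.mod (MG u) M)) (nat_lit 40) z1 u (Nat.mod (MG u) M)) (mRel MG [T_f, T_e, T_c, T_b, T_ci] [T_e, T_e, T_f, T_bi, T_f] M (Nat.sub (MG u) (Nat.mod (MG u) M)) (nat_lit 40) z1 u (Nat.mod (MG u) M)) (Nat.ble (nat_lit 254) j)) (Nat.ble (nat_lit 253) j)) (Bool.rec (motive := fun _ => Bool) (Bool.rec (motive := fun _ => Bool)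 (mRel MG [T_fi, T_c, T_bi, T_ei, T_ci] [T_c, T_bi, T_c, T_e, T_f] M (Nat.sub (MG u) (Nat.mod (MG u) M)) (nat_lit 40) z1 u (Nat.mod (MG u) M)) (mRel MG [T_b, T_e] [T_ei, T_c, T_fi, T_b, T_ei, T_c, T_bi, T_f] M (Nat.sub (MG u) (Nat.mod (MG u) M)) (nat_lit 40) z1 u (Nat.mod (MG u) M)) (Nat.ble (nat_lit 256) j)) (Bool.rec (motive := fun _ => Bool) (mRel MG [T_ei, T_b, T_ei, T_f, T_b, T_ei, T_b, T_ei, T_f] [T_bi] M (Nat.sub (MG u) (Nat.mod (MG u) M)) (nat_lit 40) z1 u (Nat.mod (MG u) M)) (mRel MG [T_ci, T_bi, T_f, T_b] [T_b, T_ei, T_fi, T_ei, T_c] M (Nat.sub (MG u) (Nat.mod (MG u) M)) (nat_lit 40) z1 u (Nat.mod (MG u) M)) (Nat.ble (nat_lit 258) j)) (Nat.ble (nat_lit 257) j)) (Nat.ble (nat_lit 255) j)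
noncomputable def dM_66 (j z1 z2 u : ℕ) : Bool :=
  Bool.rec (motive := fun _ => Bool) (Bool.rec (motive := fun _ => Bool) (mRel MG [T_d, T_fi, T_di] [T_ei] M (Nat.sub (MG u) (Nat.mod (MG u) M)) (nat_lit 40) z1 u (Nat.mod (MG u) M)) (Bool.rec (motive := fun _ => Bool) (mRel MG [T_f, T_ci, T_fi, T_ci, T_ei, T_c, T_fi, T_c] [T_ei, T_ei] M (Nat.sub (MG u) (Nat.mod (MG u) M)) (nat_lit 40) z1 u (Nat.mod (MG u) M)) (mRel MG [T_fi, T_fi, T_ci, T_fi, T_c, T_fi, T_fi, T_ci, T_fi, T_c] [] M (Nat.sub (MG u) (Nat.mod (MG u) M)) (nat_lit 40) z1 u (Nat.mod (MG u) M)) (Nat.ble (nat_lit 261) j)) (Nat.ble (nat_lit 260) j)) (Bool.rec (motive := fun _ => Bool) (Bool.rec (motive := fun _ => Bool) (mRel MG [T_ei, T_bi, T_ei, T_c, T_fi, T_b, T_ei, T_c] [T_fi, T_b] M (Nat.sub (MG u) (Nat.mod (MG u) M)) (nat_lit 40) z1 u (Nat.mod (MG u) M)) (mRel MG [T_f,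 T_f, T_ci, T_f, T_c, T_f, T_f, T_ci] [T_ci, T_fi] M (Nat.sub (MG u) (Nat.mod (MG u) M)) (nat_lit 40) z1 u (Nat.mod (MG u) M)) (Nat.ble (nat_lit 263) j)) (Bool.rec (motive := fun _ => Bool) (mRel MG [T_f, T_b, T_ei, T_b, T_ei, T_f] [T_e, T_bi, T_e, T_bi] M (Nat.sub (MG u) (Nat.mod (MG u) M)) (nat_lit 40) z1 u (Nat.mod (MG u) M)) (mRel MG [T_ei, T_fi] [T_c, T_b, T_ci, T_fi, T_b, T_fi, T_ei, T_ei] M (Nat.sub (MG u) (Nat.mod (MG u) M)) (nat_lit 40) z1 u (Nat.mod (MG u) M)) (Nat.ble (nat_lit 265) j)) (Nat.ble (nat_lit 264) j)) (Nat.ble (nat_lit 262) j)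
noncomputable def dM_67 (j z1 z2 u : ℕ) : Bool :=
  Bool.rec (motive := fun _ => Bool) (dM_65 j z1 z2 u) (dM_66 j z1 z2 u) (Nat.ble (nat_lit 259) j)
noncomputable def dM_68 (j z1 z2 u : ℕ) : Bool :=
  Bool.rec (motive := fun _ => Bool) (dM_64 j z1 z2 u) (dM_67 j z1 z2 u) (Nat.ble (nat_lit 252) j)
noncomputable def dM_69 (j z1 z2 u : ℕ) : Bool :=
  Bool.rec (motive := fun _ => Bool) (dM_61 j z1 z2 u) (dM_68 j z1 z2 u) (Nat.ble (nat_lit 239) j)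
noncomputable def dM_70 (j z1 z2 u : ℕ) : Bool :=
  Bool.rec (motive := fun _ => Bool) (Bool.rec (motive := fun _ => Bool) (mRel MG [T_bi, T_ei, T_c, T_fi, T_b, T_ei, T_c, T_bi] [T_e, T_fi] M (Nat.sub (MG u) (Nat.mod (MG u) M)) (nat_lit 40) z1 u (Nat.mod (MG u) M)) (Bool.rec (motive := fun _ => Bool) (mRel MG [T_fi, T_ci, T_ei, T_c] [T_c, T_fi, T_ei, T_ei, T_ci, T_f] M (Nat.sub (MG u) (Nat.mod (MG u) M)) (nat_lit 40) z1 u (Nat.mod (MG u) M)) (mRel MG [T_ci, T_fi, T_bi, T_ei, T_bi] [T_ei, T_f, T_b, T_f, T_c] M (Nat.sub (MG u) (Nat.mod (MG u) M)) (nat_lit 40) z1 u (Nat.mod (MG u) M)) (Nat.ble (nat_lit 268) j)) (Nat.ble (nat_lit 267) j)) (Bool.rec (motive := fun _ => Bool) (mRel MG [T_fi, T_c, T_e] [T_f, T_ei, T_ci, T_fi, T_c, T_f, T_ci] M (Nat.sub (MG u) (Nat.mod (MG u) M)) (nat_lit 40) z1 u (Nat.mod (MG u) M)) (Bool.rec (motive :=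 fun _ => Bool) (mRel MG [T_ci, T_e, T_c, T_f, T_c, T_fi, T_ei] [T_fi, T_c, T_e] M (Nat.sub (MG u) (Nat.mod (MG u) M)) (nat_lit 40) z1 u (Nat.mod (MG u) M)) (mRel MG [T_c, T_e] [T_b, T_ci, T_fi, T_c, T_bi, T_ei, T_ci, T_fi] M (Nat.sub (MG u) (Nat.mod (MG u) M)) (nat_lit 40) z1 u (Nat.mod (MG u) M)) (Nat.ble (nat_lit 271) j)) (Nat.ble (nat_lit 270) j)) (Nat.ble (nat_lit 269) j)
noncomputable def dM_71 (j z1 z2 u : ℕ) : Bool :=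
  Bool.rec (motive := fun _ => Bool) (Bool.rec (motive := fun _ => Bool) (mRel MG [T_c, T_b, T_ci] [T_ei, T_fi, T_e, T_e, T_f, T_bi, T_f] M (Nat.sub (MG u) (Nat.mod (MG u) M)) (nat_lit 40) z1 u (Nat.mod (MG u) M)) (Bool.rec (motive := fun _ => Bool) (mRel MG [T_di, T_b, T_d] [T_c] M (Nat.sub (MG u) (Nat.mod (MG u) M)) (nat_lit 40) z1 u (Nat.mod (MG u) M)) (mRel MG [T_c, T_bi, T_fi] [T_e, T_f, T_e, T_bi, T_ci, T_bi] M (Nat.sub (MG u) (Nat.mod (MG u) M)) (nat_lit 40) z1 u (Nat.mod (MG u) M)) (Nat.ble (nat_lit 274) j)) (Nat.ble (nat_lit 273) j)) (Bool.rec (motive := fun _ => Bool) (Bool.rec (motive := fun _ => Bool) (mRel MG [T_fi, T_ei, T_ei, T_f] [T_bi, T_f, T_c, T_bi, T_ci, T_ei] M (Nat.sub (MG u) (Nat.mod (MG u) M)) (nat_lit 40) z1 u (Nat.mod (MG u) M)) (mRel MG [T_c, T_e] [T_f, T_ci, T_e, T_c, T_f, T_c, T_fi, T_ei] M (Nat.sub (MG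 u) (Nat.mod (MG u) M)) (nat_lit 40) z1 u (Nat.mod (MG u) M)) (Nat.ble (nat_lit 276) j)) (Bool.rec (motive := fun _ => Bool) (mRel MG [T_bi, T_ei, T_b, T_e] [T_ei, T_bi, T_c, T_fi, T_e, T_f] M (Nat.sub (MG u) (Nat.mod (MG u) M)) (nat_lit 40) z1 u (Nat.mod (MG u) M)) (mRel MG [T_c, T_bi, T_f, T_ei, T_bi, T_ei, T_c] [T_e, T_bi, T_f] M (Nat.sub (MG u) (Nat.mod (MG u) M)) (nat_lit 40) z1 u (Nat.mod (MG u) M)) (Nat.ble (nat_lit 278) j)) (Nat.ble (nat_lit 277) j)) (Nat.ble (nat_lit 275) j)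
noncomputable def dM_72 (j z1 z2 u : ℕ) : Bool :=
  Bool.rec (motive := fun _ => Bool) (dM_70 j z1 z2 u) (dM_71 j z1 z2 u) (Nat.ble (nat_lit 272) j)
noncomputable def dM_73 (j z1 z2 u : ℕ) : Bool :=
  Bool.rec (motive := fun _ => Bool) (Bool.rec (motive := fun _ => Bool) (mRel MG [T_f, T_b, T_ci, T_e, T_f, T_e, T_bi] [T_b, T_c] M (Nat.sub (MG u) (Nat.mod (MG u) M)) (nat_lit 40) z1 u (Nat.mod (MG u) M)) (Bool.rec (motive := fun _ => Bool) (mRel MG [T_fi, T_fi] [T_ei, T_ei, T_bi, T_ei, T_b, T_ci, T_f, T_c] M (Nat.sub (MG u) (Nat.mod (MG u) M)) (nat_lit 40) z1 u (Nat.mod (MG u) M)) (mRel MG [T_bi, T_ei, T_b, T_ci, T_f, T_c] [T_e, T_e, T_fi, T_fi] M (Nat.sub (MG u) (Nat.mod (MG u) M)) (nat_lit 40) z1 u (Nat.mod (MG u) M)) (Nat.ble (nat_lit 281) j)) (Nat.ble (nat_lit 280) j)) (Bool.rec (motive := fun _ => Bool) (mRel MG [T_bi, T_ci, T_bi,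 T_f, T_b] [T_ei, T_fi, T_ei, T_c] M (Nat.sub (MG u) (Nat.mod (MG u) M)) (nat_lit 40) z1 u (Nat.mod (MG u) M)) (Bool.rec (motive := fun _ => Bool) (mRel MG [T_c, T_bi, T_fi, T_b, T_c, T_b, T_ei] [T_e, T_f] M (Nat.sub (MG u) (Nat.mod (MG u) M)) (nat_lit 40) z1 u (Nat.mod (MG u) M)) (mRel MG [T_bi, T_fi] [T_f, T_c, T_b, T_e, T_b, T_f, T_c, T_ei] M (Nat.sub (MG u) (Nat.mod (MG u) M)) (nat_lit 40) z1 u (Nat.mod (MG u) M)) (Nat.ble (nat_lit 284) j)) (Nat.ble (nat_lit 283) j)) (Nat.ble (nat_lit 282) j)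
noncomputable def dM_74 (j z1 z2 u : ℕ) : Bool :=
  Bool.rec (motive := fun _ => Bool) (Bool.rec (motive := fun _ => Bool) (mRel MG [T_bi, T_f, T_ei, T_bi, T_ei, T_c] [T_ci, T_e, T_bi, T_f] M (Nat.sub (MG u) (Nat.mod (MG u) M)) (nat_lit 40) z1 u (Nat.mod (MG u) M)) (Bool.rec (motive := fun _ => Bool) (mRel MG [T_bi, T_ci, T_fi] [T_e, T_b, T_f, T_c, T_ei, T_f, T_b] M (Nat.sub (MG u) (Nat.mod (MG u) M)) (nat_lit 40) z1 u (Nat.mod (MG u) M)) (mRel MG [T_ci, T_ei, T_c, T_fi, T_c, T_e] [T_f, T_c, T_fi, T_ei] M (Nat.sub (MG u) (Nat.mod (MG u) M)) (nat_lit 40) z1 u (Nat.mod (MG u) M)) (Nat.ble (nat_lit 287) j)) (Nat.ble (nat_lit 286) j)) (Bool.rec (motive := fun _ => Bool) (Bool.rec (motive := fun _ => Bool) (mRel MG [T_c, T_b, T_ei, T_fi, T_ei, T_c] [T_bi, T_f, T_b] M (Nat.sub (MG u) (Nat.mod (MG u) M)) (nat_lit 40) z1 u (Nat.mod (MG u)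 M)) (mRel MG [T_b, T_fi, T_ei, T_ei, T_f, T_e] [T_f, T_c, T_bi, T_ci] M (Nat.sub (MG u) (Nat.mod (MG u) M)) (nat_lit 40) z1 u (Nat.mod (MG u) M)) (Nat.ble (nat_lit 289) j)) (Bool.rec (motive := fun _ => Bool) (mRel MG [T_ei, T_b, T_e, T_fi, T_ei] [T_b, T_ei, T_bi, T_c, T_fi] M (Nat.sub (MG u) (Nat.mod (MG u) M)) (nat_lit 40) z1 u (Nat.mod (MG u) M)) (mRel MG [T_ei, T_b, T_ei, T_f, T_b, T_ei, T_b, T_ei] [T_bi, T_fi] M (Nat.sub (MG u) (Nat.mod (MG u) M)) (nat_lit 40) z1 u (Nat.mod (MG u) M)) (Nat.ble (nat_lit 291) j)) (Nat.ble (nat_lit 290) j)) (Nat.ble (nat_lit 288) j)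
noncomputable def dM_75 (j z1 z2 u : ℕ) : Bool :=
  Bool.rec (motive := fun _ => Bool) (dM_73 j z1 z2 u) (dM_74 j z1 z2 u) (Nat.ble (nat_lit 285) j)
noncomputable def dM_76 (j z1 z2 u : ℕ) : Bool :=
  Bool.rec (motive := fun _ => Bool) (dM_72 j z1 z2 u) (dM_75 j z1 z2 u) (Nat.ble (nat_lit 279) j)
noncomputable def dM_77 (j z1 z2 u : ℕ) : Bool :=
  Bool.rec (motive := fun _ => Bool) (Bool.rec (motive := fun _ => Bool) (mRel MG [T_fi, T_di, T_e] [T_di] M (Nat.sub (MG u) (Nat.mod (MG u) M)) (nat_lit 40) z1 u (Nat.mod (MG u) M)) (Bool.rec (motive := fun _ => Bool) (mRel MG [T_ci, T_e, T_f, T_e, T_bi] [T_bi, T_fi, T_b, T_c] M (Nat.sub (MG u) (Nat.mod (MG u) M)) (nat_lit 40) z1 u (Nat.mod (MG u) M)) (mRel MG [T_fi, T_e] [T_ci, T_b, T_e, T_bi, T_ei, T_b, T_e, T_fi] M (Nat.sub (MG u) (Nat.mod (MG u) M)) (nat_lit 40) z1 u (Nat.mod (MG u) M))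 (Nat.ble (nat_lit 294) j)) (Nat.ble (nat_lit 293) j)) (Bool.rec (motive := fun _ => Bool) (mRel MG [T_ci, T_e, T_b, T_e, T_fi, T_b, T_ci] [T_fi, T_b, T_ei] M (Nat.sub (MG u) (Nat.mod (MG u) M)) (nat_lit 40) z1 u (Nat.mod (MG u) M)) (Bool.rec (motive := fun _ => Bool) (mRel MG [T_ci, T_fi] [T_b, T_e, T_b, T_f, T_c, T_ei, T_f, T_b] M (Nat.sub (MG u) (Nat.mod (MG u) M)) (nat_lit 40) z1 u (Nat.mod (MG u) M)) (mRel MG [T_e, T_f, T_e, T_bi, T_ci, T_bi, T_f, T_b] [T_c] M (Nat.sub (MG u) (Nat.mod (MG u) M)) (nat_lit 40) z1 u (Nat.mod (MG u) M)) (Nat.ble (nat_lit 297) j)) (Nat.ble (nat_lit 296) j)) (Nat.ble (nat_lit 295) j)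
noncomputable def dM_78 (j z1 z2 u : ℕ) : Bool :=
  Bool.rec (motive := fun _ => Bool) (Bool.rec (motive := fun _ => Bool) (mRel MG [T_d, T_f] [T_e, T_d] M (Nat.sub (MG u) (Nat.mod (MG u) M)) (nat_lit 40) z1 u (Nat.mod (MG u) M)) (Bool.rec (motive := fun _ => Bool) (mRel MG [T_ei, T_c, T_bi, T_fi] [T_f, T_e, T_bi, T_ci, T_bi] M (Nat.sub (MG u) (Nat.mod (MG u) M)) (nat_lit 40) z1 u (Nat.mod (MG u) M)) (mRel MG [T_ei, T_c] [T_f, T_e, T_bi, T_ci, T_bi, T_f, T_b] M (Nat.sub (MG u) (Nat.mod (MG u) M)) (nat_lit 40) z1 u (Nat.mod (MG u) M)) (Nat.ble (nat_lit 300) j)) (Nat.ble (nat_lit 299) j)) (Bool.rec (motive := fun _ => Bool) (Bool.rec (motive := fun _ => Bool) (mRel MG [T_c, T_b, T_ei, T_fi] [T_bi, T_f, T_b, T_ci, T_e] M (Nat.sub (MG u) (Nat.mod (MG u) M)) (nat_lit 40) z1 u (Nat.mod (MG u) M)) (mRel MG [T_c, T_fi, T_ei, T_ei, T_ci, T_f,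 T_ci, T_e] [T_fi, T_ci] M (Nat.sub (MG u) (Nat.mod (MG u) M)) (nat_lit 40) z1 u (Nat.mod (MG u) M)) (Nat.ble (nat_lit 302) j)) (Bool.rec (motive := fun _ => Bool) (mRel MG [T_b, T_c] [T_f, T_b, T_ci, T_e, T_f, T_e, T_bi] M (Nat.sub (MG u) (Nat.mod (MG u) M)) (nat_lit 40) z1 u (Nat.mod (MG u) M)) (mRel MG [T_f, T_ei] [T_b, T_ci, T_e, T_bi, T_f, T_ci, T_e, T_b] M (Nat.sub (MG u) (Nat.mod (MG u) M)) (nat_lit 40) z1 u (Nat.mod (MG u) M)) (Nat.ble (nat_lit 304) j)) (Nat.ble (nat_lit 303) j)) (Nat.ble (nat_lit 301) j)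
noncomputable def dM_79 (j z1 z2 u : ℕ) : Bool :=
  Bool.rec (motive := fun _ => Bool) (dM_77 j z1 z2 u) (dM_78 j z1 z2 u) (Nat.ble (nat_lit 298) j)
noncomputable def dM_80 (j z1 z2 u : ℕ) : Bool :=
  Bool.rec (motive := fun _ => Bool) (Bool.rec (motive := fun _ => Bool) (mRel MG [T_f, T_e] [T_ei, T_c, T_bi, T_fi, T_b, T_c, T_b] M (Nat.sub (MG u) (Nat.mod (MG u) M)) (nat_lit 40) z1 u (Nat.mod (MG u) M)) (Bool.rec (motive := fun _ => Bool) (mRel MG [T_bi, T_ci, T_bi, T_f, T_b, T_ci] [T_ei, T_fi, T_ei] M (Nat.sub (MG u) (Nat.mod (MG u) M)) (nat_lit 40) z1 u (Nat.mod (MG u) M)) (mRel MG [T_di, T_e] [T_f, T_di] M (Nat.sub (MG u) (Nat.mod (MG u) M)) (nat_lit 40) z1 u (Nat.mod (MG u) M)) (Nat.ble (nat_lit 307) j)) (Nat.ble (nat_lit 306) j)) (Bool.rec (motive := fun _ => Bool) (Bool.rec (motive := fun _ => Bool) (mRel MG [T_fi, T_di] [T_di,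 T_ei] M (Nat.sub (MG u) (Nat.mod (MG u) M)) (nat_lit 40) z1 u (Nat.mod (MG u) M)) (mRel MG [T_e, T_b, T_f, T_c, T_ei] [T_bi, T_ci, T_fi, T_bi, T_fi] M (Nat.sub (MG u) (Nat.mod (MG u) M)) (nat_lit 40) z1 u (Nat.mod (MG u) M)) (Nat.ble (nat_lit 309) j)) (Bool.rec (motive := fun _ => Bool) (mRel MG [T_b, T_f, T_c, T_ei, T_f, T_b, T_f] [T_ei, T_bi, T_ci] M (Nat.sub (MG u) (Nat.mod (MG u) M)) (nat_lit 40) z1 u (Nat.mod (MG u) M)) (mRel MG [T_f, T_di, T_ei] [T_di] M (Nat.sub (MG u) (Nat.mod (MG u) M)) (nat_lit 40) z1 u (Nat.mod (MG u) M)) (Nat.ble (nat_lit 311) j)) (Nat.ble (nat_lit 310) j)) (Nat.ble (nat_lit 308) j)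
noncomputable def dM_81 (j z1 z2 u : ℕ) : Bool :=
  Bool.rec (motive := fun _ => Bool) (Bool.rec (motive := fun _ => Bool) (mRel MG [T_fi, T_ci, T_ei, T_c, T_fi, T_c] [T_c, T_fi, T_ei, T_ei] M (Nat.sub (MG u) (Nat.mod (MG u) M)) (nat_lit 40) z1 u (Nat.mod (MG u) M)) (Bool.rec (motive := fun _ => Bool) (mRel MG [T_bi, T_c, T_fi, T_e, T_f] [T_e, T_bi, T_ei, T_b, T_e] M (Nat.sub (MG u) (Nat.mod (MG u) M)) (nat_lit 40) z1 u (Nat.mod (MG u) M)) (mRel MG [T_b, T_ci, T_e, T_f, T_e] [T_fi, T_b, T_c, T_b] M (Nat.sub (MG u) (Nat.mod (MG u) M)) (nat_lit 40) z1 u (Nat.mod (MG u) M)) (Nat.ble (nat_lit 314) j)) (Nat.ble (nat_lit 313) j)) (Bool.rec (motive := fun _ => Bool) (Bool.rec (motive := fun _ => Bool) (mRel MG [T_fi, T_bi] [T_c, T_ei, T_f, T_b, T_f, T_c, T_b, T_e] M (Nat.sub (MG u) (Nat.mod (MG u) M)) (nat_lit 40) z1 u (Nat.mod (MG u) M))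 (mRel MG [T_f, T_c, T_e, T_b, T_ci, T_f, T_c, T_bi] [T_ei, T_ci] M (Nat.sub (MG u) (Nat.mod (MG u) M)) (nat_lit 40) z1 u (Nat.mod (MG u) M)) (Nat.ble (nat_lit 316) j)) (Bool.rec (motive := fun _ => Bool) (mRel MG [T_e, T_bi, T_fi, T_e, T_bi, T_e, T_bi] [T_b, T_ei, T_f] M (Nat.sub (MG u) (Nat.mod (MG u) M)) (nat_lit 40) z1 u (Nat.mod (MG u) M)) (mRel MG [T_b, T_c, T_b] [T_f, T_b, T_ci, T_e, T_f, T_e] M (Nat.sub (MG u) (Nat.mod (MG u) M)) (nat_lit 40) z1 u (Nat.mod (MG u) M)) (Nat.ble (nat_lit 318) j)) (Nat.ble (nat_lit 317) j)) (Nat.ble (nat_lit 315) j)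
noncomputable def dM_82 (j z1 z2 u : ℕ) : Bool :=
  Bool.rec (motive := fun _ => Bool) (dM_80 j z1 z2 u) (dM_81 j z1 z2 u) (Nat.ble (nat_lit 312) j)
noncomputable def dM_83 (j z1 z2 u : ℕ) : Bool :=
  Bool.rec (motive := fun _ => Bool) (dM_79 j z1 z2 u) (dM_82 j z1 z2 u) (Nat.ble (nat_lit 305) j)
noncomputable def dM_84 (j z1 z2 u : ℕ) : Bool :=
  Bool.rec (motive := fun _ => Bool) (dM_76 j z1 z2 u) (dM_83 j z1 z2 u) (Nat.ble (nat_lit 292) j)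
noncomputable def dM_85 (j z1 z2 u : ℕ) : Bool :=
  Bool.rec (motive := fun _ => Bool) (dM_69 j z1 z2 u) (dM_84 j z1 z2 u) (Nat.ble (nat_lit 266) j)
noncomputable def dM_86 (j z1 z2 u : ℕ) : Bool :=
  Bool.rec (motive := fun _ => Bool) (dM_54 j z1 z2 u) (dM_85 j z1 z2 u) (Nat.ble (nat_lit 213) j)
noncomputable def dM_87 (j z1 z2 u : ℕ) : Bool :=
  Bool.rec (motive := fun _ => Bool) (dM_23 j z1 z2 u) (dM_86 j z1 z2 u) (Nat.ble (nat_lit 108) j)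
noncomputable def dM_88 (j z1 z2 u : ℕ) : Bool :=
  Bool.rec (motive := fun _ => Bool) (dM_0 j z1 z2 u) (dM_87 j z1 z2 u) (Nat.ble (nat_lit 12) j)
noncomputable def chkM (u : ℕ) : Bool :=
  Bool.rec (motive := fun _ => Bool) (band (Nat.ble (Nat.succ (Nat.mod (MG u) M)) u) (dM_88 (Nat.land (MR u) (nat_lit 511)) (Nat.land (Nat.shiftRight (MR u) (nat_lit 9)) (nat_lit 8191)) (Nat.shiftRight (MR u) (nat_lit 22)) u)) true (Nat.ble A (MG u))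
noncomputable def chkN (u : ℕ) : Bool :=
  band (chk_b (Nat.land (Nat.shiftRight (RS u) (nat_lit 0)) (nat_lit 127)) u) (band (chk_bi (Nat.land (Nat.shiftRight (RS u) (nat_lit 7)) (nat_lit 127)) u) (band (chk_e (Nat.land (Nat.shiftRight (RS u) (nat_lit 14)) (nat_lit 127)) u) (band (chk_ei (Nat.land (Nat.shiftRight (RS u) (nat_lit 21)) (nat_lit 127)) u) (band (chk_c (Nat.land (Nat.shiftRight (RS u) (nat_lit 28)) (nat_lit 127)) u) (band (chk_ci (Nat.land (Nat.shiftRight (RS u) (nat_lit 35)) (nat_lit 127)) u) (band (chk_f (Nat.land (Nat.shiftRight (RS u) (nat_lit 42)) (nat_lit 127)) u) (band (chk_fi (Nat.land (Nat.shiftRight (RS u) (nat_lit 49)) (nat_lit 127)) u) (band (chk_d (Nat.land (Nat.shiftRight (RS u) (nat_lit 56)) (nat_lit 127)) u) (band (chk_di (Nat.land (Nat.shiftRight (RS u) (nat_lit 63)) (nat_lit 127)) u) (chkM u))))))))))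
noncomputable def chkP (u : ℕ) : Bool := Bool.rec (motive := fun _ => Bool) (chkN u) true (Nat.ble M u)
noncomputable def liveP (u : ℕ) : Bool := Bool.rec (motive := fun _ => Bool) (Nat.ble A (MG u)) false (Nat.ble M u)
end H35.TCMHeA
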